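import Cfsg.Agent.Lib.Involutions.RankOne.Char.Product.Central

/-!
# The irreducible characters `α ⊗ λ` of `Q`
-/

set_option autoImplicit false
set_option linter.unusedSectionVars false

namespace Cfsg.Agent.Involutions.RankOne.Char

open Cfsg.Agent.Characters
open scoped ComplexConjugate

universe u v

variable {G : Type u} {Ω : Type v} [Group G] [Finite G] [MulAction G Ω] {a : Ω}
variable {Q E S O : Subgroup G} (sp : Split a Q E S O)
include sp

/-- The product of characters of the two factors. -/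
noncomputable def Split.prodChar (α : Cfsg.IrrCharacter S) (β : Cfsg.IrrCharacter O) :
    Cfsg.IrrCharacter Q :=
  ⟨fun x => (α : S → ℂ) (sp.equiv.symm x).1 * (β : O → ℂ) (sp.equiv.symm x).2,
    (isIrrCharacter_comp_mulEquiv sp.equiv.symm).2 (irr_prod α.2 β.2)⟩

theorem Split.prodChar_apply (α : Cfsg.IrrCharacter S) (β : Cfsg.IrrCharacter O) {q : Q} {x : S}
    {y : O} (h : (q : G) = (x : G) * (y : G)) :
    (sp.prodChar α β : Q → ℂ) q = (α : S → ℂ) x * (β : O → ℂ) y := by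
  have : sp.equiv.symm q = (x, y) := by
    rw [MulEquiv.symm_apply_eq]
    exact Subtype.ext h
  show (α : S → ℂ) (sp.equiv.symm q).1 * (β : O → ℂ) (sp.equiv.symm q).2 = _
  rw [this]

theorem Split.prodChar_one (α : Cfsg.IrrCharacter S) (β : Cfsg.IrrCharacter O) :
    (sp.prodChar α β : Q → ℂ) 1 = (α : S → ℂ) 1 * (β : O → ℂ) 1 :=
  sp.prodChar_apply α β (x := 1) (y := 1) (by simp)

theorem Split.prodChar_inj {α α' : Cfsg.IrrCharacter S} {β β' : Cfsg.IrrCharacter O}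
    (h : sp.prodChar α β = sp.prodChar α' β') : α = α' ∧ β = β' := by
  classical
  haveI := Fintype.ofFinite S
  have hv : ∀ (x : S) (y : O),
      (α : S → ℂ) x * (β : O → ℂ) y = (α' : S → ℂ) x * (β' : O → ℂ) y := fun x y => by
    have he := congrFun (congrArg Subtype.val h) (sp.equiv (x, y))
    rwa [sp.prodChar_apply α β (sp.equiv_apply (x, y)),
      sp.prodChar_apply α' β' (sp.equiv_apply (x, y))] at he
  have hb := irr_one_ne_zero β.2
  have hα : (α : S → ℂ) = ((β' : O → ℂ) 1 / (β : O → ℂ) 1) • (α' : S → ℂ) := funext fun x => by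
    rw [Pi.smul_apply, smul_eq_mul, div_mul_eq_mul_div, eq_div_iff hb, hv x 1, mul_comm]
  have hαα : α = α' := by
    by_contra hne
    have h1 := classInner_isIrr_self α.2
    nth_rw 1 [hα] at h1
    rw [classInner_smul_left, classInner_isIrr_ne α'.2 α.2 fun e => hne (Subtype.ext e.symm),
      mul_zero] at h1
    exact zero_ne_one h1
  subst hαα
  exact ⟨rfl, Subtype.ext (funext fun y => mul_left_cancel₀ (irr_one_ne_zero α.2) (hv 1 y))⟩

/-- Conjugation acts factorwise. -/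
theorem Split.prodChar_conj_iff {h : G} (hh : h ∈ MulAction.stabilizer G a)
    {α α' : Cfsg.IrrCharacter S} {β β' : Cfsg.IrrCharacter O}
    (hQ : ∀ x ∈ Q, h * x * h⁻¹ ∈ Q) :
    IsConjFun Q h (sp.prodChar α β : Q → ℂ) (sp.prodChar α' β' : Q → ℂ) ↔
      IsConjFun S h (α : S → ℂ) (α' : S → ℂ) ∧ IsConjFun O h (β : O → ℂ) (β' : O → ℂ) := by
  have hmk : ∀ {α₁ α₂ : Cfsg.IrrCharacter S} {β₁ β₂ : Cfsg.IrrCharacter O},
      IsConjFun S h (α₁ : S → ℂ) (α₂ : S → ℂ) → IsConjFun O h (β₁ : O → ℂ) (β₂ : O → ℂ) →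
        IsConjFun Q h (sp.prodChar α₁ β₁ : Q → ℂ) (sp.prodChar α₂ β₂ : Q → ℂ) := by
    intro α₁ α₂ β₁ β₂ h1 h2 q q' e
    obtain ⟨x, hx, y, hy, hq⟩ := sp.exists_mul q q.2
    rw [sp.prodChar_apply α₂ β₂ (x := ⟨x, hx⟩) (y := ⟨y, hy⟩) hq,
      sp.prodChar_apply α₁ β₁ (x := ⟨_, sp.conj_S h hh x hx⟩) (y := ⟨_, sp.conj_O h hh y hy⟩)
        (by rw [e, hq]; group),
      h1 ⟨x, hx⟩ ⟨_, sp.conj_S h hh x hx⟩ rfl, h2 ⟨y, hy⟩ ⟨_, sp.conj_O h hh y hy⟩ rfl]
  refine ⟨fun hc => ?_, fun hc => hmk hc.1 hc.2⟩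
  obtain ⟨α'', hα⟩ := exists_isConjFun (sp.conj_S h hh) α
  obtain ⟨β'', hβ⟩ := exists_isConjFun (sp.conj_O h hh) β
  obtain ⟨rfl, rfl⟩ := sp.prodChar_inj (Subtype.ext (IsConjFun.unique hQ (hmk hα hβ) hc))
  exact ⟨hα, hβ⟩

end Cfsg.Agent.Involutions.RankOne.Char
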