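import Cfsg.Agent.Lib.Involutions.RankOne.Char.Abelian
import Cfsg.Agent.Lib.Involutions.RankOne.Char.Product
import Cfsg.Agent.Lib.Involutions.RankOne.PSLTwo
import Cfsg.Agent.Lib.Involutions.RankOne.Sz.Main
import Cfsg.Agent.Lib.Involutions.RankOne.U3.Main

/-!
# The three branches when `Q` is a 2-group
-/

set_option autoImplicit false
set_option linter.unusedSectionVars false

namespace Cfsg.Agent.Involutions.RankOne.Char

open MulAction Involutions.Basic

universe u v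

/-- When `Q` is a 2-group, `G` has a normal subgroup of odd index of one of the three types. -/
theorem classify_of_twoGroup (hW0 : U3.Stmt.WNeBot.{u, v}) (hI : U3.Stmt.Index.{u, v})
    (hB : U3.Stmt.Bridge.{u, v}) {G : Type u} {Ω : Type v} [Group G] [Finite G] [MulAction G Ω]
    [FaithfulSMul G Ω] {a : Ω} {t : G} {Q : Subgroup G} (hS : Cfsg.IsRankOneSetup G Ω a t Q)
    (h2 : ∃ x y : G, x ≠ 1 ∧ y ≠ 1 ∧ x ≠ y ∧ x * x = 1 ∧ y * y = 1 ∧ x * y = y * x)
    (hQ : IsPGroup 2 Q) :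
    ∃ L : Subgroup G, L.Normal ∧ Odd L.index ∧
      ((∃ (F : Type) (_ : Field F) (_ : Fintype F), (∃ n : ℕ, 2 ≤ n ∧ Fintype.card F = 2 ^ n) ∧
          Nonempty (L ≃* Matrix.ProjectiveSpecialLinearGroup (Fin 2) F)) ∨
        Cfsg.Lie.IsoSuzuki L ∨
        (∃ (F : Type) (_ : Field F) (_ : Fintype F) (n : ℕ), 2 ≤ n ∧ Fintype.card F = (2 ^ n) ^ 2 ∧
          Nonempty (L ≃* Cfsg.PSU 3 F (2 ^ n)))) := by
  classical
  haveI : Fact (Nat.Prime 2) := ⟨Nat.prime_two⟩
  obtain ⟨E, g, n, F⟩ := exists_frame hS h2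
  obtain ⟨S, O, sp⟩ := exists_split hS h2 F
  have hO : O = ⊥ := by
    obtain ⟨k, hk⟩ := IsPGroup.iff_card.1 (hQ.to_le sp.le_O)
    refine Subgroup.card_eq_one.1 ?_
    rcases k with _ | k
    · simpa using hk
    · have := sp.odd_O
      rw [hk, pow_succ] at this
      exact absurd this (by simp [Nat.not_odd_iff_even, Nat.even_mul])
  have hSQ : S = Q := le_antisymm sp.le_S fun q hq => by
    obtain ⟨x, hx, y, hy, rfl⟩ := sp.exists_mul q hq
    rw [hO, Subgroup.mem_bot] at hy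
    rw [hy, mul_one]; exact hx
  subst hSQ
  rcases sp.abelian_or_suzuki hS h2 with hA | hP
  · have hcomm : ∀ x ∈ S, ∀ y ∈ S, x * y = y * x := fun x hx y hy =>
      congrArg Subtype.val (hA.is_comm.comm (⟨x, hx⟩ : S) ⟨y, hy⟩)
    obtain ⟨L, h1, h3, h4⟩ := exists_pslTwo hS h2 (Cfsg.Agent.S0205.result hS.odd_card)
      (exponent_two hS h2 hQ hcomm)
    exact ⟨L, h1, h3, Or.inl h4⟩
  · have hc := sp.card_center hS F hP
    have hcard := (Subgroup.center S).card_mul_index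
    rw [hc] at hcard
    rcases sp.index_center hS F hP with e | e <;> rw [e] at hcard
    · obtain ⟨L, h1, h3, h4⟩ := Sz.exists_suzuki hS h2 hQ hP (by rw [← hcard, hc, sq])
      exact ⟨L, h1, h3, Or.inr (Or.inl h4)⟩
    · obtain ⟨L, h1, h3, h4⟩ := U3.exists_psu_of hW0 hI hB
        (⟨hS, h2, hQ, hP, F.two_le, hc, by rw [← hcard]; ring⟩ : U3.Setting G Ω a t S n)
      exact ⟨L, h1, h3, Or.inr (Or.inr h4)⟩

end Cfsg.Agent.Involutions.RankOne.Char
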