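import Cfsg.Agent.Lib.Involutions.RankOne.Char.Families

/-!
# A family linked to pairs of smaller degree
-/

set_option autoImplicit false
set_option linter.unusedSectionVars false

namespace Cfsg.Agent.Involutions.RankOne.Char

open MulAction
open Cfsg.Agent.Characters
open scoped ComplexConjugate

universe u v w

variable {G : Type u} {Ω : Type v} [Group G] [MulAction G Ω] {a : Ω} {t : G} {Q : Subgroup G}

local notation "H" => MulAction.stabilizer G a

variable [Fintype G] [Fintype (Cfsg.IrrCharacter G)] (hS : Cfsg.IsRankOneSetup G Ω a t Q)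
variable {s : G} (hs : s ∈ Cfsg.involutionsIn (MulAction.stabilizer G a : Set G))
  (h2 : ∃ x y : G, x ≠ 1 ∧ y ≠ 1 ∧ x ≠ y ∧ x * x = 1 ∧ y * y = 1 ∧ x * y = y * x)

include hS hs h2

omit hS hs h2 in
theorem norm_base {c e m : ℤ} (he : e = 1 ∨ e = -1) (hm : 2 ≤ m) :
    1 ≤ (c + e) * (c + e) + (m - 1) * (c * c) ∧
      ((c + e) * (c + e) + (m - 1) * (c * c) = 1 → m * c + e = e ∨ m * c + e = -e) := by
  rcases eq_or_ne c 0 with rfl | hc
  · rcases he with rfl | rfl <;> simp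
  have h1 : 1 ≤ c * c := by have := mul_self_pos.2 hc; omega
  have h2 : 0 ≤ (c + e) * (c + e) := mul_self_nonneg _
  refine ⟨by nlinarith, fun h => Or.inr ?_⟩
  have h3 : (m - 1) * (c * c) ≤ 1 := by linarith
  have hm2 : m = 2 := by nlinarith
  subst hm2
  have hc1 : c * c = 1 := by nlinarith
  have hce : (c + e) * (c + e) = 0 := by linarith
  have := mul_self_eq_zero.1 hce
  omega

/-- B3: a family, constant at `s`, linked to pairs `ξ k, ξ' k`. -/
theorem Coh.mixed_P_sq [Fintype H] {B : Finset (Cfsg.IrrCharacter H)} {e : ℤ}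
    {μ : Cfsg.IrrCharacter H → Cfsg.IrrCharacter G} (hB : Coh a B e μ)
    (hconst : ∀ x ∈ B, ∀ y ∈ B, (x : H → ℂ) ⟨s, hs.1⟩ = (y : H → ℂ) ⟨s, hs.1⟩)
    {ι : Type w} [Fintype ι] (ξ ξ' : ι → Cfsg.IrrCharacter H)
    (hinj : Function.Injective (Sum.elim ξ ξ')) (hout : ∀ k, ξ k ∉ B ∧ ξ' k ∉ B)
    (hpair : ∀ k, Supp a ((ξ k : H → ℂ) - (ξ' k : H → ℂ))) {K : ℂ} (hK : K ≠ 0)
    (hKv : ∀ k, (ξ k : H → ℂ) ⟨s, hs.1⟩ - (ξ' k : H → ℂ) ⟨s, hs.1⟩ = K)
    {x₀ : Cfsg.IrrCharacter H} (hx₀ : x₀ ∈ B)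
    (hsupp : Supp a ((x₀ : H → ℂ) - ∑ k, (ξ' k : H → ℂ)))
    (hval : (x₀ : H → ℂ) ⟨s, hs.1⟩ - ∑ k, (ξ' k : H → ℂ) ⟨s, hs.1⟩ = Fintype.card ι * K) :
    ∀ x ∈ B, Pval a s (μ x : G → ℂ) ^ 2 = ((Fintype.card ι : ℂ) * K) ^ 2 := by
  classical
  haveI := Fintype.ofFinite (Cfsg.IrrCharacter H)
  set Pr : ι → Finset (Cfsg.IrrCharacter H) := fun k => {ξ k, ξ' k} with hPr
  have hξξ : ∀ k l, ξ k ≠ ξ' l := fun k l q => by
    simpa using hinj (show Sum.elim ξ ξ' (.inl k) = Sum.elim ξ ξ' (.inr l) from q)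
  have hξi : Function.Injective ξ := fun k l q => Sum.inl_injective
    (hinj (show Sum.elim ξ ξ' (.inl k) = Sum.elim ξ ξ' (.inl l) from q))
  have hξ'i : Function.Injective ξ' := fun k l q => Sum.inr_injective
    (hinj (show Sum.elim ξ ξ' (.inr k) = Sum.elim ξ ξ' (.inr l) from q))
  have hsPr : ∀ k, ∀ x ∈ Pr k, ∀ y ∈ Pr k, Supp a ((x : H → ℂ) - (y : H → ℂ)) := by
    intro k x hx y hy
    simp only [hPr, Finset.mem_insert, Finset.mem_singleton] at hx hy
    rcases hx with rfl | rfl <;> rcases hy with rfl | rfl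
    · simpa using Supp.smul (0 : ℂ) (hpair k)
    · exact hpair k
    · rw [← neg_sub, ← neg_one_smul ℂ ((ξ k : H → ℂ) - (ξ' k : H → ℂ))]
      exact Supp.smul _ (hpair k)
    · simpa using Supp.smul (0 : ℂ) (hpair k)
  choose e' μ' hcoh using fun k => exists_coh hS (Pr k)
    (by rw [hPr]; simp [Finset.card_pair (hξξ k k)]) (hsPr k)
  have hmemk : ∀ k, ξ k ∈ Pr k ∧ ξ' k ∈ Pr k := fun k => by simp [hPr]
  -- values on the pairs
  have hPk : ∀ k, (e' k : ℂ) * Pval a s (μ' k (ξ k) : G → ℂ) = K ∧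
      (e' k : ℂ) * Pval a s (μ' k (ξ' k) : G → ℂ) = -K := by
    intro k
    obtain ⟨-, h1, h1'⟩ := (hcoh k).rel hS hs h2 (hmemk k).1 (hmemk k).2
    rw [hKv] at h1
    set P := Pval a s (μ' k (ξ k) : G → ℂ)
    set P' := Pval a s (μ' k (ξ' k) : G → ℂ)
    have h5 : (P - P') * (P + P') = 0 := by linear_combination h1'
    rcases mul_eq_zero.1 h5 with h6 | h6
    · exact absurd (by linear_combination (e' k : ℂ) * h6 / 2 - h1 / 2) hK
    · exact ⟨by linear_combination h1 / 2 + (e' k : ℂ) * h6 / 2,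
        by linear_combination -h1 / 2 + (e' k : ℂ) * h6 / 2⟩
  set f := (x₀ : H → ℂ) - ∑ k, (ξ' k : H → ℂ) with hfdef
  have hgen : Cfsg.IsGeneralizedCharacter H f := isGen_sub (isGen_of_isCharacter (irr_isCharacter _))
    (isGen_sum _ _ fun k _ => isGen_of_isCharacter (irr_isCharacter _))
  obtain ⟨z, hz⟩ := exists_coef hgen
  have hne0 : ∀ k, x₀ ≠ ξ k ∧ x₀ ≠ ξ' k :=
    fun k => ⟨fun q => (hout k).1 (q ▸ hx₀), fun q => (hout k).2 (q ▸ hx₀)⟩
  set c := z (μ x₀) - e with hc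
  have hmem : ∀ x ∈ B, x ≠ x₀ → z (μ x) = c := by
    intro x hx hxne
    have hw : Cfsg.classInner f ((x : H → ℂ) - (x₀ : H → ℂ)) = ((-1 : ℤ) : ℂ) := by
      have hk : ∀ k, ξ' k ≠ x ∧ ξ' k ≠ x₀ :=
        fun k => ⟨fun q => (hout k).2 (q ▸ hx), (hne0 k).2.symm⟩
      simp [hfdef, classInner_sub_left, classInner_sub_right, classInner_sum_left, classInner_irr,
        hk, Ne.symm hxne]
    have := hB.coef_eq hS hx hx₀ hz hsupp hw
    omega
  have hpairz : ∀ k, z (μ' k (ξ k)) - z (μ' k (ξ' k)) = e' k := by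
    intro k
    have hw : Cfsg.classInner f ((ξ k : H → ℂ) - (ξ' k : H → ℂ)) = ((1 : ℤ) : ℂ) := by
      simp [hfdef, classInner_sub_left, classInner_sub_right, classInner_sum_left, classInner_irr,
        (hne0 k).1, (hne0 k).2, fun l => Ne.symm (hξξ k l), hξ'i.eq_iff]
    have := (hcoh k).coef_eq hS (hmemk k).1 (hmemk k).2 hz hsupp hw
    simpa using this
  -- the images are distinct
  have hdisjB : ∀ k, Disjoint B (Pr k) := fun k => by
    rw [Finset.disjoint_right]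
    intro x hx
    simp only [hPr, Finset.mem_insert, Finset.mem_singleton] at hx
    rcases hx with rfl | rfl
    exacts [(hout k).1, (hout k).2]
  have hdisjP : ∀ k l, k ≠ l → Disjoint (Pr k) (Pr l) := fun k l hkl => by
    rw [Finset.disjoint_left]
    intro x hx hx'
    simp only [hPr, Finset.mem_insert, Finset.mem_singleton] at hx hx'
    rcases hx with rfl | rfl <;> rcases hx' with q | q
    exacts [hkl (hξi q), hξξ _ _ q, hξξ _ _ q.symm, hkl (hξ'i q)]
  set I := B.image μ with hI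
  set J : ι → Finset (Cfsg.IrrCharacter G) := fun k => {μ' k (ξ k), μ' k (ξ' k)} with hJ
  have hμne : ∀ k, μ' k (ξ k) ≠ μ' k (ξ' k) :=
    fun k q => hξξ k k ((hcoh k).inj (hmemk k).1 (hmemk k).2 q)
  have hJmem : ∀ k χ, χ ∈ J k → ∃ x ∈ Pr k, μ' k x = χ := fun k χ hχ => by
    simp only [hJ, Finset.mem_insert, Finset.mem_singleton] at hχ
    rcases hχ with rfl | rfl
    exacts [⟨_, (hmemk k).1, rfl⟩, ⟨_, (hmemk k).2, rfl⟩]
  have hJJ : ((Finset.univ : Finset ι) : Set ι).PairwiseDisjoint J := by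
    intro k _ l _ hkl
    rw [Function.onFun, Finset.disjoint_left]
    intro χ hχ hχ'
    obtain ⟨x, hx, rfl⟩ := hJmem k χ hχ
    obtain ⟨y, hy, hq⟩ := hJmem l _ hχ'
    exact (hcoh k).disjoint hS (hcoh l) (hdisjP k l hkl) hx hy hq.symm
  have hIJ : Disjoint I (Finset.univ.biUnion J) := by
    rw [Finset.disjoint_left]
    intro χ hχ hχ'
    obtain ⟨x, hx, rfl⟩ := Finset.mem_image.1 hχ
    obtain ⟨k, -, hk⟩ := Finset.mem_biUnion.1 hχ'
    obtain ⟨y, hy, hq⟩ := hJmem k _ hk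
    exact hB.disjoint hS (hcoh k) (hdisjB k) hx hy hq.symm
  set U := I ∪ Finset.univ.biUnion J with hU
  -- the norm
  have hnorm : ∑ χ, z χ * z χ = 1 + (Fintype.card ι : ℤ) := by
    have h := hz.inner hS hz hsupp hsupp
    have hv : Cfsg.classInner f f = ((1 + (Fintype.card ι : ℤ) : ℤ) : ℂ) := by
      simp [hfdef, classInner_sub_left, classInner_sub_right, classInner_sum_left,
        classInner_sum_right, classInner_irr, fun k => (hne0 k).2, fun k => Ne.symm (hne0 k).2,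
        hξ'i.eq_iff]
    rw [hv] at h
    exact_mod_cast h.symm
  set m : ℤ := (B.card : ℤ) with hm
  have hIsum : ∀ g : ℤ → ℤ, ∑ χ ∈ I, g (z χ) = g (c + e) + (m - 1) * g c := by
    intro g
    rw [hI, Finset.sum_image hB.inj, ← Finset.add_sum_erase B _ hx₀,
      Finset.sum_congr rfl (g := fun _ => g c) (fun x hx => by
        rw [hmem x (Finset.mem_of_mem_erase hx) (Finset.ne_of_mem_erase hx)]),
      Finset.sum_const, Finset.card_erase_of_mem hx₀, nsmul_eq_mul,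
      show z (μ x₀) = c + e by omega,
      Nat.cast_sub (Finset.card_pos.2 ⟨x₀, hx₀⟩ : 1 ≤ B.card), Nat.cast_one]
  have hJsum : (Fintype.card ι : ℤ) ≤ ∑ χ ∈ Finset.univ.biUnion J, z χ * z χ := by
    rw [Finset.sum_biUnion hJJ, ← Finset.card_univ, Finset.card_eq_sum_ones, Nat.cast_sum]
    refine Finset.sum_le_sum fun k _ => ?_
    rw [hJ, Finset.sum_pair (hμne k)]
    have h := hpairz k
    rcases eq_or_ne (z (μ' k (ξ k))) 0 with h0 | h0
    · have : z (μ' k (ξ' k)) ≠ 0 := by rcases (hcoh k).sign with q | q <;> omega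
      have := mul_self_pos.2 this
      simp [h0]; omega
    · have := mul_self_pos.2 h0
      have := mul_self_nonneg (z (μ' k (ξ' k)))
      simp; omega
  have hbase := norm_base (c := c) hB.sign (m := m) (by rw [hm]; exact_mod_cast hB.two_le)
  have hrest := Finset.sum_add_sum_compl U (fun χ => z χ * z χ)
  rw [hU, Finset.sum_union hIJ, hIsum (fun x => x * x), hnorm, ← hU] at hrest
  have hR : 0 ≤ ∑ χ ∈ Uᶜ, z χ * z χ := Finset.sum_nonneg fun _ _ => mul_self_nonneg _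
  have hRz : ∑ χ ∈ Uᶜ, z χ * z χ = 0 := by linarith [hbase.1]
  have hout' : ∀ χ ∈ Uᶜ, z χ = 0 := fun χ hχ => mul_self_eq_zero.1
    ((Finset.sum_eq_zero_iff_of_nonneg fun _ _ => mul_self_nonneg _).1 hRz χ hχ)
  have hcoef : m * c + e = e ∨ m * c + e = -e := hbase.2 (by linarith [hbase.1])
  -- evaluate
  have h3 := hz.sum_P hS hs h2 hsupp
  rw [← Finset.sum_add_sum_compl U, Finset.sum_eq_zero (s := Uᶜ) fun χ hχ => by simp [hout' χ hχ],
    add_zero, hU, Finset.sum_union hIJ, Finset.sum_biUnion hJJ] at h3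
  have hPc : ∀ x ∈ B, Pval a s (μ x : G → ℂ) = Pval a s (μ x₀ : G → ℂ) := fun x hx =>
    hB.const hS hs h2 hx hx₀ (hconst x hx x₀ hx₀)
  set P₀ := Pval a s (μ x₀ : G → ℂ)
  have hI1 : ∑ χ ∈ I, (z χ : ℂ) * Pval a s (χ : G → ℂ) = ((m * c + e : ℤ) : ℂ) * P₀ := by
    rw [hI, Finset.sum_image hB.inj, Finset.sum_congr rfl (g := fun x => (z (μ x) : ℂ) * P₀)
      (fun x hx => by rw [hPc x hx]), ← Finset.sum_mul, ← Int.cast_sum]
    congr 2
    have := hIsum id
    rw [hI, Finset.sum_image hB.inj] at this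
    simp only [id] at this
    rw [this]; ring
  have hJ1 : ∀ k, ∑ χ ∈ J k, (z χ : ℂ) * Pval a s (χ : G → ℂ) = K := by
    intro k
    rw [hJ, Finset.sum_pair (hμne k)]
    have hz' : ((z (μ' k (ξ k)) : ℂ) - z (μ' k (ξ' k))) = e' k := by exact_mod_cast hpairz k
    have hee : (e' k : ℂ) * e' k = 1 := by exact_mod_cast (hcoh k).sign_sq
    obtain ⟨hp, hp'⟩ := hPk k
    linear_combination (e' k : ℂ) * (z (μ' k (ξ k)) : ℂ) * hp +
      (e' k : ℂ) * (z (μ' k (ξ' k)) : ℂ) * hp' + (e' k : ℂ) * K * hz' +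
      (K - (z (μ' k (ξ k)) : ℂ) * Pval a s (μ' k (ξ k) : G → ℂ) -
        (z (μ' k (ξ' k)) : ℂ) * Pval a s (μ' k (ξ' k) : G → ℂ)) * hee
  rw [hI1, Finset.sum_congr rfl fun k _ => hJ1 k, Finset.sum_const, Finset.card_univ,
    nsmul_eq_mul, show f ⟨s, hs.1⟩ = (Fintype.card ι : ℂ) * K by
      rw [← hval, hfdef]; simp [Finset.sum_apply]] at h3
  intro x hx
  rw [hPc x hx]
  have h4 : ((m * c + e : ℤ) : ℂ) * P₀ = (Fintype.card ι : ℂ) * K := by linear_combination h3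
  rw [← h4, mul_pow, ← Int.cast_pow]
  have : (m * c + e) ^ 2 = 1 := by
    rcases hcoef with q | q <;> rw [q] <;> rcases hB.sign with r | r <;> rw [r] <;> norm_num
  rw [this, Int.cast_one, one_mul]

end Cfsg.Agent.Involutions.RankOne.Char
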