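import Cfsg.Agent.Lib.Involutions.RankOne.Char.Isometry
import Cfsg.Agent.Lib.Characters.Normal

/-!
# Monomial characters of `G_a`

Induced linear characters with inertia group equal to their domain, their values on the involutions,
and differences vanishing on the elements with a second fixed point.
-/

set_option autoImplicit false
set_option linter.unusedSectionVars false

namespace Cfsg.Agent.Involutions.RankOne.Char

open MulAction Involutions.Basic
open Cfsg.Agent.Characters
open scoped ComplexConjugate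

universe u v

section Group

variable {M : Type u} [Group M] [Fintype M]

/-- A constituent survives restriction along a homomorphism. -/
theorem classInner_comp_ne_zero {A B : Type u} [Group A] [Fintype A] [Group B] [Fintype B]
    (i : B →* A) {ψ : A → ℂ} (hψ : Cfsg.IsCharacter A ψ) (nu : A →* ℂˣ)
    (h : Cfsg.classInner ψ (fun x => (nu x : ℂ)) ≠ 0) :
    Cfsg.classInner (fun b => ψ (i b)) (fun b => (nu (i b) : ℂ)) ≠ 0 := by
  classical
  have := Fintype.ofFinite (Cfsg.IrrCharacter A)
  let ν₀ : Cfsg.IrrCharacter A := ⟨fun x => (nu x : ℂ), isIrrCharacter_linear nu⟩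
  have hν : Cfsg.IsCharacter B (fun b => (nu (i b) : ℂ)) := isCharacter_linear (nu.comp i)
  choose c hc using fun ξ : Cfsg.IrrCharacter A => classInner_char_nat hψ (irr_isCharacter ξ)
  choose e he using fun ξ : Cfsg.IrrCharacter A =>
    classInner_char_nat (isCharacter_comp i (irr_isCharacter ξ)) hν
  have hexp : (fun b => ψ (i b)) =
      ∑ ξ : Cfsg.IrrCharacter A, (c ξ : ℂ) • ((ξ : A → ℂ) ∘ i) := by
    funext b
    have h1 := congrFun (classFun_eq_sum (char_isClassFunction hψ)) (i b)
    simpa [hc] using h1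
  rw [hexp, classInner_sum_left]
  simp only [classInner_smul_left, he, ← Nat.cast_mul, ← Nat.cast_sum, ne_eq, Nat.cast_eq_zero]
  intro h0
  have h1 := Finset.sum_eq_zero_iff.1 h0 ν₀ (Finset.mem_univ _)
  have he0 : e ν₀ = 1 := by
    have := (he ν₀).symm.trans (classInner_isIrr_self (isIrrCharacter_linear (nu.comp i)))
    exact_mod_cast this
  rw [he0, mul_one] at h1
  have := hc ν₀
  rw [h1, Nat.cast_zero] at this
  exact h this

variable {N T : Subgroup M} [N.Normal] (hNT : N ≤ T) (nu : T →* ℂˣ)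

/-- The restriction to the normal subgroup. -/
def res : N →* ℂˣ := nu.comp (Subgroup.inclusion hNT)

theorem card_mul_indFun_coe (n : N) :
    (Nat.card T : ℂ) * Cfsg.indFun T (fun x => (nu x : ℂ)) n =
      ∑ x : M, conjFun N (fun n => (res hNT nu n : ℂ)) x⁻¹ n := by
  rw [CharTheory.IndBasic.card_mul_indFun]
  refine Finset.sum_congr rfl fun x _ => ?_
  have hm : x⁻¹ * (n : M) * x ∈ N := by
    simpa using ‹N.Normal›.conj_mem n n.2 x⁻¹
  rw [CharTheory.IndBasic.extendByZero_of_mem T _ (hNT hm)]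
  simp [conjFun, res, Subgroup.inclusion]

/-- The multiplicity of a linear character in the restriction of the induced character. -/
theorem classInner_res_indFun [Fintype N] (lam : N →* ℂˣ) :
    (Nat.card T : ℂ) *
        Cfsg.classInner (fun n : N => Cfsg.indFun T (fun x => (nu x : ℂ)) n)
          (fun n => (lam n : ℂ)) =
      (Nat.card {x : M // conjFun N (fun n => (res hNT nu n : ℂ)) x = fun n => (lam n : ℂ)} : ℂ) := by
  classical
  rw [← classInner_smul_left,
    show (Nat.card T : ℂ) • (fun n : N => Cfsg.indFun T (fun x => (nu x : ℂ)) n) =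
        ∑ x : M, conjFun N (fun n => (res hNT nu n : ℂ)) x⁻¹ from by
      funext n
      simpa using card_mul_indFun_coe hNT nu n,
    classInner_sum_left]
  have hval : ∀ x : M, Cfsg.classInner (conjFun N (fun n => (res hNT nu n : ℂ)) x⁻¹)
      (fun n => (lam n : ℂ)) =
      if conjFun N (fun n => (res hNT nu n : ℂ)) x⁻¹ = (fun n => (lam n : ℂ)) then 1 else 0 := by
    intro x
    split_ifs with h
    · rw [h]; exact classInner_isIrr_self (isIrrCharacter_linear lam)
    · exact classInner_isIrr_ne (isIrrCharacter_conjFun N (isIrrCharacter_linear _) _)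
        (isIrrCharacter_linear lam) h
  simp only [hval]
  rw [Finset.sum_boole, Nat.card_eq_fintype_card, Fintype.card_subtype]
  congr 1
  exact Finset.card_equiv (Equiv.inv M) fun x => by simp

/-- An induced linear character is irreducible if the stabiliser of its restriction to the normal
subgroup lies in the domain. -/
theorem isIrr_indFun
    (hstab : ∀ g : M, (∀ n n' : N, (n' : M) = g * n * g⁻¹ → res hNT nu n' = res hNT nu n) → g ∈ T) :
    Cfsg.IsIrrCharacter M (Cfsg.indFun T fun x => (nu x : ℂ)) := by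
  classical
  have := Fintype.ofFinite N
  have := Fintype.ofFinite T
  have := Fintype.ofFinite (Cfsg.IrrCharacter M)
  set θ : N → ℂ := fun n => (res hNT nu n : ℂ) with hθ
  set Φ := Cfsg.indFun T (fun x => (nu x : ℂ)) with hΦ
  have hΦc : Cfsg.IsCharacter M Φ := isCharacter_indFun T (isCharacter_linear nu)
  have hT : ∀ x : M, conjFun N θ x = θ ↔ x ∈ T := by
    refine fun x => ⟨fun h => hstab x fun n n' e => ?_, fun hx => ?_⟩
    · refine Units.val_injective ?_
      rw [show n' = ⟨x * n * x⁻¹, ‹N.Normal›.conj_mem n n.2 x⟩ from Subtype.ext e]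
      exact congrFun h n
    · funext n
      show ((nu (Subgroup.inclusion hNT _) : ℂˣ) : ℂ) = _
      have e : Subgroup.inclusion hNT ⟨x * n * x⁻¹, ‹N.Normal›.conj_mem n n.2 x⟩ =
          ⟨x, hx⟩ * Subgroup.inclusion hNT n * ⟨x, hx⟩⁻¹ := Subtype.ext rfl
      rw [e, map_mul, map_mul, map_inv, mul_comm (nu ⟨x, hx⟩), mul_inv_cancel_right]
      rfl
  have hone : Cfsg.classInner (fun n : N => Φ n) θ = 1 := by
    apply mul_left_cancel₀ (natCard_ne_zero (G := T))
    rw [mul_one, hθ, classInner_res_indFun hNT nu (res hNT nu)]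
    rw [Nat.card_congr (Equiv.subtypeEquivRight hT)]
  choose m hm using fun χ : Cfsg.IrrCharacter M => classInner_char_nat hΦc (irr_isCharacter χ)
  choose e he using fun χ : Cfsg.IrrCharacter M =>
    classInner_char_nat (isCharacter_restrict N (irr_isCharacter χ))
      (isCharacter_linear (res hNT nu))
  have hpos : ∀ χ, m χ ≠ 0 → e χ ≠ 0 := by
    intro χ hχ he0
    have h1 : Cfsg.classInner (fun x : T => (χ : M → ℂ) x) (fun x => (nu x : ℂ)) ≠ 0 := by
      rw [← frobenius_reciprocity' T (fun x => (nu x : ℂ)) (irr_isClassFunction χ),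
        classInner_conj_symm]
      rw [hm χ, Complex.conj_natCast, Nat.cast_ne_zero]
      exact hχ
    refine classInner_comp_ne_zero (Subgroup.inclusion hNT)
      (isCharacter_restrict T (irr_isCharacter χ)) nu h1 ?_
    have := he χ
    rw [he0, Nat.cast_zero] at this
    exact this
  have hexp : Φ = ∑ χ : Cfsg.IrrCharacter M, (m χ : ℂ) • (χ : M → ℂ) := by
    conv_lhs => rw [classFun_eq_sum (char_isClassFunction hΦc)]
    exact Finset.sum_congr rfl fun χ _ => by rw [hm]
  have hsum : ∑ χ, m χ * e χ = 1 := by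
    apply Nat.cast_injective (R := ℂ)
    push_cast
    rw [← hone]
    conv_rhs => rw [hexp]
    rw [show (fun n : N => (∑ χ : Cfsg.IrrCharacter M, (m χ : ℂ) • (χ : M → ℂ)) n) =
        ∑ χ : Cfsg.IrrCharacter M, (m χ : ℂ) • (fun n : N => (χ : M → ℂ) n) from by
      funext n; simp, classInner_sum_left]
    exact Finset.sum_congr rfl fun χ _ => by rw [classInner_smul_left, he]
  obtain ⟨χ, -, hχ⟩ := Finset.exists_ne_zero_of_sum_ne_zero (hsum.trans_ne one_ne_zero)
  rw [← Finset.add_sum_erase _ _ (Finset.mem_univ χ)] at hsum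
  have hrest : ∀ ξ ≠ χ, m ξ = 0 := by
    intro ξ hξ
    by_contra h
    have h1 := Finset.single_le_sum (f := fun ξ => m ξ * e ξ) (fun _ _ => Nat.zero_le _)
      (Finset.mem_erase.2 ⟨hξ, Finset.mem_univ ξ⟩)
    have h2 : 1 ≤ m χ * e χ := Nat.one_le_iff_ne_zero.2 hχ
    have h3 : 1 ≤ m ξ * e ξ := Nat.one_le_iff_ne_zero.2 (mul_ne_zero h (hpos ξ h))
    change m ξ * e ξ ≤ _ at h1
    omega
  have hmχ : m χ = 1 := by
    rw [Finset.sum_eq_zero fun ξ hξ => by rw [hrest ξ (Finset.mem_erase.1 hξ).1, zero_mul],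
      add_zero] at hsum
    exact (mul_eq_one.1 hsum).1
  rw [hexp, Finset.sum_eq_single χ (fun ξ _ hξ => by rw [hrest ξ hξ, Nat.cast_zero, zero_smul])
    (fun h => absurd (Finset.mem_univ χ) h), hmχ, Nat.cast_one, one_smul]
  exact χ.2

omit [N.Normal] in
theorem indFun_one_eq :
    Cfsg.indFun T (fun x => (nu x : ℂ)) 1 = (T.index : ℂ) := by
  rw [indFun_one, map_one, Units.val_one, mul_one]

/-- Equal induced characters restrict to conjugate linear characters. -/
theorem exists_conj_of_indFun_eq {T' : Subgroup M} (hNT' : N ≤ T') (nu' : T' →* ℂˣ)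
    (h : Cfsg.indFun T (fun x => (nu x : ℂ)) = Cfsg.indFun T' (fun x => (nu' x : ℂ))) :
    ∃ g : M, conjFun N (fun n => (res hNT nu n : ℂ)) g = fun n => (res hNT' nu' n : ℂ) := by
  classical
  have := Fintype.ofFinite N
  have h1 := classInner_res_indFun hNT nu (res hNT' nu')
  rw [h] at h1
  have h2 := classInner_res_indFun hNT' nu' (res hNT' nu')
  have hne : Nonempty {x : M // conjFun N (fun n => (res hNT' nu' n : ℂ)) x =
      fun n => (res hNT' nu' n : ℂ)} :=
    ⟨⟨1, by funext n; simp [conjFun]⟩⟩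
  by_contra hno
  push Not at hno
  have : IsEmpty {x : M // conjFun N (fun n => (res hNT nu n : ℂ)) x =
      fun n => (res hNT' nu' n : ℂ)} := ⟨fun x => hno x.1 x.2⟩
  rw [Nat.card_of_isEmpty (α := {x : M // conjFun N (fun n => (res hNT nu n : ℂ)) x =
      fun n => (res hNT' nu' n : ℂ)}), Nat.cast_zero, mul_eq_zero] at h1
  rw [h1.resolve_left natCard_ne_zero, mul_zero] at h2
  exact Nat.card_pos.ne' (Nat.cast_eq_zero.1 h2.symm)

/-- Averaging over a conjugacy class. -/
theorem card_mul_sum_conj (S : Finset M) (hinv : ∀ x : M, ∀ e ∈ S, x⁻¹ * e * x ∈ S)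
    {s : M} (hsurj : ∀ e ∈ S, ∃ x : M, e = x⁻¹ * s * x) (f : M → ℂ) :
    (S.card : ℂ) * ∑ x : M, f (x⁻¹ * s * x) = (Fintype.card M : ℂ) * ∑ e ∈ S, f e := by
  have h1 : ∀ x : M, ∑ e ∈ S, f (x⁻¹ * e * x) = ∑ e ∈ S, f e := fun x =>
    Finset.sum_nbij' (fun e => x⁻¹ * e * x) (fun e => x * e * x⁻¹) (fun e he => hinv x e he)
      (fun e he => by simpa using hinv x⁻¹ e he) (fun e _ => by group) (fun e _ => by group)
      fun e _ => rfl
  have h2 : ∀ e ∈ S, ∑ x : M, f (x⁻¹ * e * x) = ∑ x : M, f (x⁻¹ * s * x) := by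
    intro e he
    obtain ⟨y, rfl⟩ := hsurj e he
    exact Fintype.sum_equiv (Equiv.mulLeft y) _ _ fun x => by simp [mul_assoc]
  calc (S.card : ℂ) * ∑ x : M, f (x⁻¹ * s * x) = ∑ e ∈ S, ∑ x : M, f (x⁻¹ * e * x) := by
        rw [Finset.sum_congr rfl h2, Finset.sum_const, nsmul_eq_mul]
    _ = ∑ x : M, ∑ e ∈ S, f (x⁻¹ * e * x) := Finset.sum_comm
    _ = _ := by rw [Finset.sum_congr rfl fun x _ => h1 x, Finset.sum_const, Finset.card_univ,
        nsmul_eq_mul]

end Group

variable {G : Type u} {Ω : Type v} [Group G] [MulAction G Ω] {a : Ω} {t : G} {Q : Subgroup G}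

local notation "H" => MulAction.stabilizer G a

/-- Induced functions vanish on the elements with a second fixed point if the functions do. -/
theorem supp_indFun [Fintype H] (T : Subgroup H) (f : T → ℂ)
    (hf : ∀ x : T, (∃ c : Ω, c ≠ a ∧ ((x : H) : G) • c = c) → f x = 0) :
    Supp a (Cfsg.indFun T f) := by
  refine ⟨indFun_isClassFunction T f, fun h ⟨c, hc, hfix⟩ => ?_⟩
  refine mul_eq_zero_of_right _ (Finset.sum_eq_zero fun x _ => ?_)
  by_cases hm : x⁻¹ * h * x ∈ T
  · rw [CharTheory.IndBasic.extendByZero_of_mem T f hm]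
    refine hf ⟨_, hm⟩ ⟨((x : H) : G)⁻¹ • c, fun e => hc ?_, ?_⟩
    · rw [inv_smul_eq_iff] at e
      exact e.trans (show ((x : H) : G) • a = a from x.2)
    · show (((x : H) : G)⁻¹ * (h : G) * ((x : H) : G)) • _ = _
      rw [mul_smul, smul_inv_smul, mul_smul, hfix]
  · exact CharTheory.IndBasic.extendByZero_of_notMem T f hm

/-- A class function of `G_a` which vanishes on `D` is supported on the elements fixing only `a`. -/
theorem supp_of_vanish [Finite G] (hS : Cfsg.IsRankOneSetup G Ω a t Q) {f : H → ℂ}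
    (hf : Cfsg.IsClassFunction H f) (h0 : ∀ d : H, (d : G) • (t • a) = t • a → f d = 0) :
    Supp a f := by
  refine ⟨hf, fun h ⟨c, hc, hfix⟩ => ?_⟩
  obtain ⟨q, hq, rfl⟩ := exists_q hS hc
  rw [← hf h (⟨q, hS.le hq⟩⁻¹ : H)]
  refine h0 _ ?_
  show (q⁻¹ * (h : G) * (q⁻¹)⁻¹) • (t • a) = t • a
  rw [inv_inv, mul_smul, mul_smul, hfix, inv_smul_smul]

end Cfsg.Agent.Involutions.RankOne.Char
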