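import Cfsg.Agent.Lib.Involutions.RankOne.Char.Psi
import Cfsg.Agent.Lib.Involutions.RankOne.Char.Induced
import Cfsg.Agent.OddChar.CliffordInd
import Cfsg.Agent.Lib.Characters.Kernel

/-!
# Pairs of constituents over a character of `Q` with a stabiliser of prime order
-/

set_option autoImplicit false
set_option linter.unusedSectionVars false

namespace Cfsg.Agent.Involutions.RankOne.Char

open MulAction Involutions.Basic
open Cfsg.Agent.Characters
open scoped ComplexConjugate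

universe u v

variable {G : Type u} {Ω : Type v} [Group G] [Fintype G] [MulAction G Ω] {a : Ω} {t : G}
  {Q : Subgroup G}

local notation "H" => MulAction.stabilizer G a
local notation "D" => (MulAction.stabilizer G a ⊓ MulAction.stabilizer G (t • a))

variable [Fintype (MulAction.stabilizer G a)] (hS : Cfsg.IsRankOneSetup G Ω a t Q)

include hS

/-- Two fixed characters `φ`, `w φ` with stabiliser `X` in `D` give pairs `ξ`, `ξ'`. -/
theorem exists_pairs {X : Subgroup G} (hX : X ≤ D) (hp : (Nat.card X).Prime) {φ : Q → ℂ}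
    (hφ : Cfsg.IsIrrCharacter Q φ) (w : Q →* ℂˣ) (hwX : ∀ x ∈ X, FixedBy Q x w)
    (hφX : ∀ x ∈ X, FunFixed Q x φ) (hstab : ∀ d ∈ D, FunFixed Q d φ → d ∈ X)
    (hstab' : ∀ d ∈ D, FunFixed Q d (fun q => φ q * (w q : ℂ)) → d ∈ X)
    {s : G} (hs : s ∈ Cfsg.involutionsIn (MulAction.stabilizer G a : Set G))
    (hne : indQ a Q (fun q => φ q * (w q : ℂ)) ⟨s, hs.1⟩ ≠ indQ a Q φ ⟨s, hs.1⟩) :
    ∃ (ι : Type u) (_ : Fintype ι) (ξ ξ' : ι → Cfsg.IrrCharacter H),
      Function.Injective (Sum.elim ξ ξ') ∧ Fintype.card ι = Nat.card X ∧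
      ∑ k, (ξ' k : H → ℂ) = indQ a Q φ ∧
      (∀ k, Supp a ((ξ k : H → ℂ) - (ξ' k : H → ℂ))) ∧
      (∀ k, (Nat.card X : ℂ) * ((ξ k : H → ℂ) ⟨s, hs.1⟩ - (ξ' k : H → ℂ) ⟨s, hs.1⟩) =
        indQ a Q (fun q => φ q * (w q : ℂ)) ⟨s, hs.1⟩ - indQ a Q φ ⟨s, hs.1⟩) ∧
      (∀ k, (ξ k : H → ℂ) 1 = (ξ' k : H → ℂ) 1 ∧
        (Nat.card X : ℂ) * (ξ' k : H → ℂ) 1 = (Nat.card ↥D : ℂ) * φ 1) := by
  classical
  haveI hN : (Q.subgroupOf H).Normal := normal_subgroupOf hS
  haveI := Fintype.ofFinite (Q.subgroupOf H)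
  set N := Q.subgroupOf H with hNdef
  -- the domain `Q X`
  let T : Subgroup H :=
    { carrier := {h | ∃ x ∈ X, (h : G) * x⁻¹ ∈ Q}
      one_mem' := ⟨1, one_mem _, by simp⟩
      mul_mem' := by
        rintro h h' ⟨x, hx, hq⟩ ⟨x', hx', hq'⟩
        refine ⟨x * x', mul_mem hx hx', ?_⟩
        rw [show ((h * h' : H) : G) * (x * x')⁻¹ =
          ((h : G) * x⁻¹) * (x * ((h' : G) * x'⁻¹) * x⁻¹) by rw [Subgroup.coe_mul]; group]
        exact mul_mem hq (hS.conj_mem x (hX hx).1 _ hq')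
      inv_mem' := by
        rintro h ⟨x, hx, hq⟩
        refine ⟨x⁻¹, inv_mem hx, ?_⟩
        rw [show ((h⁻¹ : H) : G) * x⁻¹⁻¹ = x⁻¹ * ((h : G) * x⁻¹)⁻¹ * x⁻¹⁻¹ by
          rw [Subgroup.coe_inv]; group]
        exact hS.conj_mem x⁻¹ (inv_mem (hX hx).1) _ (inv_mem hq) }
  have hNT : N ≤ T := fun h hh => ⟨1, one_mem _, by simpa using Subgroup.mem_subgroupOf.1 hh⟩
  haveI := Fintype.ofFinite T
  choose part hpartX hpartQ using fun h : T => h.2
  have hpart_uniq : ∀ (h : T) (x : G), x ∈ X → ((h : H) : G) * x⁻¹ ∈ Q → part h = x := by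
    intro h x hx hq
    refine (eq_of_decomp hS (hpartQ h) hq (hX (hpartX h)) (hX hx) ?_).2
    simp
  let π : T →* X :=
    { toFun := fun h => ⟨part h, hpartX h⟩
      map_one' := Subtype.ext (hpart_uniq 1 1 (one_mem _) (by simp))
      map_mul' := fun h h' => Subtype.ext (hpart_uniq (h * h') _ (mul_mem (hpartX h) (hpartX h')) (by
        show ((h : H) : G) * ((h' : H) : G) * (part h * part h')⁻¹ ∈ Q
        rw [show ((h : H) : G) * ((h' : H) : G) * (part h * part h')⁻¹ =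
          (((h : H) : G) * (part h)⁻¹) *
            (part h * (((h' : H) : G) * (part h')⁻¹) * (part h)⁻¹) by group]
        exact mul_mem (hpartQ h) (hS.conj_mem _ (hX (hpartX h)).1 _ (hpartQ h')))) }
  have hker : N.subgroupOf T = π.ker := by
    ext h
    rw [Subgroup.mem_subgroupOf, Subgroup.mem_subgroupOf, MonoidHom.mem_ker]
    constructor
    · intro hh
      exact Subtype.ext (hpart_uniq h 1 (one_mem _) (by simpa using hh))
    · intro hh
      have := hpartQ h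
      rw [show part h = 1 from congrArg Subtype.val hh] at this
      simpa using this
  have hsurj : Function.Surjective π := fun x =>
    ⟨⟨⟨(x : G), (hX x.2).1⟩, x, x.2, by simp⟩,
      Subtype.ext (hpart_uniq _ _ x.2 (by simp))⟩
  have hidx : (N.subgroupOf T).index = Nat.card X := by
    rw [hker, Subgroup.index_ker]
    exact (Nat.card_congr (Equiv.subtypeEquivRight fun x => iff_of_true (hsurj x) trivial)).trans
      (Nat.card_congr (Equiv.subtypeUnivEquiv fun _ => trivial))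
  have hab : ∀ u v : T, u * v * u⁻¹ * v⁻¹ ∈ N.subgroupOf T := fun u v => by
    haveI := Fact.mk hp
    haveI : IsCyclic X := isCyclic_of_prime_card rfl
    letI := IsCyclic.commGroup (α := X)
    rw [hker, MonoidHom.mem_ker, map_mul, map_mul, map_mul, map_inv, map_inv, mul_comm (π u) (π v),
      mul_inv_cancel_right, mul_inv_cancel]
  -- the two inertia descriptions
  have hwfix : ∀ x ∈ X, FunFixed Q x fun q => φ q * (w q : ℂ) := fun x hx u v hv => by
    show φ v * (w v : ℂ) = φ u * (w u : ℂ)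
    rw [hφX x hx u v hv, hwX x hx u v hv]
  have hwirr : Cfsg.IsIrrCharacter Q (fun q => φ q * (w q : ℂ)) := by
    simpa [mul_comm] using isIrrCharacter_mul_linear hφ w
  have hinert : ∀ θ : Q → ℂ, Cfsg.IsIrrCharacter Q θ → (∀ x ∈ X, FunFixed Q x θ) →
      (∀ d ∈ D, FunFixed Q d θ → d ∈ X) → ∀ h : H, h ∈ T ↔
        ∀ m : N, θ ⟨(((⟨h * m * h⁻¹, hN.conj_mem m m.2 h⟩ : N) : H) : G),
          Subgroup.mem_subgroupOf.1 (⟨h * m * h⁻¹, hN.conj_mem m m.2 h⟩ : N).2⟩ =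
            θ ⟨((m : H) : G), Subgroup.mem_subgroupOf.1 m.2⟩ := by
    intro θ hθ hfix hst h
    have hθc := char_isClassFunction (isCharacter_of_isIrr hθ)
    constructor
    · rintro ⟨x, hx, hq⟩ m
      set u : Q := ⟨((m : H) : G), Subgroup.mem_subgroupOf.1 m.2⟩
      let u' : Q := ⟨x * u * x⁻¹, hS.conj_mem x (hX hx).1 u u.2⟩
      rw [← hfix x hx u u' rfl, ← hθc u' ⟨_, hq⟩]
      refine congrArg θ (Subtype.ext ?_)
      show (h : G) * (m : H) * (h : G)⁻¹ = (h : G) * x⁻¹ * (x * u * x⁻¹) * ((h : G) * x⁻¹)⁻¹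
      simp only [u]; group
    · intro hh
      obtain ⟨d, hd, q, hq, he, hc⟩ := fixed_decomp hS hθc h.2 (φ := θ) (φ' := θ) (fun x y hy => by
        have := hh ⟨⟨(x : G), hS.le x.2⟩, Subgroup.mem_subgroupOf.2 x.2⟩
        rw [← this]
        exact congrArg θ (Subtype.ext hy.symm))
      refine ⟨d, hst d hd fun x y hy => (hc x y hy).symm, ?_⟩
      rw [he, mul_inv_cancel_right]; exact hq
  have hTφ := hinert φ hφ hφX hstab
  have hTw := hinert _ hwirr hwfix hstab'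
  set θ : N → ℂ := fun x => φ ⟨((x : H) : G), Subgroup.mem_subgroupOf.1 x.2⟩ with hθ
  have hθi : Cfsg.IsIrrCharacter N θ := isIrr_comp hS hφ
  haveI := Fintype.ofFinite (N.subgroupOf T)
  set θ' : N.subgroupOf T → ℂ := fun x => θ ⟨(x : T), Subgroup.mem_subgroupOf.mp x.2⟩ with hθ'
  have hθ'i : Cfsg.IsIrrCharacter (N.subgroupOf T) θ' :=
    CharTheory.Basics.isIrrCharacter_comp_equiv (Subgroup.subgroupOfEquivOfLe hNT) hθi
  have hinv : ∀ h : T, CharTheory.Clifford.conjBy (N.subgroupOf T) h θ' = θ' := fun h =>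
    funext fun m => (hTφ h).1 h.2 ⟨(m : T), Subgroup.mem_subgroupOf.mp m.2⟩
  obtain ⟨e, C, he, hC, hcard, hind, hprop⟩ :=
    OddChar.Clifford.decompose_abelian (N.subgroupOf T) hθ'i hinv hab
  rw [hidx] at hcard
  have he1 : e = 1 := by
    rcases (Nat.dvd_prime hp).1 (hcard ▸ dvd_mul_right (e ^ 2) C.card) with h | h
    · exact Nat.pow_eq_one.1 h |>.resolve_right two_ne_zero
    · exfalso
      have h2 : e ∣ Nat.card X := h ▸ dvd_pow_self e two_ne_zero
      rcases (Nat.dvd_prime hp).1 h2 with h3 | h3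
      · rw [h3, one_pow] at h; exact hp.ne_one h.symm
      · rw [h3] at h; nlinarith [hp.two_le]
  subst he1
  rw [one_pow, one_mul] at hcard
  rw [Nat.cast_one, one_smul] at hind
  -- restrictions
  have hres : ∀ ψ ∈ C, ∀ m : N.subgroupOf T, ψ m = θ' m := by
    intro ψ hψ m
    have h1 : Cfsg.classInner (fun m : N.subgroupOf T => ψ m) θ' = 1 := by
      rw [(hprop ψ hψ).2, Nat.cast_one]
    have := congrFun (CharTheory.Clifford.restrict_eq_smul_of_invariant (N.subgroupOf T) (hC ψ hψ) hθ'i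
      (by rw [h1]; exact one_ne_zero) hinv) m
    rw [h1, one_smul] at this
    exact this
  let wT : T →* ℂˣ :=
    { toFun := fun h => w ⟨_, hpartQ h⟩
      map_one' := by
        rw [← map_one w]; exact congrArg w (Subtype.ext (by
          show (((1 : T) : H) : G) * (part 1)⁻¹ = 1
          rw [hpart_uniq 1 1 (one_mem _) (by simp)]; simp))
      map_mul' := fun h h' => by
        have hp' : part (h * h') = part h * part h' := congrArg Subtype.val (map_mul π h h')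
        let u : Q := ⟨((h' : H) : G) * (part h')⁻¹, hpartQ h'⟩
        let u' : Q := ⟨part h * u * (part h)⁻¹, hS.conj_mem _ (hX (hpartX h)).1 u u.2⟩
        rw [← hwX (part h) (hpartX h) u u' rfl, ← map_mul]
        refine congrArg w (Subtype.ext ?_)
        show ((h : H) : G) * ((h' : H) : G) * (part (h * h'))⁻¹ =
          ((h : H) : G) * (part h)⁻¹ * (part h * (((h' : H) : G) * (part h')⁻¹) * (part h)⁻¹)
        rw [hp']; group }
  have hwT : ∀ m : N, (wT ⟨(m : H), hNT m.2⟩ : ℂˣ) = w ⟨((m : H) : G), Subgroup.mem_subgroupOf.1 m.2⟩ :=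
    fun m => congrArg w (Subtype.ext (by
      show ((m : H) : G) * (part ⟨(m : H), hNT m.2⟩)⁻¹ = ((m : H) : G)
      rw [hpart_uniq ⟨(m : H), hNT m.2⟩ 1 (one_mem _) (by simpa using Subgroup.mem_subgroupOf.1 m.2)]
      simp))
  set tw : (T → ℂ) → T → ℂ := fun ψ h => ψ h * (wT h : ℂ) with htw
  have hover : ∀ ψ ∈ C, Cfsg.classInner (OddChar.Clifford.resTo hNT ψ) θ ≠ 0 := by
    intro ψ hψ
    rw [show OddChar.Clifford.resTo hNT ψ = θ from funext fun m =>
      hres ψ hψ ⟨⟨(m : H), hNT m.2⟩, Subgroup.mem_subgroupOf.2 m.2⟩, classInner_isIrr_self hθi]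
    exact one_ne_zero
  set θw : N → ℂ := fun x => φ ⟨((x : H) : G), Subgroup.mem_subgroupOf.1 x.2⟩ *
    (w ⟨((x : H) : G), Subgroup.mem_subgroupOf.1 x.2⟩ : ℂ) with hθw
  have hθwi : Cfsg.IsIrrCharacter N θw := isIrr_comp hS hwirr
  have hresw : ∀ ψ ∈ C, OddChar.Clifford.resTo hNT (tw ψ) = θw := fun ψ hψ => funext fun m => by
    show ψ _ * (wT _ : ℂ) = _
    rw [hres ψ hψ ⟨⟨(m : H), hNT m.2⟩, Subgroup.mem_subgroupOf.2 m.2⟩, hwT m]
  have hoverw : ∀ ψ ∈ C, Cfsg.classInner (OddChar.Clifford.resTo hNT (tw ψ)) θw ≠ 0 := fun ψ hψ => by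
    rw [hresw ψ hψ, classInner_isIrr_self hθwi]; exact one_ne_zero
  have htwi : ∀ ψ ∈ C, Cfsg.IsIrrCharacter T (tw ψ) := fun ψ hψ => by
    simpa [htw, mul_comm] using isIrrCharacter_mul_linear (hC ψ hψ) wT
  have hcor : ∀ ψ ∈ C, ∀ ψ' ∈ C, Cfsg.IsIrrCharacter H (Cfsg.indFun T ψ) ∧
      (Cfsg.indFun T ψ = Cfsg.indFun T ψ' → ψ = ψ') := fun ψ h ψ' h' =>
    OddChar.Clifford.correspondence N T hθi hTφ hNT (hC ψ h) (hC ψ' h') (hover ψ h) (hover ψ' h')
  have hcorw : ∀ ψ ∈ C, ∀ ψ' ∈ C, Cfsg.IsIrrCharacter H (Cfsg.indFun T (tw ψ)) ∧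
      (Cfsg.indFun T (tw ψ) = Cfsg.indFun T (tw ψ') → tw ψ = tw ψ') := fun ψ h ψ' h' =>
    OddChar.Clifford.correspondence N T hθwi hTw hNT (htwi ψ h) (htwi ψ' h') (hoverw ψ h)
      (hoverw ψ' h')
  let ξ : C → Cfsg.IrrCharacter H := fun ψ => ⟨Cfsg.indFun T (tw ψ), (hcorw ψ ψ.2 ψ ψ.2).1⟩
  let ξ' : C → Cfsg.IrrCharacter H := fun ψ => ⟨Cfsg.indFun T ψ, (hcor ψ ψ.2 ψ ψ.2).1⟩
  -- values at `s`
  have hsN : (⟨s, hs.1⟩ : H) ∈ N := Subgroup.mem_subgroupOf.2 (involution_mem hS hs.1 hs.2.2)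
  have hval : ∀ (F : T → ℂ) (θ₁ : Q → ℂ),
      (∀ m : N, F ⟨(m : H), hNT m.2⟩ = θ₁ ⟨((m : H) : G), Subgroup.mem_subgroupOf.1 m.2⟩) →
      (Nat.card X : ℂ) * Cfsg.indFun T F ⟨s, hs.1⟩ = indQ a Q θ₁ ⟨s, hs.1⟩ := by
    intro F θ₁ hF
    have h1 : (Nat.card T : ℂ) * Cfsg.indFun T F ⟨s, hs.1⟩ =
        (Nat.card N : ℂ) * indQ a Q θ₁ ⟨s, hs.1⟩ := by
      rw [indQ, CharTheory.IndBasic.card_mul_indFun, CharTheory.IndBasic.card_mul_indFun]
      refine Finset.sum_congr rfl fun x _ => ?_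
      have hm : x⁻¹ * ⟨s, hs.1⟩ * x ∈ N := by simpa using hN.conj_mem _ hsN x⁻¹
      rw [CharTheory.IndBasic.extendByZero_of_mem T F (hNT hm),
        CharTheory.IndBasic.extendByZero_of_mem N _ hm]
      exact hF ⟨_, hm⟩
    have h2 : Nat.card T = Nat.card N * Nat.card X := by
      rw [← hidx, ← (N.subgroupOf T).card_mul_index,
        Nat.card_congr (Subgroup.subgroupOfEquivOfLe hNT).toEquiv]
    rw [h2, Nat.cast_mul, mul_assoc] at h1
    exact mul_left_cancel₀ (Nat.cast_ne_zero.2 Nat.card_pos.ne') h1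
  have hv' : ∀ k : C, (Nat.card X : ℂ) * (ξ' k : H → ℂ) ⟨s, hs.1⟩ = indQ a Q φ ⟨s, hs.1⟩ := fun k =>
    hval (k : T → ℂ) φ fun m => hres k k.2 ⟨⟨(m : H), hNT m.2⟩, Subgroup.mem_subgroupOf.2 m.2⟩
  have hv : ∀ k : C, (Nat.card X : ℂ) * (ξ k : H → ℂ) ⟨s, hs.1⟩ =
      indQ a Q (fun q => φ q * (w q : ℂ)) ⟨s, hs.1⟩ := fun k =>
    hval (tw k) _ fun m => congrFun (hresw k k.2) m
  refine ⟨C, inferInstance, ξ, ξ', ?_, by rw [Fintype.card_coe, hcard], ?_, ?_, ?_, ?_⟩
  · intro x y hxy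
    rcases x with k | k <;> rcases y with l | l <;> simp only [Sum.elim_inl, Sum.elim_inr] at hxy
    · have h1 := (hcorw k k.2 l l.2).2 (congrArg Subtype.val hxy)
      refine congrArg Sum.inl (Subtype.ext (funext fun h => mul_right_cancel₀ (Units.ne_zero (wT h)) ?_))
      exact congrFun h1 h
    · exact absurd (by rw [← hv k, ← hv' l, hxy]) hne
    · exact absurd (by rw [← hv l, ← hv' k, ← hxy]) hne
    · exact congrArg Sum.inr (Subtype.ext ((hcor k k.2 l l.2).2 (congrArg Subtype.val hxy)))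
  · show ∑ k : C, Cfsg.indFun T (k : T → ℂ) = _
    rw [Finset.sum_coe_sort C (fun ψ => Cfsg.indFun T ψ), ← OddChar.Clifford.indFun_sum,
      ← hind, indQ]
    exact indFun_trans N T hNT θ
  · intro k
    refine ⟨fun x y => by
      simp [ξ, ξ', indFun_isClassFunction T (tw (k : T → ℂ)) x y,
        indFun_isClassFunction T (k : T → ℂ) x y], ?_⟩
    have hsupp := supp_indFun (a := a) T (fun h => tw (k : T → ℂ) h - (k : T → ℂ) h) fun h hh => ?_
    · intro x hx
      have := hsupp.2 x hx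
      rw [show (fun h => tw (k : T → ℂ) h - (k : T → ℂ) h) = tw (k : T → ℂ) - (k : T → ℂ) from rfl,
        indFun_sub] at this
      exact this
    · obtain ⟨c, hc, hfix⟩ := hh
      obtain ⟨r, hr, rfl⟩ := exists_q hS hc
      have hmem : (wT h : ℂˣ) = 1 := by
        set x := part h
        set q := ((h : H) : G) * x⁻¹ with hqdef
        have hx := hX (hpartX h)
        have hb : (r⁻¹ * q * (x * r * x⁻¹)) • (t • a) = t • a := by
          calc (r⁻¹ * q * (x * r * x⁻¹)) • (t • a)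
              = (r⁻¹ * q * (x * r * x⁻¹)) • (x • (t • a)) := by rw [show x • (t • a) = t • a from hx.2]
            _ = r⁻¹ • (((h : H) : G) • (r • (t • a))) := by
              simp only [smul_smul, hqdef]; congr 1; group
            _ = t • a := by rw [hfix, inv_smul_smul]
        have hmemQ : r⁻¹ * q * (x * r * x⁻¹) ∈ Q :=
          mul_mem (mul_mem (inv_mem hr) (hpartQ h)) (hS.conj_mem x hx.1 r hr)
        have h1 : r⁻¹ * q * (x * r * x⁻¹) = 1 := inf_D hS hmemQ ⟨hS.le hmemQ, hb⟩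
        show w ⟨q, hpartQ h⟩ = 1
        let ru : Q := ⟨r, hr⟩
        let rv : Q := ⟨x * r * x⁻¹, hS.conj_mem x hx.1 r hr⟩
        rw [show (⟨q, hpartQ h⟩ : Q) = ru * rv⁻¹ from Subtype.ext (by
          show q = r * (x * r * x⁻¹)⁻¹
          calc q = r * (r⁻¹ * q * (x * r * x⁻¹)) * (x * r * x⁻¹)⁻¹ := by group
            _ = r * (x * r * x⁻¹)⁻¹ := by rw [h1, mul_one]),
          map_mul, map_inv, hwX x (hpartX h) ru rv rfl, mul_inv_cancel]
      simp [htw, hmem]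
  · intro k
    rw [mul_sub, hv k, hv' k]
  · intro k
    refine ⟨?_, ?_⟩
    · simp [ξ, ξ', htw, indFun_one]
    · show (Nat.card X : ℂ) * Cfsg.indFun T (k : T → ℂ) 1 = _
      rw [indFun_one, (hprop k k.2).1, Nat.cast_one, one_mul, ← mul_assoc, ← Nat.cast_mul]
      congr 2
      have h3 := Subgroup.relIndex_mul_index hNT
      rw [Subgroup.relIndex, hidx, hNdef, index_subgroupOf hS] at h3
      exact h3

end Cfsg.Agent.Involutions.RankOne.Char
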