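import Cfsg.Agent.Lib.Involutions.RankOne.Char.TwoGroup.Induction
import Cfsg.Agent.Lib.Involutions.RankOne.Char.TwoGroup.Suzuki

/-!
# `Q` is a 2-group
-/

set_option autoImplicit false

namespace Cfsg.Agent.Involutions.RankOne.Char

open MulAction

universe u v

/-- In a faithful rank-one set-up with two commuting involutions, `Q` is a 2-group. -/
theorem isPGroup_two {G : Type u} {Ω : Type v} [Group G] [Finite G] [MulAction G Ω]
    [FaithfulSMul G Ω] {a : Ω} {t : G} {Q : Subgroup G} (hS : Cfsg.IsRankOneSetup G Ω a t Q)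
    (h2 : ∃ x y : G, x ≠ 1 ∧ y ≠ 1 ∧ x ≠ y ∧ x * x = 1 ∧ y * y = 1 ∧ x * y = y * x) :
    IsPGroup 2 Q := by
  refine isPGroup_two_of ?_ hS h2
  intro G _ _ Ω _ a t s Q E S O g n hS sp F hs h2 red hO
  classical
  haveI := Fintype.ofFinite G
  haveI := Fintype.ofFinite (MulAction.stabilizer G a)
  haveI := Fintype.ofFinite (Cfsg.IrrCharacter G)
  rcases sp.abelian_or_suzuki hS h2 with hA | hP
  · exact sp.false_of_abelian hS F hs h2 red hO hA
  · exact sp.false_of_suzuki hS F hs h2 red hO hP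

end Cfsg.Agent.Involutions.RankOne.Char
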