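import Cfsg.Agent.Lib.Involutions.RankOne.Char.Local

/-!
# Small stabilisers in `D`

A subgroup of `D` all of whose elements of prime order centralise exactly one involution of `G_a`.
-/

set_option autoImplicit false
set_option linter.unusedSectionVars false

namespace Cfsg.Agent.Involutions.RankOne.Char

open MulAction

universe u v

variable {G : Type u} {Ω : Type v} [Group G] [Finite G] [MulAction G Ω] {a : Ω} {t : G}
  {Q E : Subgroup G} {g : G} {n : ℕ}

/-- Every element of prime order of `T` centralises one involution of `E`. -/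
def SmallFix (E T : Subgroup G) : Prop :=
  ∀ x ∈ T, (orderOf x).Prime → Nat.card ↥(E ⊓ Subgroup.centralizer ({x} : Set G)) = 2

theorem Frame.small_stab (F : Frame a t Q E g n) (hS : Cfsg.IsRankOneSetup G Ω a t Q)
    {T : Subgroup G} (hT : T ≤ MulAction.stabilizer G a ⊓ MulAction.stabilizer G (t • a))
    (hfix : SmallFix E T) :
    T = ⊥ ∨ (n.Prime ∧ Odd n ∧ 3 ≤ n ∧ Nat.card T = n ∧
      ∀ x ∈ T, x ≠ 1 → ¬ Commute x g ∧ Subgroup.zpowers x = T ∧
        Nat.card ↥(E ⊓ Subgroup.centralizer ({x} : Set G)) = 2) := by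
  classical
  rcases eq_or_ne T ⊥ with hbot | hne
  · exact Or.inl hbot
  refine Or.inr ?_
  have hpow : ∀ x ∈ T, x ≠ 1 → ∃ j : ℕ, (orderOf (x ^ j)).Prime := by
    intro x _ hx1
    obtain ⟨p, hp, hpd⟩ := Nat.exists_prime_and_dvd (fun h => hx1 (orderOf_eq_one_iff.1 h))
    exact ⟨orderOf x / p, by rw [orderOf_pow_orderOf_div (orderOf_pos x).ne' hpd]; exact hp⟩
  have hng : ∀ x ∈ T, x ≠ 1 → ¬ Commute x g := by
    intro x hx hx1 hc
    obtain ⟨j, hj⟩ := hpow x hx hx1
    exact F.g_ne_one ((F.prime_eq (hT (pow_mem hx j)) hj hS.odd_card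
      (hfix _ (pow_mem hx j) hj)).1 g (Subgroup.mem_zpowers g) (hc.pow_left j))
  have hdvd : Nat.card T ∣ n := F.card_dvd hT fun x hx hc => by
    by_contra hx1
    exact hng x hx hx1 hc
  obtain ⟨z, hz, hz1⟩ : ∃ z ∈ T, z ≠ 1 := by
    by_contra h
    push Not at h
    exact hne ((Subgroup.eq_bot_iff_forall T).2 h)
  obtain ⟨j, hj⟩ := hpow z hz hz1
  obtain ⟨-, ho, hodd, h3⟩ := F.prime_eq (hT (pow_mem hz j)) hj hS.odd_card
    (hfix _ (pow_mem hz j) hj)
  rw [ho] at hj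
  have hcard : Nat.card T = n := by
    rcases (Nat.dvd_prime hj).1 hdvd with h | h
    · exact absurd (Subgroup.card_eq_one.1 h) hne
    · exact h
  refine ⟨hj, hodd, h3, hcard, fun x hx hx1 => ?_⟩
  have hox : orderOf x = n := by
    have h := orderOf_dvd_natCard (⟨x, hx⟩ : T)
    rw [Subgroup.orderOf_mk, hcard] at h
    exact ((Nat.dvd_prime hj).1 h).resolve_left fun e => hx1 (orderOf_eq_one_iff.1 e)
  refine ⟨hng x hx hx1, Subgroup.eq_of_le_of_card_ge (Subgroup.zpowers_le.2 hx) ?_,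
    hfix x hx (hox ▸ hj)⟩
  rw [hcard, Nat.card_zpowers, hox]

/-- With a non-trivial small stabiliser exactly two homomorphisms of `E` are fixed. -/
theorem Frame.card_fixed_small (F : Frame a t Q E g n) (hS : Cfsg.IsRankOneSetup G Ω a t Q)
    {T : Subgroup G} (hT : T ≤ MulAction.stabilizer G a ⊓ MulAction.stabilizer G (t • a))
    (hfix : SmallFix E T) (hne : T ≠ ⊥) :
    Nat.card {ω : E →* ℂˣ // ∃ x ∈ T, x ≠ 1 ∧ FixedBy E x ω} = 2 := by
  obtain ⟨-, -, -, -, h⟩ := (F.small_stab hS hT hfix).resolve_left hne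
  obtain ⟨z, hz, hz1⟩ : ∃ z ∈ T, z ≠ 1 := by
    by_contra hh
    push Not at hh
    exact hne ((Subgroup.eq_bot_iff_forall T).2 hh)
  obtain ⟨-, hgen, hE⟩ := h z hz hz1
  rw [← F.card_fixed_E (hT hz) hE]
  refine Nat.card_congr (Equiv.subtypeEquivRight fun ω => ⟨fun ⟨x, hx, hx1, hf⟩ => ?_,
    fun hf => ⟨z, hz, hz1, hf⟩⟩)
  obtain ⟨-, hgen', -⟩ := h x hx hx1
  obtain ⟨i, hi⟩ := Submonoid.mem_powers_iff _ _ |>.mp
    (mem_powers_iff_mem_zpowers.mpr (hgen' ▸ hz : z ∈ Subgroup.zpowers x))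
  have key : ∀ i : ℕ, ∀ u w : E, (w : G) = x ^ i * u * (x ^ i)⁻¹ → ω w = ω u := by
    intro i
    induction i with
    | zero => intro u w hw; congr 1; exact Subtype.ext (by simpa using hw)
    | succ i ih =>
      intro u w hw
      let v : E := ⟨x * u * x⁻¹, F.E_conj x (hT hx) u u.2⟩
      rw [ih v w (by rw [hw]; show _ = x ^ i * (x * (u : G) * x⁻¹) * (x ^ i)⁻¹; group)]
      exact hf u v rfl
  exact fun u w hw => key i u w (by rw [hi]; exact hw)

end Cfsg.Agent.Involutions.RankOne.Char
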