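import Cfsg.Agent.Lib.Involutions.RankOne.Char.AbelianPairs
import Cfsg.Agent.Lib.Involutions.RankOne.Char.Stab

/-!
# An abelian `Q` of two-power order has exponent two
-/

set_option autoImplicit false
set_option linter.unusedSectionVars false
set_option linter.style.haveILetI false

namespace Cfsg.Agent.Involutions.RankOne.Char

open MulAction Involutions.Basic
open Cfsg.Agent.Characters
open scoped IsMulCommutative

universe u v

namespace AbelianCase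

theorem arith_one {N M r : ℕ} (hr : 2 ≤ r) (hN : (r + 2) ^ 2 ≤ N) (hM : N ≤ M + 1)
    (hb : (r + 2) ^ 2 * M ≤ 4 * N * (r + 1) + r ^ 2) : False := by
  have h1 : (r + 2) ^ 2 * N ≤ (r + 2) ^ 2 * M + (r + 2) ^ 2 := by
    calc (r + 2) ^ 2 * N ≤ (r + 2) ^ 2 * (M + 1) := Nat.mul_le_mul_left _ hM
      _ = _ := by ring
  have h3 : r ^ 2 * N ≤ (r + 2) ^ 2 + r ^ 2 := by nlinarith
  have h4 : r ^ 2 * (r + 2) ^ 2 ≤ r ^ 2 * N := Nat.mul_le_mul_left _ hN
  have h5 : 2 * 2 * (r + 2) ^ 2 ≤ r ^ 2 * (r + 2) ^ 2 :=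
    Nat.mul_le_mul_right _ (by nlinarith)
  nlinarith

theorem arith_good {N M A B r n : ℕ} (hr : 6 ≤ r) (hA : 1 ≤ A) (hB : B + 1 = 4 * A)
    (hN : (r + 2) ^ 2 * A ≤ N) (h2n : 2 * n ≤ r + 2) (hM : N ≤ M + 1 + (r + 1) * B)
    (hle : M ≤ (r + 1) * n) : False := by
  have h1 : (r + 1) * (2 * n) ≤ (r + 1) * (r + 2) := Nat.mul_le_mul_left _ h2n
  have h2 : (r + 1) * (B + 1) = (r + 1) * (4 * A) := by rw [hB]
  have h3 : r * r * 1 ≤ r * r * A := Nat.mul_le_mul_left _ hA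
  have h4 : 6 * r ≤ r * r := Nat.mul_le_mul_right _ hr
  nlinarith

theorem arith_final {N M A B r : ℕ} (hr : 6 ≤ r) (hA : 1 ≤ A) (hB : B + 1 = 4 * A)
    (hN : (r + 2) ^ 2 * A ≤ N) (hM : N ≤ M + 1 + (r + 1) * B)
    (hb : (r + 2) ^ 2 * M ≤ 4 * N * (r + 1) + r ^ 2) : False := by
  set q := (r + 2) ^ 2 with hq
  have h1 : q * N ≤ q * (M + 1 + (r + 1) * B) := Nat.mul_le_mul_left _ hM
  have h2 : r ^ 2 * N ≤ q + q * ((r + 1) * B) + r ^ 2 := by nlinarith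
  have h3 : r ^ 2 * (q * A) ≤ r ^ 2 * N := Nat.mul_le_mul_left _ hN
  have h4 : q * ((r + 1) * B) + q * (r + 1) = 4 * (r + 1) * (q * A) := by
    rw [← mul_add, ← Nat.mul_succ, Nat.succ_eq_add_one, hB]; ring
  have h5 : 4 * (r + 1) * (q * A) ≤ r ^ 2 * (q * A) :=
    Nat.mul_le_mul_right _ (by nlinarith)
  have h6 : r ^ 2 < q := by rw [hq]; nlinarith
  have h7 : q * 2 ≤ q * r := Nat.mul_le_mul_left _ (by omega)
  nlinarith

variable {G : Type u} {Ω : Type v} [Group G] [Finite G] [MulAction G Ω] {a : Ω} {t : G}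
  {Q E : Subgroup G} {g : G} {n : ℕ} {s w : G}

local notation "H" => MulAction.stabilizer G a
local notation "D" => (MulAction.stabilizer G a ⊓ MulAction.stabilizer G (t • a))

variable (hS : Cfsg.IsRankOneSetup G Ω a t Q) (F : Frame a t Q E g n)
include hS F

omit F in
theorem isMulComm_Q (hcomm : ∀ x ∈ Q, ∀ y ∈ Q, x * y = y * x) : IsMulCommutative Q :=
  ⟨⟨fun x y => Subtype.ext (hcomm x x.2 y y.2)⟩⟩

/-- An element of order at least four makes every involution a square. -/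
theorem exists_root (hQ2 : IsPGroup 2 Q) {x : G} (hx : x ∈ Q) (hx2 : x * x ≠ 1) {e : G} (he : e ∈ E) :
    ∃ y ∈ Q, y * y = e := by
  by_cases he1 : e = 1
  · exact ⟨1, one_mem _, by rw [he1, one_mul]⟩
  obtain ⟨k, hk⟩ := hQ2 ⟨x, hx⟩
  have hk' : x ^ (2 ^ k) = 1 := congrArg Subtype.val hk
  have : ∀ (k : ℕ) (x : G), x ∈ Q → x * x ≠ 1 → x ^ (2 ^ k) = 1 →
      ∃ y ∈ Q, y * y ≠ 1 ∧ (y * y) * (y * y) = 1 := by
    intro k
    induction k with
    | zero =>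
      intro x _ hx2 h
      rw [pow_zero, pow_one] at h
      exact absurd (by rw [h, one_mul]) hx2
    | succ k ih =>
      intro x hx hx2 h
      by_cases h4 : (x * x) * (x * x) = 1
      · exact ⟨x, hx, hx2, h4⟩
      · exact ih (x * x) (mul_mem hx hx) h4 (by rw [← pow_two, ← pow_mul, ← pow_succ']; exact h)
  obtain ⟨y, hy, hy2, hy4⟩ := this k x hx hx2 hk'
  obtain ⟨k, hk, hke⟩ := F.move (y * y) (mem_E_of_sq hS F (mul_mem hy hy) hy4) hy2 e he he1
  exact ⟨k * y * k⁻¹, hS.conj_mem k (F.zpowers_le_D hk).1 y hy, by rw [← hke]; group⟩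

/-- An element of order at least four gives `q ^ 2 ≤ |Q|`. -/
theorem sq_le_card (hQ2 : IsPGroup 2 Q) (hcomm : ∀ x ∈ Q, ∀ y ∈ Q, x * y = y * x) {x : G}
    (hx : x ∈ Q) (hx2 : x * x ≠ 1) : (2 ^ n) ^ 2 ≤ Nat.card Q := by
  haveI : Fact (Nat.Prime 2) := ⟨Nat.prime_two⟩
  obtain ⟨j, hj⟩ := IsPGroup.iff_orderOf.1 hQ2 ⟨x, hx⟩
  rw [Subgroup.orderOf_mk] at hj
  have hj2 : 2 ≤ j := by
    by_contra hlt
    refine hx2 ?_
    rw [← pow_two]
    exact orderOf_dvd_iff_pow_eq_one.1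
      (hj ▸ (pow_dvd_pow 2 (show j ≤ 1 by omega)).trans (by norm_num))
  exact (Nat.pow_le_pow_right Nat.one_le_two_pow hj2).trans (pow_le_card hS F hcomm hx hj)

omit F in
theorem conjHom_iterate {d : G} (hd : ∀ x ∈ Q, d * x * d⁻¹ ∈ Q) (i : ℕ) (x : Q) :
    (((conjHom Q d hd)^[i] x : Q) : G) = d ^ i * x * (d ^ i)⁻¹ := by
  induction i with
  | zero => simp
  | succ i ih =>
    rw [Function.iterate_succ_apply']
    show d * _ * d⁻¹ = _
    rw [ih, pow_succ']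
    group

omit F in
theorem iterate_orderOf {d : G} (hd : ∀ x ∈ Q, d * x * d⁻¹ ∈ Q) (x : Q) :
    ((conjHom Q d hd)^[orderOf d]) x = x :=
  Subtype.ext (by rw [conjHom_iterate hS, pow_orderOf_eq_one]; simp)

omit F in
theorem FixedBy.pow {M : Type*} [Group M] {d : G} (hd : ∀ x ∈ Q, d * x * d⁻¹ ∈ Q) {f : Q →* M}
    (h : FixedBy Q d f) (i : ℕ) (x : Q) : f ((conjHom Q d hd)^[i] x) = f x := by
  induction i with
  | zero => rfl
  | succ i ih => rw [Function.iterate_succ_apply', h _ _ rfl, ih]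

omit F in
/-- The mean of a square root of a fixed involution is a fixed square root. -/
theorem fixed_root (hcomm : ∀ x ∈ Q, ∀ y ∈ Q, x * y = y * x) {d : G} (hd : d ∈ D) (hsd : Commute s d)
    (hs2 : s * s = 1) {y : G} (hy : y ∈ Q) (hys : y * y = s) :
    ∃ z ∈ Q, Commute z d ∧ z * z = s := by
  haveI := isMulComm_Q hS hcomm
  have hdQ : ∀ x ∈ Q, d * x * d⁻¹ ∈ Q := fun x hx => hS.conj_mem d hd.1 x hx
  have hp : Odd (orderOf d) := hS.odd_card.of_dvd_nat (by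
    rw [← Subgroup.orderOf_mk d hd]; exact orderOf_dvd_natCard _)
  set z := avg (conjHom Q d hdQ) (orderOf d) ⟨y, hy⟩ with hz
  refine ⟨z, z.2, ?_, ?_⟩
  · have h : d * (z : G) * d⁻¹ = z :=
      congrArg Subtype.val (avg_fixed (c := conjHom Q d hdQ) (iterate_orderOf hS hdQ) ⟨y, hy⟩)
    exact (mul_inv_eq_iff_eq_mul.1 h).symm
  · have h : z * z = (⟨s, hys ▸ mul_mem hy hy⟩ : Q) := by
      rw [hz, ← map_mul, show (⟨y, hy⟩ : Q) * ⟨y, hy⟩ = ⟨s, hys ▸ mul_mem hy hy⟩ from Subtype.ext hys,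
        avg_of_fixed (Subtype.ext (by
          show d * s * d⁻¹ = s
          rw [← hsd.eq, mul_inv_cancel_right]))]
      obtain ⟨m, hm⟩ := hp
      refine Subtype.ext ?_
      rw [SubgroupClass.coe_pow]
      show s ^ orderOf d = s
      rw [hm, pow_succ, pow_mul, pow_two, hs2, one_pow, one_mul]
    exact congrArg Subtype.val h

omit F in
/-- Fixed homomorphisms are determined on the fixed points. -/
theorem card_fixed_le (hQ2 : IsPGroup 2 Q) (hcomm : ∀ x ∈ Q, ∀ y ∈ Q, x * y = y * x) {d : G}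
    (hd : d ∈ D) :
    Nat.card {φ : Q →* ℂˣ // FixedBy Q d φ} ≤
      Nat.card ↥(Q ⊓ Subgroup.centralizer ({d} : Set G)) := by
  haveI := isMulComm_Q hS hcomm
  set C := Q ⊓ Subgroup.centralizer ({d} : Set G)
  haveI : IsMulCommutative C :=
    ⟨⟨fun x y => Subtype.ext (hcomm x (Subgroup.mem_inf.1 x.2).1 y (Subgroup.mem_inf.1 y.2).1)⟩⟩
  haveI : NeZero (Monoid.exponent C) := ⟨Monoid.exponent_ne_zero_of_finite⟩
  haveI := finite_hom C
  rw [← CommGroup.card_monoidHom_of_hasEnoughRootsOfUnity C ℂ]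
  refine Nat.card_le_card_of_injective
    (fun φ => φ.1.comp (Subgroup.inclusion (inf_le_left : C ≤ Q))) ?_
  rintro ⟨φ, hφ⟩ ⟨φ', hφ'⟩ e
  have hdQ : ∀ x ∈ Q, d * x * d⁻¹ ∈ Q := fun x hx => hS.conj_mem d hd.1 x hx
  have hp : Odd (orderOf d) := hS.odd_card.of_dvd_nat (by
    rw [← Subgroup.orderOf_mk d hd]; exact orderOf_dvd_natCard _)
  set c := conjHom Q d hdQ
  have hpow : ∀ ψ : Q →* ℂˣ, FixedBy Q d ψ → ∀ x, ψ (avg c (orderOf d) x) = ψ x ^ orderOf d := by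
    intro ψ hψ x
    rw [avg_apply, map_prod, Finset.prod_congr rfl fun i _ => FixedBy.pow hS hdQ hψ i x]
    simp
  refine Subtype.ext (MonoidHom.ext fun x => ?_)
  have hmem : ((avg c (orderOf d) x : Q) : G) ∈ C := by
    refine Subgroup.mem_inf.2 ⟨(avg c _ x).2, Subgroup.mem_centralizer_singleton_iff.2 ?_⟩
    have h : d * ((avg c (orderOf d) x : Q) : G) * d⁻¹ = avg c (orderOf d) x :=
      congrArg Subtype.val (avg_fixed (c := c) (iterate_orderOf hS hdQ) x)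
    exact (mul_inv_eq_iff_eq_mul.1 h).symm
  have h1 : φ (avg c (orderOf d) x) = φ' (avg c (orderOf d) x) :=
    DFunLike.congr_fun e ⟨_, hmem⟩
  rw [hpow φ hφ, hpow φ' hφ'] at h1
  obtain ⟨k, hk⟩ := hQ2 x
  have h2 : (φ x / φ' x) ^ (2 ^ k) = 1 := by
    rw [div_pow, ← map_pow, ← map_pow, hk, map_one, map_one, div_one]
  have h3 : (φ x / φ' x) ^ orderOf d = 1 := by rw [div_pow, h1, div_self']
  have h4 := (pow_gcd_eq_one (a := φ x / φ' x)).2 ⟨h2, h3⟩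
  rw [show Nat.gcd (2 ^ k) (orderOf d) = 1 from
    (Nat.Coprime.pow_left k (Nat.coprime_two_left.2 hp)), pow_one, div_eq_one] at h4
  exact h4

/-- The irregular homomorphisms, when the stabiliser of `s` in `D` is cyclic of prime order. -/
theorem bad_le (hs : s ∈ E) (hs1 : s ≠ 1)
    (hgen : ∀ x ∈ D ⊓ Subgroup.centralizer ({s} : Set G), x ≠ 1 →
      Subgroup.zpowers x = D ⊓ Subgroup.centralizer ({s} : Set G))
    (hK : ∀ x ∈ D ⊓ Subgroup.centralizer ({s} : Set G), x ≠ 1 →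
      ∀ k ∈ Subgroup.zpowers g, Commute x k → k = 1)
    (hw : w ∈ D ⊓ Subgroup.centralizer ({s} : Set G)) :
    Nat.card {φ : Q →* ℂˣ // φ ≠ 1 ∧ ¬ Reg a t Q φ} ≤
      (2 ^ n - 1) * (Nat.card {φ : Q →* ℂˣ // FixedBy Q w φ} - 1) := by
  classical
  haveI := finite_hom Q
  have hKQ : ∀ k ∈ Subgroup.zpowers g, ∀ x ∈ Q, k * x * k⁻¹ ∈ Q := fun k hk x hx =>
    hS.conj_mem k (F.zpowers_le_D hk).1 x hx
  have key : ∀ φ : Q →* ℂˣ, φ ≠ 1 → ¬ Reg a t Q φ → ∃ (k : Subgroup.zpowers g),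
      FixedBy Q w (φ.comp (conjHom Q (k : G) (hKQ _ k.2))) := by
    intro φ hφ hreg
    simp only [Reg, not_and, not_forall] at hreg
    obtain ⟨d, hd, hfix, hd1⟩ := hreg hφ
    obtain ⟨k, hk, v, hv, rfl⟩ := exists_kv hS F hs hs1 hd
    have hv1 : v ≠ 1 := by
      rintro rfl
      rw [mul_one] at hfix hd1
      exact hφ (F.hom_eq_one le_rfl (fun x hx => hKQ g (Subgroup.mem_zpowers g) x hx) hk hd1 φ hfix)
    have hvD := (Subgroup.mem_inf.1 hv).1
    obtain ⟨i, hi⟩ := F.twoPow v hvD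
    have hvK : ∀ x ∈ Subgroup.zpowers g, v * x * v⁻¹ ∈ Subgroup.zpowers g := by
      intro x hx
      obtain ⟨j, rfl⟩ := Subgroup.mem_zpowers_iff.1 hx
      rw [← conj_zpow, hi]
      exact zpow_mem (pow_mem (Subgroup.mem_zpowers g) _) j
    let θ : Subgroup.zpowers g → Subgroup.zpowers g := fun x =>
      ⟨(x : G) * (v * (x : G)⁻¹ * v⁻¹), mul_mem x.2 (hvK _ (inv_mem x.2))⟩
    have hθ : Function.Injective θ := fun x y e => by
      have e' : (x : G) * (v * (x : G)⁻¹ * v⁻¹) = y * (v * (y : G)⁻¹ * v⁻¹) :=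
        congrArg Subtype.val e
      have hc : Commute v ((y : G)⁻¹ * x) := by
        show v * ((y : G)⁻¹ * x) = (y : G)⁻¹ * x * v
        calc v * ((y : G)⁻¹ * x) = (y : G)⁻¹ * ((y : G) * (v * (y : G)⁻¹ * v⁻¹)) * v * x := by group
          _ = (y : G)⁻¹ * ((x : G) * (v * (x : G)⁻¹ * v⁻¹)) * v * x := by rw [e']
          _ = (y : G)⁻¹ * x * v := by group
      exact Subtype.ext (inv_mul_eq_one.1 (hK v hv hv1 _ (mul_mem (inv_mem y.2) x.2) hc)).symm
    obtain ⟨κ, hκ⟩ := Finite.injective_iff_surjective.1 hθ ⟨k, hk⟩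
    have hκ' : (κ : G) * (v * (κ : G)⁻¹ * v⁻¹) = k := congrArg Subtype.val hκ
    refine ⟨κ, ?_⟩
    have hvfix : FixedBy Q v (φ.comp (conjHom Q (κ : G) (hKQ _ κ.2))) := fun x y hy => by
      refine hfix _ _ ?_
      show (κ : G) * y * (κ : G)⁻¹ = k * v * ((κ : G) * x * (κ : G)⁻¹) * (k * v)⁻¹
      rw [hy, ← hκ']
      group
    obtain ⟨j, hj⟩ := Submonoid.mem_powers_iff _ _ |>.mp
      (mem_powers_iff_mem_zpowers.mpr (hgen v hv hv1 ▸ hw : w ∈ Subgroup.zpowers v))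
    intro x y hy
    have hvQ : ∀ x ∈ Q, v * x * v⁻¹ ∈ Q := fun x hx => hS.conj_mem v hvD.1 x hx
    rw [show y = (conjHom Q v hvQ)^[j] x from Subtype.ext (by rw [conjHom_iterate hS, hj, hy])]
    exact FixedBy.pow hS hvQ hvfix j x
  choose κ hκ using fun φ : {φ : Q →* ℂˣ // φ ≠ 1 ∧ ¬ Reg a t Q φ} => key φ.1 φ.2.1 φ.2.2
  have hinjK : ∀ (k : Subgroup.zpowers g), Function.Injective
      fun φ : Q →* ℂˣ => φ.comp (conjHom Q (k : G) (hKQ _ k.2)) := by
    intro k φ φ' e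
    refine MonoidHom.ext fun x => ?_
    have := DFunLike.congr_fun e ⟨(k : G)⁻¹ * x * k, by simpa using hKQ _ (inv_mem k.2) x x.2⟩
    simpa [conjHom, mul_assoc] using this
  have h1 : Nat.card {f : {φ : Q →* ℂˣ // FixedBy Q w φ} // f ≠ ⟨1, fun _ _ _ => rfl⟩} + 1 =
      Nat.card {φ : Q →* ℂˣ // FixedBy Q w φ} := by
    rw [← Finite.card_option]
    exact Nat.card_congr (Equiv.optionSubtypeNe _)
  rw [← Nat.eq_sub_of_add_eq h1, ← F.orderOf_g, ← Nat.card_zpowers, ← Nat.card_prod]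
  refine Nat.card_le_card_of_injective (fun φ => (κ φ, ⟨⟨_, hκ φ⟩, fun h => φ.2.1
    (hinjK (κ φ) ((congrArg Subtype.val h).trans (MonoidHom.one_comp _).symm))⟩)) fun φ φ' e => ?_
  obtain ⟨e1, e2⟩ := Prod.ext_iff.1 e
  have e3 := congrArg (fun x => x.1.1) e2
  simp only at e1 e3
  rw [← e1] at e3
  exact Subtype.ext (hinjK (κ φ) e3)

/-- A group with fixed points of order two has a large element. -/
theorem card_cent_le (hQ2 : IsPGroup 2 Q) (hcomm : ∀ x ∈ Q, ∀ y ∈ Q, x * y = y * x) {d : G}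
    (hE : Nat.card ↥(E ⊓ Subgroup.centralizer ({d} : Set G)) = 2) {z : G} (hz : z ∈ Q)
    (hzd : Commute z d) (hz2 : z * z ≠ 1) :
    ∃ j, 2 ≤ j ∧ Nat.card ↥(Q ⊓ Subgroup.centralizer ({d} : Set G)) ≤ 2 ^ j ∧
      (2 ^ n) ^ j ≤ Nat.card Q := by
  haveI : Fact (Nat.Prime 2) := ⟨Nat.prime_two⟩
  set C := Q ⊓ Subgroup.centralizer ({d} : Set G) with hC
  haveI : IsMulCommutative C :=
    ⟨⟨fun x y => Subtype.ext (hcomm x (Subgroup.mem_inf.1 x.2).1 y (Subgroup.mem_inf.1 y.2).1)⟩⟩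
  obtain ⟨x, hx⟩ := Monoid.exists_orderOf_eq_exponent
    (Monoid.ExponentExists.of_finite (G := C))
  obtain ⟨j, hj⟩ := IsPGroup.iff_orderOf.1 hQ2 ⟨(x : G), (Subgroup.mem_inf.1 x.2).1⟩
  rw [Subgroup.orderOf_mk] at hj
  have hexp : Monoid.exponent C = 2 ^ j := by rw [← hx, ← hj, Subgroup.orderOf_coe]
  refine ⟨j, ?_, ?_, pow_le_card hS F hcomm (Subgroup.mem_inf.1 x.2).1 hj⟩
  · by_contra hlt
    refine hz2 ?_
    have h := Monoid.pow_exponent_eq_one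
      (⟨z, Subgroup.mem_inf.2 ⟨hz, Subgroup.mem_centralizer_singleton_iff.2 hzd.eq⟩⟩ : C)
    rw [hexp] at h
    have h' : z ^ (2 ^ j) = 1 := congrArg Subtype.val h
    rw [← pow_two]
    exact orderOf_dvd_iff_pow_eq_one.1 ((orderOf_dvd_of_pow_eq_one h').trans
      ((pow_dvd_pow 2 (show j ≤ 1 by omega)).trans (by norm_num)))
  · have h1 : Nat.card (powKer C 1) = 2 := by
      rw [← hE]
      exact Nat.card_congr
        { toFun := fun y => ⟨((y : C) : G), Subgroup.mem_inf.2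
            ⟨mem_E_of_sq hS F (Subgroup.mem_inf.1 (y : C).2).1 (by
              have h := congrArg Subtype.val (mem_powKer.1 y.2)
              rw [SubgroupClass.coe_pow, pow_one, pow_two] at h
              exact h), (Subgroup.mem_inf.1 (y : C).2).2⟩⟩
          invFun := fun y => ⟨⟨y, Subgroup.mem_inf.2 ⟨F.E_le (Subgroup.mem_inf.1 y.2).1,
            (Subgroup.mem_inf.1 y.2).2⟩⟩, mem_powKer.2 (Subtype.ext (by
              rw [SubgroupClass.coe_pow, pow_one, pow_two]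
              exact sq_of_mem_E hS F (Subgroup.mem_inf.1 y.2).1))⟩
          left_inv := fun y => rfl
          right_inv := fun y => rfl }
    calc Nat.card C = Nat.card (powKer C j) := by
          rw [show powKer C j = ⊤ from (Subgroup.eq_top_iff' _).2 fun y => mem_powKer.2 (by
            rw [← hexp]; exact Monoid.pow_exponent_eq_one y)]
          exact (Nat.card_congr Subgroup.topEquiv.toEquiv).symm
      _ ≤ Nat.card (powKer C 1) ^ j := card_powKer_le j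
      _ = 2 ^ j := by rw [h1]

/-- The induction step. -/
theorem sq_eq_one_of_cent (h2 : ∃ x y : G, x ≠ 1 ∧ y ≠ 1 ∧ x ≠ y ∧ x * x = 1 ∧ y * y = 1 ∧ x * y = y * x)
    (hQ2 : IsPGroup 2 Q) (hcomm : ∀ x ∈ Q, ∀ y ∈ Q, x * y = y * x)
    (hcent : ∀ d ∈ D, d ≠ 1 → ∀ e ∈ E, ∀ e' ∈ E, e ≠ 1 → e' ≠ 1 → e ≠ e' →
      Commute e d → Commute e' d → ∀ y ∈ Q, Commute y d → y * y = 1) :
    ∀ x ∈ Q, x * x = 1 := by
  classical
  intro x hx
  by_contra hx2
  haveI := Fintype.ofFinite G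
  haveI := Fintype.ofFinite H
  haveI := Fintype.ofFinite (Cfsg.IrrCharacter G)
  haveI := finite_hom Q
  haveI := isMulComm_Q hS hcomm
  haveI : NeZero (Monoid.exponent Q) := ⟨Monoid.exponent_ne_zero_of_finite⟩
  have hq4 := F.three_le_q
  obtain ⟨s, hsE, hs1⟩ : ∃ s ∈ E, s ≠ 1 := by
    by_contra h
    push Not at h
    have := F.card_E
    rw [Subgroup.card_eq_one.2 ((Subgroup.eq_bot_iff_forall E).2 h)] at this
    omega
  have hs : s ∈ Cfsg.involutionsIn (H : Set G) := ((F.mem_E s).1 hsE).resolve_left hs1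
  obtain ⟨y, hy, hys⟩ := exists_root hS F hQ2 hx hx2 hsE
  set V := D ⊓ Subgroup.centralizer ({s} : Set G) with hVdef
  have hsV : ∀ d ∈ V, Commute s d := fun d hd =>
    (Subgroup.mem_centralizer_singleton_iff.1 (Subgroup.mem_inf.1 hd).2).symm
  -- a non-identity element of `V` fixes only `s`
  have hfix : ∀ d ∈ V, d ≠ 1 → Nat.card ↥(E ⊓ Subgroup.centralizer ({d} : Set G)) = 2 := by
    intro d hd hd1
    have hdD := (Subgroup.mem_inf.1 hd).1
    rw [Nat.card_eq_two_iff' (⟨1, one_mem _⟩ : ↥(E ⊓ Subgroup.centralizer ({d} : Set G)))]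
    refine ⟨⟨s, Subgroup.mem_inf.2 ⟨hsE, Subgroup.mem_centralizer_singleton_iff.2 (hsV d hd).eq⟩⟩,
      fun h => hs1 (congrArg Subtype.val h), fun e he => Subtype.ext ?_⟩
    by_contra hne
    have he1 : (e : G) ≠ 1 := fun h => he (Subtype.ext h)
    obtain ⟨z, hz, hzd, hzs⟩ := fixed_root hS hcomm hdD (hsV d hd) hs.2.2 hy hys
    refine hs1 (hzs.symm.trans (hcent d hdD hd1 s hsE e (Subgroup.mem_inf.1 e.2).1 hs1 he1
      (Ne.symm hne) (hsV d hd) ?_ z hz hzd))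
    exact Subgroup.mem_centralizer_singleton_iff.1 (Subgroup.mem_inf.1 e.2).2
  have hN : Nat.card (Q →* ℂˣ) = Nat.card Q :=
    CommGroup.card_monoidHom_of_hasEnoughRootsOfUnity Q ℂ
  have hne1 : Nat.card {φ : Q →* ℂˣ // φ ≠ 1} + 1 = Nat.card Q := by
    rw [← hN, ← Finite.card_option]
    exact Nat.card_congr (Equiv.optionSubtypeNe 1)
  have hN2 := sq_le_card hS F hQ2 hcomm hx hx2
  obtain ⟨φ₀, hφ₀⟩ := CommGroup.exists_apply_ne_one_of_hasEnoughRootsOfUnity Q ℂ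
    (show (⟨s, F.E_le hsE⟩ : Q) ≠ 1 from fun h => hs1 (congrArg Subtype.val h))
  have hE0 : ∀ φ : Q →* ℂˣ, φ ⟨s, F.E_le hsE⟩ ≠ 1 → φ.comp (Subgroup.inclusion F.E_le) ≠ 1 :=
    fun φ h e => h (DFunLike.congr_fun e ⟨s, hsE⟩)
  have hD := card_D_eq hS F hsE hs1
  rw [← hVdef] at hD
  rcases F.small_stab hS (T := V) inf_le_left (fun d hd hp => hfix d hd fun h => by
      rw [h, orderOf_one] at hp; exact Nat.not_prime_one hp) with hV | ⟨hp, hodd, h3, hcardV, hVall⟩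
  · -- `C_D(s) = 1`
    rw [hV, Subgroup.card_bot, mul_one] at hD
    have hreg : ∀ φ : Q →* ℂˣ, φ ≠ 1 → Reg a t Q φ := fun φ hφ => ⟨hφ, fun d hd hf => by
      obtain ⟨k, hk, v, hv, rfl⟩ := exists_kv hS F hsE hs1 hd
      rw [← hVdef, hV, Subgroup.mem_bot] at hv
      rw [hv, mul_one] at hf ⊢
      by_contra hk1
      exact hφ (F.hom_eq_one le_rfl (fun x hx => hS.conj_mem g F.g_mem_D.1 x hx) hk hk1 φ hf)⟩
    have hgood : Nat.card {φ : Q →* ℂˣ // Reg a t Q φ} = Nat.card {φ : Q →* ℂˣ // φ ≠ 1} :=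
      Nat.card_congr (Equiv.subtypeEquivRight fun φ => ⟨And.left, hreg φ⟩)
    have hb := bound hS F h2 hs (by
        have : 4 * 2 ^ n ≤ (2 ^ n) ^ 2 := by rw [pow_two]; exact Nat.mul_le_mul_right _ hq4
        rw [hD, hgood]; omega) fun B e μ hB hsrc hall hc => by
      exfalso
      have hφ₀1 : φ₀ ≠ 1 := fun h => hφ₀ (by rw [h]; rfl)
      have hsq : (φ₀ * φ₀) ≠ 1 := fun h => hφ₀ (by
        have := DFunLike.congr_fun h ⟨y, hy⟩
        rw [MonoidHom.mul_apply, ← map_mul] at this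
        rw [show (⟨s, F.E_le hsE⟩ : Q) = ⟨y, hy⟩ * ⟨y, hy⟩ from Subtype.ext hys.symm]
        exact this)
      obtain ⟨x₁, hx₁, e1⟩ := hall φ₀ (hreg φ₀ hφ₀1)
      obtain ⟨x₂, hx₂, e2⟩ := hall (φ₀ * φ₀) (hreg _ hsq)
      have h := hc x₁ hx₁ x₂ hx₂
      rw [e1, e2, psi_at hS F hs, psi_at hS F hs, if_neg (hE0 φ₀ hφ₀), if_pos
        (MonoidHom.ext fun z => by
          simp only [MonoidHom.comp_apply, MonoidHom.mul_apply, ← map_mul, MonoidHom.one_apply]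
          rw [show z * z = 1 from Subtype.ext (sq_of_mem_E hS F z.2), map_one, map_one]),
        ← hVdef, hV, Subgroup.card_bot, Nat.cast_one, one_mul, one_mul] at h
      have h' : (((2 : ℕ) ^ n - 1 + 1 : ℕ) : ℂ) = 0 := by push_cast; rw [← h]; ring
      exact Nat.cast_ne_zero.2 (Nat.succ_ne_zero _) h'
    rw [hgood] at hb
    obtain ⟨r, hr⟩ : ∃ r, 2 ^ n = r + 2 := ⟨2 ^ n - 2, by omega⟩
    rw [hr, show r + 2 - 1 = r + 1 by omega, show r + 2 - 2 = r by omega] at hb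
    rw [hr] at hN2 hq4
    exact arith_one (by omega) hN2 (by omega) hb
  · -- `C_D(s)` has prime order `n`
    obtain ⟨w, hw, hw1⟩ : ∃ w ∈ V, w ≠ 1 := by
      by_contra h
      push Not at h
      rw [Subgroup.card_eq_one.2 ((Subgroup.eq_bot_iff_forall V).2 h)] at hcardV
      omega
    have hK : ∀ d ∈ V, d ≠ 1 → ∀ k ∈ Subgroup.zpowers g, Commute d k → k = 1 := by
      intro d hd hd1
      refine (F.prime_eq (Subgroup.mem_inf.1 hd).1 ?_ hS.odd_card (hfix d hd hd1)).1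
      rw [← Nat.card_zpowers, (hVall d hd hd1).2.1, hcardV]
      exact hp
    haveI : IsMulCommutative V := ⟨⟨fun p r => Subtype.ext (by
      obtain ⟨i, hi⟩ := Subgroup.mem_zpowers_iff.1 ((hVall w hw hw1).2.1.symm ▸ p.2 :
        (p : G) ∈ Subgroup.zpowers w)
      obtain ⟨j, hj⟩ := Subgroup.mem_zpowers_iff.1 ((hVall w hw hw1).2.1.symm ▸ r.2 :
        (r : G) ∈ Subgroup.zpowers w)
      show (p : G) * r = r * p
      rw [← hi, ← hj, zpow_mul_comm])⟩⟩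
    have hwD := (Subgroup.mem_inf.1 hw).1
    have hwQ : ∀ x ∈ Q, w * x * w⁻¹ ∈ Q := fun x hx => hS.conj_mem w hwD.1 x hx
    -- a fixed homomorphism, non-trivial at `s`
    set φ₁ := φ₀.comp (avg (conjHom Q w hwQ) (orderOf w)) with hφ₁
    have hfix₁ : ∀ v ∈ V, FixedBy Q v φ₁ := by
      intro v hv x x' hx'
      obtain ⟨j, hj⟩ := Submonoid.mem_powers_iff _ _ |>.mp (mem_powers_iff_mem_zpowers.mpr
        ((hVall w hw hw1).2.1.symm ▸ hv : v ∈ Subgroup.zpowers w))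
      rw [show x' = (conjHom Q w hwQ)^[j] x from Subtype.ext (by rw [conjHom_iterate hS, hj, hx'])]
      refine FixedBy.pow hS hwQ (fun u u' hu => ?_) j x
      rw [show u' = conjHom Q w hwQ u from Subtype.ext hu, hφ₁, MonoidHom.comp_apply,
        MonoidHom.comp_apply, avg_comp (iterate_orderOf hS hwQ)]
    have hφ₁s : φ₁ ⟨s, F.E_le hsE⟩ ≠ 1 := by
      have hw2 : Odd (orderOf w) := hS.odd_card.of_dvd_nat (by
        rw [← Subgroup.orderOf_mk w hwD]; exact orderOf_dvd_natCard _)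
      obtain ⟨m, hm⟩ := hw2
      rw [hφ₁, MonoidHom.comp_apply, avg_of_fixed (Subtype.ext (by
        show w * s * w⁻¹ = s
        rw [← (hsV w hw).eq, mul_inv_cancel_right])),
        hm, pow_succ, pow_mul, show (⟨s, F.E_le hsE⟩ : Q) ^ 2 = 1 from Subtype.ext (by
          rw [SubgroupClass.coe_pow, pow_two]; exact hs.2.2), one_pow, one_mul]
      exact hφ₀
    obtain ⟨z, hz, hzw, hzs⟩ := fixed_root hS hcomm hwD (hsV w hw) hs.2.2 hy hys
    obtain ⟨j, hj2, hC, hNj⟩ := card_cent_le hS F hQ2 hcomm (hfix w hw hw1) hz hzw (hzs ▸ hs1)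
    have hbad := bad_le hS F hsE hs1 (fun d hd hd1 => (hVall d hd hd1).2.1) hK hw
    have hfle := card_fixed_le hS hQ2 hcomm hwD
    have hsplit : Nat.card {φ : Q →* ℂˣ // φ ≠ 1} ≤ Nat.card {φ : Q →* ℂˣ // Reg a t Q φ} +
        Nat.card {φ : Q →* ℂˣ // φ ≠ 1 ∧ ¬ Reg a t Q φ} := by
      rw [← Nat.card_sum]
      refine Nat.card_le_card_of_injective (fun φ => if h : Reg a t Q φ.1 then Sum.inl ⟨φ.1, h⟩
        else Sum.inr ⟨φ.1, φ.2, h⟩) fun φ φ' e => ?_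
      simp only at e
      split_ifs at e <;> simpa [Subtype.ext_iff] using e
    obtain ⟨A, hA1, h4A, hNA⟩ : ∃ A, 1 ≤ A ∧ 2 ^ j = 4 * A ∧ (2 ^ n) ^ 2 * A ≤ Nat.card Q := by
      refine ⟨2 ^ (j - 2), Nat.one_le_two_pow, ?_, le_trans ?_ hNj⟩
      · rw [show (4 : ℕ) = 2 ^ 2 by norm_num, ← pow_add, show 2 + (j - 2) = j by omega]
      · conv_rhs => rw [show j = 2 + (j - 2) by omega, pow_add]
        exact Nat.mul_le_mul_left _ (Nat.pow_le_pow_left (by omega) _)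
    have hn8 : 8 ≤ 2 ^ n := le_trans (by norm_num) (Nat.pow_le_pow_right (by norm_num) h3)
    have h2n : 2 * n ≤ 2 ^ n := by
      have := Nat.lt_two_pow_self (n := n - 1)
      rw [show 2 ^ n = 2 * 2 ^ (n - 1) by rw [← pow_succ', show n - 1 + 1 = n by omega]]
      omega
    obtain ⟨r, hr⟩ : ∃ r, 2 ^ n = r + 2 := ⟨2 ^ n - 2, by omega⟩
    rw [hcardV, hr, show r + 2 - 1 = r + 1 by omega] at hD
    rw [hr, show r + 2 - 1 = r + 1 by omega] at hbad
    rw [hr] at hNA hn8 h2n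
    set M := Nat.card {φ : Q →* ℂˣ // Reg a t Q φ} with hMdef
    have hM : Nat.card Q ≤ M + 1 + (r + 1) * (4 * A - 1) := by
      have h : Nat.card {φ : Q →* ℂˣ // FixedBy Q w φ} - 1 ≤ 4 * A - 1 := by omega
      have := hbad.trans (Nat.mul_le_mul_left _ h)
      omega
    obtain ⟨B', hB'⟩ : ∃ B', 4 * A - 1 = B' ∧ B' + 1 = 4 * A := ⟨4 * A - 1, rfl, by omega⟩
    rw [hB'.1] at hM
    have hgood : Nat.card ↥D < M := by
      rw [hD]
      by_contra hle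
      push Not at hle
      exact arith_good (by omega) hA1 hB'.2 hNA h2n hM hle
    have hb := bound hS F h2 hs hgood fun B e μ hB hsrc _ hc => mixed_value hS inf_le_left F h2 hs
      hcomm rfl hw hw1 (hVall w hw hw1).2.1 (hK w hw hw1) hfix₁ (hE0 φ₁ hφ₁s) ⟨y, hy, hys⟩
      B e μ hB hsrc hc
    rw [hr, show r + 2 - 1 = r + 1 by omega, show r + 2 - 2 = r by omega, ← hMdef] at hb
    exact arith_final (by omega) hA1 hB'.2 hNA hM hb

end AbelianCase

theorem exponent_two {G : Type u} {Ω : Type v} [Group G] [Finite G] [MulAction G Ω] [FaithfulSMul G Ω]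
    {a : Ω} {t : G} {Q : Subgroup G} (hS : Cfsg.IsRankOneSetup G Ω a t Q)
    (h2 : ∃ x y : G, x ≠ 1 ∧ y ≠ 1 ∧ x ≠ y ∧ x * x = 1 ∧ y * y = 1 ∧ x * y = y * x)
    (hQ2 : IsPGroup 2 Q) (hcomm : ∀ x ∈ Q, ∀ y ∈ Q, x * y = y * x) : ∀ x ∈ Q, x * x = 1 := by
  suffices key : ∀ (m : ℕ) (G : Type u) [Group G] [Finite G] (Ω : Type v) [MulAction G Ω]
      [FaithfulSMul G Ω] (a : Ω) (t : G) (Q : Subgroup G), Cfsg.IsRankOneSetup G Ω a t Q →
      (∃ x y : G, x ≠ 1 ∧ y ≠ 1 ∧ x ≠ y ∧ x * x = 1 ∧ y * y = 1 ∧ x * y = y * x) →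
      IsPGroup 2 Q → (∀ x ∈ Q, ∀ y ∈ Q, x * y = y * x) → Nat.card G = m → ∀ x ∈ Q, x * x = 1 from
    key _ G Ω a t Q hS h2 hQ2 hcomm rfl
  intro m
  induction m using Nat.strong_induction_on with
  | _ m ih =>
    intro G _ _ Ω _ _ a t Q hS h2 hQ2 hcomm hm
    obtain ⟨E, g, n, F⟩ := exists_frame hS h2
    refine AbelianCase.sq_eq_one_of_cent hS F h2 hQ2 hcomm
      fun d hd hd1 e he e' he' he1 he1' hne hed hed' y hy hyd => ?_
    obtain ⟨G', i1, i2, O', i3, i4, a', t', Q', hS', hlt, ⟨eQ⟩, hh2⟩ :=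
      reduce hS hd hd1 ⟨e, F.E_le he, he1, hed⟩
    have h2' := hh2 ⟨e, e', he1, he1', hne, AbelianCase.sq_of_mem_E hS F he,
      AbelianCase.sq_of_mem_E hS F he', hcomm e (F.E_le he) e' (F.E_le he'), F.E_le he, F.E_le he',
      hed, hed'⟩
    have hQ2' : IsPGroup 2 Q' := (hQ2.to_le inf_le_right).of_equiv eQ
    have hc' : ∀ p ∈ Q', ∀ r ∈ Q', p * r = r * p := fun p hp r hr => by
      obtain ⟨p', hp'⟩ := eQ.surjective ⟨p, hp⟩
      obtain ⟨r', hr'⟩ := eQ.surjective ⟨r, hr⟩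
      have h : p' * r' = r' * p' := Subtype.ext
        (hcomm p' (Subgroup.mem_inf.1 p'.2).2 r' (Subgroup.mem_inf.1 r'.2).2)
      have := congrArg eQ h
      rw [map_mul, map_mul, hp', hr'] at this
      exact congrArg Subtype.val this
    have h := ih _ (hm ▸ hlt) G' O' a' t' Q' hS' h2' hQ2' hc' rfl _
      (eQ ⟨y, Subgroup.mem_inf.2 ⟨Subgroup.mem_centralizer_singleton_iff.2 hyd.eq, hy⟩⟩).2
    rw [← Subgroup.coe_mul, ← map_mul] at h
    have h' := eQ.map_eq_one_iff.1 (Subtype.ext h)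
    exact congrArg Subtype.val h'

end Cfsg.Agent.Involutions.RankOne.Char
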