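import Cfsg.Agent.Lib.Involutions.RankOne.Char.Coefficient

/-!
# The value of `P` on the characters attached to a family
-/

set_option autoImplicit false
set_option linter.unusedSectionVars false

namespace Cfsg.Agent.Involutions.RankOne.Char

open MulAction
open Cfsg.Agent.Characters
open scoped ComplexConjugate

universe u v

variable {G : Type u} {Ω : Type v} [Group G] [MulAction G Ω] {a : Ω} {t : G} {Q : Subgroup G}

local notation "H" => MulAction.stabilizer G a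

theorem sum_single {ι : Type*} [Fintype ι] [DecidableEq ι] (f : ι → ℂ) (e : ℤ) (x y : ι) :
    ∑ χ, ((e * ((if χ = x then 1 else 0) - (if χ = y then 1 else 0)) : ℤ) : ℂ) * f χ =
      (e : ℂ) * (f x - f y) := by
  push_cast
  simp only [mul_sub, sub_mul, mul_ite, ite_mul, mul_one, mul_zero, zero_mul, Finset.sum_sub_distrib,
    Finset.sum_ite_eq', Finset.mem_univ, if_true]

variable [Fintype G] [Fintype (Cfsg.IrrCharacter G)] (hS : Cfsg.IsRankOneSetup G Ω a t Q)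
variable {s : G} (hs : s ∈ Cfsg.involutionsIn (MulAction.stabilizer G a : Set G))
  (h2 : ∃ x y : G, x ≠ 1 ∧ y ≠ 1 ∧ x ≠ y ∧ x * x = 1 ∧ y * y = 1 ∧ x * y = y * x)

include hS hs h2

/-- A difference `Ind f = e (α - β)`: the two basic relations. -/
theorem pair_rel {f : H → ℂ} (hf : Supp a f) {α β : Cfsg.IrrCharacter G} {e : ℤ}
    (he : e = 1 ∨ e = -1) (h : Cfsg.indFun H f = (e : ℂ) • ((α : G → ℂ) - (β : G → ℂ))) :
    (α : G → ℂ) 1 = (β : G → ℂ) 1 ∧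
      (e : ℂ) * (Pval a s (α : G → ℂ) - Pval a s (β : G → ℂ)) = 2 * f ⟨s, hs.1⟩ ∧
      Pval a s (α : G → ℂ) ^ 2 = Pval a s (β : G → ℂ) ^ 2 := by
  classical
  have hz := coef_sub_irr h
  have he0 : (e : ℂ) ≠ 0 := by rcases he with rfl | rfl <;> simp
  have h1 := hz.sum_degree hS hs h2 hf
  rw [sum_single] at h1
  have hn : (α : G → ℂ) 1 = (β : G → ℂ) 1 :=
    sub_eq_zero.1 ((mul_eq_zero.1 h1).resolve_left he0)
  have h3 := hz.sum_P hS hs h2 hf
  rw [sum_single] at h3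
  have h4 := hz.sum_P_sq hS hs h2 hf
  rw [sum_single, hn, ← sub_div, mul_eq_zero] at h4
  refine ⟨hn, h3, sub_eq_zero.1 ?_⟩
  exact ((div_eq_zero_iff.1 (h4.resolve_left he0)).resolve_right (irr_one_ne_zero β.2))

variable {B : Finset (Cfsg.IrrCharacter (MulAction.stabilizer G a))} {e : ℤ}
  {μ : Cfsg.IrrCharacter (MulAction.stabilizer G a) → Cfsg.IrrCharacter G}

theorem Coh.rel (hB : Coh a B e μ) {x y : Cfsg.IrrCharacter H} (hx : x ∈ B) (hy : y ∈ B) :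
    ((μ x : G → ℂ) 1 = (μ y : G → ℂ) 1) ∧
      (e : ℂ) * (Pval a s (μ x : G → ℂ) - Pval a s (μ y : G → ℂ)) =
        2 * ((x : H → ℂ) ⟨s, hs.1⟩ - (y : H → ℂ) ⟨s, hs.1⟩) ∧
      Pval a s (μ x : G → ℂ) ^ 2 = Pval a s (μ y : G → ℂ) ^ 2 :=
  pair_rel hS hs h2 (hB.supp x hx y hy) hB.sign (hB.eq x hx y hy)

/-- B1: two members with different values at `s`. -/
theorem Coh.P_sq (hB : Coh a B e μ) {x y b : Cfsg.IrrCharacter H} (hx : x ∈ B) (hy : y ∈ B)
    (hb : b ∈ B) (hne : (x : H → ℂ) ⟨s, hs.1⟩ ≠ (y : H → ℂ) ⟨s, hs.1⟩) :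
    Pval a s (μ b : G → ℂ) ^ 2 = ((x : H → ℂ) ⟨s, hs.1⟩ - (y : H → ℂ) ⟨s, hs.1⟩) ^ 2 := by
  obtain ⟨-, h1, h1'⟩ := hB.rel hS hs h2 hx hy
  obtain ⟨-, -, hb'⟩ := hB.rel hS hs h2 hb hx
  rw [hb']
  have hee : (e : ℂ) * e = 1 := by exact_mod_cast hB.sign_sq
  set P := Pval a s (μ x : G → ℂ)
  set P' := Pval a s (μ y : G → ℂ)
  set d := (x : H → ℂ) ⟨s, hs.1⟩ - (y : H → ℂ) ⟨s, hs.1⟩
  have hd : d ≠ 0 := sub_ne_zero.2 hne
  have h5 : (P - P') * (P + P') = 0 := by linear_combination h1'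
  rcases mul_eq_zero.1 h5 with h6 | h6
  · exact absurd (by linear_combination (e : ℂ) * h6 / 2 - h1 / 2) hd
  · have h7 : (e : ℂ) * P = d := by linear_combination h1 / 2 + (e : ℂ) * h6 / 2
    rw [← h7, mul_pow, sq (e : ℂ), hee, one_mul]

theorem Coh.const (hB : Coh a B e μ) {x y : Cfsg.IrrCharacter H} (hx : x ∈ B) (hy : y ∈ B)
    (h : (x : H → ℂ) ⟨s, hs.1⟩ = (y : H → ℂ) ⟨s, hs.1⟩) :
    Pval a s (μ x : G → ℂ) = Pval a s (μ y : G → ℂ) := by
  obtain ⟨-, h1, -⟩ := hB.rel hS hs h2 hx hy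
  rw [h, sub_self, mul_zero, mul_eq_zero] at h1
  refine sub_eq_zero.1 (h1.resolve_left ?_)
  rcases hB.sign with rfl | rfl <;> simp

omit hs h2 in
open Classical in
/-- The coefficients on a family are constant up to the inner products with differences. -/
theorem Coh.coef_eq [Fintype H] (hB : Coh a B e μ) {x y : Cfsg.IrrCharacter H} (hx : x ∈ B)
    (hy : y ∈ B) {f : H → ℂ} {z : Cfsg.IrrCharacter G → ℤ} (hz : IsCoef f z) (hf : Supp a f)
    {w : ℤ} (hw : Cfsg.classInner f ((x : H → ℂ) - (y : H → ℂ)) = (w : ℂ)) :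
    z (μ x) - z (μ y) = e * w := by
  rw [hB.coef_diff hS hx hy hz hf] at hw
  have h : e * (z (μ x) - z (μ y)) = w := by exact_mod_cast hw
  rw [← h, ← mul_assoc, hB.sign_sq, one_mul]

section Target

variable [Fintype (MulAction.stabilizer G a)]

/-- The data of a target over a family. -/
structure IsTarget (a : Ω) (s : G) (B : Finset (Cfsg.IrrCharacter (MulAction.stabilizer G a)))
    (e : ℤ) (μ : Cfsg.IrrCharacter (MulAction.stabilizer G a) → Cfsg.IrrCharacter G)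
    (x₀ ψ : Cfsg.IrrCharacter (MulAction.stabilizer G a)) (α : ℕ) (Δ : Cfsg.IrrCharacter G)
    (z : Cfsg.IrrCharacter G → ℤ) (c : ℤ) : Prop where
  coef : IsCoef ((ψ : MulAction.stabilizer G a → ℂ) -
    (α : ℂ) • (x₀ : MulAction.stabilizer G a → ℂ)) z
  notMem : ∀ x ∈ B, μ x ≠ Δ
  apply_delta : z Δ = 1 ∨ z Δ = -1
  apply_other : ∀ χ, χ ≠ Δ → (∀ x ∈ B, μ x ≠ χ) → z χ = 0
  apply_base : z (μ x₀) = c - e * α
  apply_mem : ∀ x ∈ B, x ≠ x₀ → z (μ x) = c
  shift : c = 0 ∨ (c = e ∧ B.card = 2 * α)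

/-- B2: a target of degree `α` times the degree of the family. -/
theorem exists_target (hB : Coh a B e μ) (hconst : ∀ x ∈ B, ∀ y ∈ B,
      (x : H → ℂ) ⟨s, hs.1⟩ = (y : H → ℂ) ⟨s, hs.1⟩)
    {x₀ ψ : Cfsg.IrrCharacter H} (hx₀ : x₀ ∈ B) (hψ : ψ ∉ B) {α : ℕ} (hα : 1 ≤ α)
    (hsupp : Supp a ((ψ : H → ℂ) - (α : ℂ) • (x₀ : H → ℂ)))
    (hval : (ψ : H → ℂ) ⟨s, hs.1⟩ - α * (x₀ : H → ℂ) ⟨s, hs.1⟩ ≠ 0)
    (hev : Even B.card) (hm : 2 * α ≤ B.card) :
    ∃ Δ z c, IsTarget a s B e μ x₀ ψ α Δ z c ∧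
      Pval a s (Δ : G → ℂ) ^ 2 =
        ((ψ : H → ℂ) ⟨s, hs.1⟩ - α * (x₀ : H → ℂ) ⟨s, hs.1⟩) ^ 2 ∧
      ∀ x ∈ B, Pval a s (μ x : G → ℂ) ^ 2 * (α : ℂ) ^ 2 =
        ((ψ : H → ℂ) ⟨s, hs.1⟩ - α * (x₀ : H → ℂ) ⟨s, hs.1⟩) ^ 2 := by
  classical
  set f := (ψ : H → ℂ) - (α : ℂ) • (x₀ : H → ℂ) with hfdef
  have hgen : Cfsg.IsGeneralizedCharacter H f := isGen_sub (isGen_of_isCharacter (irr_isCharacter ψ))
    (isGen_of_isCharacter (isCharacter_natSmul (irr_isCharacter x₀) α))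
  obtain ⟨z, hz⟩ := exists_coef hgen
  have hne : ∀ {x}, x ∈ B → ψ ≠ x := fun hx q => hψ (q ▸ hx)
  set c := z (μ x₀) + e * α with hc
  have hmem : ∀ x ∈ B, x ≠ x₀ → z (μ x) = c := by
    intro x hx hxne
    have hw : Cfsg.classInner f ((x : H → ℂ) - (x₀ : H → ℂ)) = ((α : ℤ) : ℂ) := by
      simp [hfdef, classInner_sub_left, classInner_sub_right, classInner_smul_left, classInner_irr,
        hne hx, hne hx₀, Ne.symm hxne]
    have := hB.coef_eq hS hx hx₀ hz hsupp hw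
    omega
  have hnorm : ∑ χ, z χ * z χ = 1 + (α : ℤ) * α := by
    have h := hz.inner hS hz hsupp hsupp
    have hv : Cfsg.classInner f f = ((1 + (α : ℤ) * α : ℤ) : ℂ) := by
      simp [hfdef, classInner_sub_left, classInner_sub_right, classInner_smul_left,
        classInner_smul_right, classInner_irr, hne hx₀, Ne.symm (hne hx₀)]
    rw [hv] at h
    exact_mod_cast h.symm
  set I := B.image μ with hI
  set m : ℤ := (B.card : ℤ) with hm'
  have hsplit : ∑ χ ∈ I, z χ * z χ = (c - e * α) * (c - e * α) + (m - 1) * (c * c) := by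
    rw [hI, Finset.sum_image hB.inj, ← Finset.add_sum_erase B _ hx₀,
      Finset.sum_congr rfl (g := fun _ => c * c) (fun x hx => by
        rw [hmem x (Finset.mem_of_mem_erase hx) (Finset.ne_of_mem_erase hx)]),
      Finset.sum_const, Finset.card_erase_of_mem hx₀, nsmul_eq_mul,
      show z (μ x₀) = c - e * α by omega,
      Nat.cast_sub (Finset.card_pos.2 ⟨x₀, hx₀⟩ : 1 ≤ B.card), Nat.cast_one]
  have hrest := Finset.sum_add_sum_compl I (fun χ => z χ * z χ)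
  rw [hnorm, hsplit] at hrest
  have hR : 0 ≤ ∑ χ ∈ Iᶜ, z χ * z χ := Finset.sum_nonneg fun _ _ => mul_self_nonneg _
  have hee := hB.sign_sq
  set R := ∑ χ ∈ Iᶜ, z χ * z χ
  have hR1 : R = 1 - c * (m * c - 2 * (e * α)) := by
    linear_combination hrest - ((α : ℤ) * α) * hee
  obtain ⟨j, hj⟩ := hev
  have hm2 : 2 * (α : ℤ) ≤ m := by omega
  have hzero : c * (m * c - 2 * (e * α)) = 0 ∧ (c = 0 ∨ (c = e ∧ B.card = 2 * α)) := by
    have hnn : 0 ≤ c * (m * c - 2 * (e * α)) := by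
      rcases lt_trichotomy c 0 with h | h | h
      · refine mul_nonneg_of_nonpos_of_nonpos h.le ?_
        rcases hB.sign with q | q <;> rw [q] <;> nlinarith
      · simp [h]
      · refine mul_nonneg h.le ?_
        rcases hB.sign with q | q <;> rw [q] <;> nlinarith
    have hle : c * (m * c - 2 * (e * α)) ≤ 1 := by linarith
    have hev' : c * (m * c - 2 * (e * α)) = 2 * (c * ((j : ℤ) * c - e * α)) := by
      rw [hm', hj]; push_cast; ring
    have h0 : c * (m * c - 2 * (e * α)) = 0 := by omega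
    refine ⟨h0, ?_⟩
    rcases mul_eq_zero.1 h0 with h | h
    · exact Or.inl h
    · rcases hB.sign with q | q
      · rw [q] at h
        have : c = 1 := by
          rcases lt_trichotomy c 1 with h' | h' | h'
          · exfalso; nlinarith
          · exact h'
          · exfalso; nlinarith
        rw [this] at h
        exact Or.inr ⟨by omega, by omega⟩
      · rw [q] at h
        have : c = -1 := by
          rcases lt_trichotomy c (-1) with h' | h' | h'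
          · exfalso; nlinarith
          · exact h'
          · exfalso; nlinarith
        rw [this] at h
        exact Or.inr ⟨by omega, by omega⟩
  have hR' : ∑ χ ∈ Iᶜ, z χ * z χ = 1 := by
    show R = 1
    rw [hR1, hzero.1, sub_zero]
  obtain ⟨Δ, hΔI, hΔ0⟩ : ∃ Δ ∈ Iᶜ, z Δ ≠ 0 := by
    by_contra h
    push Not at h
    rw [Finset.sum_eq_zero fun χ hχ => by rw [h χ hχ, mul_zero]] at hR'
    omega
  have hΔ1 : z Δ * z Δ = 1 := le_antisymm
    (hR' ▸ Finset.single_le_sum (f := fun χ => z χ * z χ) (fun _ _ => mul_self_nonneg _) hΔI)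
    (by have := mul_self_pos.2 hΔ0; omega)
  have hother : ∀ χ ∈ Iᶜ, χ ≠ Δ → z χ = 0 := by
    intro χ hχ hne'
    have h := Finset.add_sum_erase Iᶜ (fun χ => z χ * z χ) hΔI
    simp only [hR', hΔ1] at h
    have h' : ∑ x ∈ Iᶜ.erase Δ, z x * z x = 0 := by omega
    exact mul_self_eq_zero.1 ((Finset.sum_eq_zero_iff_of_nonneg fun _ _ => mul_self_nonneg _).1 h'
      χ (Finset.mem_erase.2 ⟨hne', hχ⟩))
  have hnotmem : ∀ x ∈ B, μ x ≠ Δ := fun x hx q =>
    Finset.mem_compl.1 hΔI (Finset.mem_image.2 ⟨x, hx, q⟩)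
  have hsum : ∀ g : Cfsg.IrrCharacter G → ℂ, (∀ x ∈ B, g (μ x) = g (μ x₀)) →
      ∑ χ, (z χ : ℂ) * g χ = (z Δ : ℂ) * g Δ + ((m * c - e * α : ℤ) : ℂ) * g (μ x₀) := by
    intro g hg
    rw [← Finset.sum_add_sum_compl I, add_comm]
    congr 1
    · rw [Finset.sum_eq_single_of_mem Δ hΔI fun χ hχ hne' => by simp [hother χ hχ hne']]
    · rw [hI, Finset.sum_image hB.inj, Finset.sum_congr rfl
        (g := fun x => (z (μ x) : ℂ) * g (μ x₀)) (fun x hx => by rw [hg x hx]), ← Finset.sum_mul]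
      congr 1
      rw [← Int.cast_sum, ← Finset.add_sum_erase B _ hx₀,
        Finset.sum_congr rfl (g := fun _ => c) (fun x hx =>
          hmem x (Finset.mem_of_mem_erase hx) (Finset.ne_of_mem_erase hx)),
        Finset.sum_const, Finset.card_erase_of_mem hx₀, nsmul_eq_mul,
        show z (μ x₀) = c - e * α by omega,
        Nat.cast_sub (Finset.card_pos.2 ⟨x₀, hx₀⟩ : 1 ≤ B.card), Nat.cast_one]
      congr 1
      rw [hm']; ring
  have hPc : ∀ x ∈ B, Pval a s (μ x : G → ℂ) = Pval a s (μ x₀ : G → ℂ) := fun x hx =>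
    hB.const hS hs h2 hx hx₀ (hconst x hx x₀ hx₀)
  have hnc : ∀ x ∈ B, (μ x : G → ℂ) 1 = (μ x₀ : G → ℂ) 1 := fun x hx => (hB.rel hS hs h2 hx hx₀).1
  have h1 := hz.sum_degree hS hs h2 hsupp
  have h3 := hz.sum_P hS hs h2 hsupp
  have h4 := hz.sum_P_sq hS hs h2 hsupp
  rw [hsum _ hnc] at h1
  rw [hsum _ hPc] at h3
  rw [hsum _ fun x hx => by rw [hPc x hx, hnc x hx]] at h4
  obtain ⟨n, hn, hnΔ⟩ := irr_one_pos Δ.2
  obtain ⟨n₀, hn₀, hn0⟩ := irr_one_pos (μ x₀).2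
  set S : ℤ := m * c - e * α with hS'
  have hS2 : S * S = (α : ℤ) * α := by
    rw [hS']
    linear_combination m * hzero.1 + ((α : ℤ) * α) * hee
  rw [hnΔ, hn0] at h1
  rw [hnΔ, hn0] at h4
  have h1' : z Δ * (n : ℤ) + S * (n₀ : ℤ) = 0 := by exact_mod_cast h1
  have hnn : (n : ℤ) = α * n₀ := by
    have h5 : ((n : ℤ) - α * n₀) * ((n : ℤ) + α * n₀) = 0 := by
      linear_combination (z Δ * (n : ℤ) - S * (n₀ : ℤ)) * h1' - ((n : ℤ) * n) * hΔ1 +
        ((n₀ : ℤ) * n₀) * hS2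
    rcases mul_eq_zero.1 h5 with h6 | h6
    · omega
    · exfalso
      have : (0 : ℤ) ≤ (α : ℤ) * n₀ := by positivity
      omega
  have hSb : S = -(z Δ * α) := by
    have h5 : (n₀ : ℤ) * (S + z Δ * α) = 0 := by rw [hnn] at h1'; linear_combination h1'
    rcases mul_eq_zero.1 h5 with h6 | h6 <;> omega
  set P := Pval a s (Δ : G → ℂ)
  set P₀ := Pval a s (μ x₀ : G → ℂ)
  set F := f ⟨s, hs.1⟩ with hF
  have hFv : F = (ψ : H → ℂ) ⟨s, hs.1⟩ - α * (x₀ : H → ℂ) ⟨s, hs.1⟩ := by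
    simp [hF, hfdef, smul_eq_mul]
  rw [← hFv]
  rw [← hFv] at hval
  have hb : (z Δ : ℂ) * z Δ = 1 := by exact_mod_cast hΔ1
  have hα0 : (α : ℂ) ≠ 0 := Nat.cast_ne_zero.2 (by omega)
  have hn00 : (n₀ : ℂ) ≠ 0 := Nat.cast_ne_zero.2 (by omega)
  have hnC : (n : ℂ) = α * n₀ := by exact_mod_cast hnn
  rw [hSb] at h3 h4
  rw [hnC] at h4
  push_cast at h3 h4
  have h5 : (P - α * P₀) * (P + α * P₀) = 0 := by
    field_simp at h4
    linear_combination (z Δ : ℂ) * h4 - ((P : ℂ) ^ 2 - (α : ℂ) ^ 2 * P₀ ^ 2) * hb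
  rcases mul_eq_zero.1 h5 with h6 | h6
  · exfalso
    refine hval ?_
    linear_combination (z Δ : ℂ) * h6 / 2 - h3 / 2
  have hPF : (z Δ : ℂ) * P = F := by linear_combination h3 / 2 + (z Δ : ℂ) * h6 / 2
  have hP2 : P ^ 2 = F ^ 2 := by rw [← hPF, mul_pow, sq (z Δ : ℂ), hb, one_mul]
  refine ⟨Δ, z, c, ⟨hz, hnotmem, mul_self_eq_one_iff.1 hΔ1, fun χ hχ hχB => hother χ
    (Finset.mem_compl.2 fun q => by
      obtain ⟨x, hx, rfl⟩ := Finset.mem_image.1 q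
      exact hχB x hx rfl) hχ, by omega, hmem, hzero.2⟩, hP2, fun x hx => ?_⟩
  rw [hPc x hx, ← hP2, show P = -(α * P₀) by linear_combination h6]
  ring

end Target

end Cfsg.Agent.Involutions.RankOne.Char
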