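import Cfsg.Agent.Lib.Involutions.RankOne.Peterfalvi
import Cfsg.Agent.S0205

/-!
# The two-point stabiliser in the split rank-one set-up

`E` is the group of involutions of `G_a`, `⟨g⟩` the set inverted by `t`; an element of `D` acts on `⟨g⟩` by a
power of two, and an element of prime order centralising a non-identity element of `Q` gives a smaller set-up.
-/

set_option autoImplicit false
set_option linter.unusedSectionVars false
set_option linter.style.haveILetI false

open scoped IsMulCommutative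

namespace Cfsg.Agent.Involutions.CyclicModulo

variable {A : Type*} [AddCommGroup A] [Finite A]

/-- An automorphism normalising a cyclic group transitive on a group of exponent two raises its generator to a
power of two. -/
theorem exists_two_pow (hA : ∀ x : A, x + x = 0) (γ : AddMonoid.End A) {s : A} (hs : s ≠ 0)
    (hinj : Function.Injective γ) (hmove : ∀ x : A, x ≠ 0 → ∃ i : ℕ, (γ ^ i) s = x)
    {ρ ρ' : AddMonoid.End A} (h1 : ρ * ρ' = 1) (h2 : ρ' * ρ = 1) {i : ℕ} (hi : ρ * γ * ρ' = γ ^ i) :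
    ∃ j : ℕ, ρ * γ * ρ' = γ ^ (2 ^ j) := by
  classical
  haveI : Finite (AddMonoid.End A) := Finite.of_injective _ DFunLike.coe_injective
  set L := Subring.centralizer ({γ} : Set (AddMonoid.End A)) with hL
  have hmem : ∀ φ : AddMonoid.End A, φ ∈ L ↔ Commute γ φ := fun φ => by
    rw [hL, Subring.mem_centralizer_iff]
    exact ⟨fun h => h γ rfl, fun h x hx => by rw [Set.mem_singleton_iff.1 hx]; exact h⟩
  have hext : ∀ φ ∈ L, ∀ ψ ∈ L, φ s = ψ s → φ = ψ := by
    intro φ hφ ψ hψ e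
    refine AddMonoidHom.ext fun x => ?_
    rcases eq_or_ne x 0 with rfl | hx
    · exact (map_zero φ).trans (map_zero ψ).symm
    obtain ⟨j, rfl⟩ := hmove x hx
    show (φ * γ ^ j) s = (ψ * γ ^ j) s
    rw [← ((hmem φ).1 hφ |>.pow_left j).eq, ← ((hmem ψ).1 hψ |>.pow_left j).eq]
    show (γ ^ j) (φ s) = (γ ^ j) (ψ s)
    rw [e]
  have hγL : ∀ j : ℕ, γ ^ j ∈ L := fun j => (hmem _).2 ((Commute.refl γ).pow_right j)
  have hcases : ∀ φ ∈ L, φ = 0 ∨ ∃ j : ℕ, φ = γ ^ j := by
    intro φ hφ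
    rcases eq_or_ne (φ s) 0 with h0 | h0
    · exact Or.inl (hext φ hφ 0 (zero_mem L) h0)
    · obtain ⟨j, hj⟩ := hmove _ h0
      exact Or.inr ⟨j, hext φ hφ _ (hγL j) hj.symm⟩
  let f : AddMonoid.End A → AddMonoid.End A := fun φ => ρ * φ * ρ'
  have hf_inj : Function.Injective f := fun φ ψ e => by
    have := congrArg (fun χ => ρ' * χ * ρ) e
    simpa [f, mul_assoc, h2, ← mul_assoc ρ' ρ] using this
  have hf_mul : ∀ φ ψ, f (φ * ψ) = f φ * f ψ := fun φ ψ => by
    simp only [f, mul_assoc]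
    rw [← mul_assoc ρ' ρ, h2, one_mul]
  have hsub : (L : Set (AddMonoid.End A)) ⊆ f '' L := by
    intro φ hφ
    refine ⟨ρ' * φ * ρ, ?_, ?_⟩
    · refine (hmem _).2 ?_
      have hc : Commute (γ ^ i) φ := ((hmem φ).1 hφ).pow_left i
      rw [← hi] at hc
      have := congrArg (fun χ => ρ' * χ * ρ) hc.eq
      simpa [Commute, SemiconjBy, mul_assoc, h2, ← mul_assoc ρ' ρ] using this
    · show ρ * (ρ' * φ * ρ) * ρ' = φ
      simp [mul_assoc, h1, ← mul_assoc ρ ρ']
  have himage : f '' (L : Set (AddMonoid.End A)) = L :=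
    (Set.eq_of_subset_of_ncard_le hsub (Set.ncard_image_le (Set.toFinite _))).symm
  letI : CommRing L :=
    { (inferInstance : Ring L) with
      mul_comm := fun a b => Subtype.ext (by
        show (a : AddMonoid.End A) * b = b * a
        rcases hcases _ a.2 with ha | ⟨i, ha⟩
        · rw [ha, zero_mul, mul_zero]
        rcases hcases _ b.2 with hb | ⟨j, hb⟩
        · rw [hb, zero_mul, mul_zero]
        rw [ha, hb, ← pow_add, ← pow_add, add_comm]) }
  have hinjp : ∀ j : ℕ, Function.Injective (γ ^ j) := fun j => by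
    induction j with
    | zero => rw [pow_zero]; exact fun a b e => e
    | succ j ih => rw [pow_succ]; exact fun a b e => hinj (ih e)
  haveI : Nontrivial L := ⟨⟨1, 0, fun e => hs
    (congrArg (fun φ : L => (φ : AddMonoid.End A) s) e)⟩⟩
  haveI : NoZeroDivisors L := ⟨fun {a b} hab => by
    rcases hcases _ a.2 with ha | ⟨i, ha⟩
    · exact Or.inl (Subtype.ext ha)
    refine Or.inr (Subtype.ext (AddMonoidHom.ext fun x => hinjp i ?_))
    have h1 : ((a : AddMonoid.End A) * b) x = 0 :=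
      congrArg (fun φ : L => (φ : AddMonoid.End A) x) hab
    rw [ha] at h1
    exact h1.trans (map_zero (γ ^ i)).symm⟩
  haveI : IsDomain L := NoZeroDivisors.to_isDomain L
  haveI : Fintype L := Fintype.ofFinite L
  letI : Field L := Fintype.fieldOfDomain L
  haveI : CharP L 2 := CharTwo.of_one_ne_zero_of_two_eq_zero one_ne_zero (by
    refine Subtype.ext (AddMonoidHom.ext fun x => ?_)
    rw [← one_add_one_eq_two]
    exact hA x)
  let θ₀ : L →+* L :=
    { toFun := fun φ => ⟨f φ, himage.subset ⟨φ, φ.2, rfl⟩⟩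
      map_one' := Subtype.ext (by show ρ * 1 * ρ' = 1; rw [mul_one, h1])
      map_mul' := fun a b => Subtype.ext (hf_mul a b)
      map_zero' := Subtype.ext (by show ρ * 0 * ρ' = 0; rw [mul_zero, zero_mul])
      map_add' := fun a b => Subtype.ext (by
        show ρ * ((a : AddMonoid.End A) + b) * ρ' = _
        rw [mul_add, add_mul]; rfl) }
  let θ : L ≃+* L := RingEquiv.ofBijective θ₀
    (Finite.injective_iff_bijective.1 fun a b e => Subtype.ext (hf_inj (congrArg Subtype.val e)))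
  letI := ZMod.algebra L 2
  let σ : L ≃ₐ[ZMod 2] L := AlgEquiv.ofRingEquiv (f := θ) fun x =>
    RingHom.congr_fun (Subsingleton.elim (θ.toRingHom.comp (algebraMap (ZMod 2) L))
      (algebraMap (ZMod 2) L)) x
  obtain ⟨⟨j, hjlt⟩, hj⟩ := (FiniteField.bijective_frobeniusAlgEquivOfAlgebraic_pow (ZMod 2) L).2 σ
  refine ⟨j, ?_⟩
  have := congrArg (fun τ : L ≃ₐ[ZMod 2] L => ((τ ⟨γ, by simpa using hγL 1⟩ : L) : AddMonoid.End A)) hj
  simp only [AlgEquiv.coe_pow, FiniteField.coe_frobeniusAlgEquivOfAlgebraic_iterate, ZMod.card] at this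
  exact this.symm.trans (SubmonoidClass.coe_pow _ _)

end Cfsg.Agent.Involutions.CyclicModulo

namespace Cfsg.Agent.Involutions.RankOne.Char

open MulAction Involutions.Basic

universe u v

variable {G : Type u} {Ω : Type v} [Group G] [Finite G] [MulAction G Ω] {a : Ω} {t : G} {Q E : Subgroup G}
variable {g : G} {n : ℕ}

local notation "H" => MulAction.stabilizer G a
local notation "D" => (MulAction.stabilizer G a ⊓ MulAction.stabilizer G (t • a))

/-- The data of the two-point stabiliser. -/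
structure Frame (a : Ω) (t : G) (Q E : Subgroup G) (g : G) (n : ℕ) : Prop where
  mem_E : ∀ x, x ∈ E ↔ x = 1 ∨ x ∈ Cfsg.involutionsIn (MulAction.stabilizer G a : Set G)
  E_le : E ≤ Q
  E_comm : ∀ e ∈ E, ∀ q ∈ Q, Commute e q
  E_conj : ∀ d ∈ MulAction.stabilizer G a ⊓ MulAction.stabilizer G (t • a), ∀ e ∈ E, d * e * d⁻¹ ∈ E
  card_E : Nat.card E = 2 ^ n
  two_le : 2 ≤ n
  zpowers_eq : (Subgroup.zpowers g : Set G) =
    Cfsg.invertedBy (MulAction.stabilizer G a ⊓ MulAction.stabilizer G (t • a)) t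
  orderOf_g : orderOf g = 2 ^ n - 1
  move : ∀ e ∈ E, e ≠ 1 → ∀ e' ∈ E, e' ≠ 1 → ∃ k ∈ Subgroup.zpowers g, k * e * k⁻¹ = e'
  regular : ∀ k ∈ Subgroup.zpowers g, ∀ e ∈ E, e ≠ 1 → k * e * k⁻¹ = e → k = 1
  fpf : ∀ k ∈ Subgroup.zpowers g, k ≠ 1 → ∀ x ∈ Q, Commute x k → x = 1
  twoPow : ∀ d ∈ MulAction.stabilizer G a ⊓ MulAction.stabilizer G (t • a),
    ∃ i : ℕ, d * g * d⁻¹ = g ^ (2 ^ i)
  card_D : Nat.card ↥(MulAction.stabilizer G a ⊓ MulAction.stabilizer G (t • a)) = (2 ^ n - 1) *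
    Nat.card ↥((MulAction.stabilizer G a ⊓ MulAction.stabilizer G (t • a)) ⊓
      Subgroup.centralizer ({t} : Set G))

/-- A homomorphism on `X` is fixed by `d`. -/
def FixedBy {M : Type*} [Group M] (X : Subgroup G) (d : G) (f : X →* M) : Prop :=
  ∀ x y : X, (y : G) = d * x * d⁻¹ → f y = f x

/-- Conjugation on an invariant subgroup. -/
def conjHom (X : Subgroup G) (k : G) (hk : ∀ x ∈ X, k * x * k⁻¹ ∈ X) : X →* X where
  toFun x := ⟨k * x * k⁻¹, hk x x.2⟩
  map_one' := Subtype.ext (by simp)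
  map_mul' x y := Subtype.ext (by simp [mul_assoc])

theorem finite_hom (X : Subgroup G) : Finite (X →* ℂˣ) := by
  haveI : NeZero (Nat.card X) := ⟨Nat.card_pos.ne'⟩
  refine Finite.of_injective (fun f : X →* ℂˣ => fun x : X => (⟨f x, ?_⟩ : rootsOfUnity (Nat.card X) ℂ))
    fun f f' e => MonoidHom.ext fun x => congrArg Subtype.val (congrFun e x)
  rw [mem_rootsOfUnity, ← map_pow, pow_card_eq_one', map_one]

section

variable (hS : Cfsg.IsRankOneSetup G Ω a t Q)
variable (h2 : ∃ x y : G, x ≠ 1 ∧ y ≠ 1 ∧ x ≠ y ∧ x * x = 1 ∧ y * y = 1 ∧ x * y = y * x)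
include hS h2

/-- The frame exists. -/
theorem exists_frame : ∃ E g n, Frame a t Q E g n := by
  classical
  have hsolv : Group.IsSolvable ↥D := Cfsg.Agent.S0205.result hS.odd_card
  obtain ⟨E, s, hd, hE⟩ := exists_data hS h2
  obtain ⟨g, hgK, hgz, hgn⟩ := hd.exists_cyclic
  have hEQ : E ≤ Q := fun x hx => by
    rcases (hE x).1 hx with rfl | h
    · exact one_mem _
    · exact involution_mem hS h.1 h.2.2
  have hEinv : ∀ x ∈ E, x ≠ 1 → x ∈ Cfsg.involutionsIn (H : Set G) := fun x hx h1 => ((hE x).1 hx).resolve_left h1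
  have hp2 : IsPGroup 2 E := fun x => ⟨1, Subtype.ext (by simpa [pow_two] using hd.sq x x.2)⟩
  haveI : Fact (Nat.Prime 2) := ⟨Nat.prime_two⟩
  obtain ⟨n, hn⟩ := IsPGroup.iff_card.1 hp2
  obtain ⟨s₁, hs₁, s₂, hs₂, hne⟩ := exists_two hS h2
  have hn2 : 2 ≤ n := by
    by_contra hlt
    have hle : Nat.card E ≤ 2 := by
      rw [hn]; exact le_trans (Nat.pow_le_pow_right (by norm_num) (by omega : n ≤ 1)) (by norm_num)
    have : ({1, s₁, s₂} : Finset G).card ≤ Nat.card E := by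
      rw [← Nat.card_eq_finsetCard]
      refine Nat.card_le_card_of_injective (fun x => (⟨x.1, ?_⟩ : E)) fun x y e =>
        Subtype.ext (congrArg (fun z : E => (z : G)) e)
      have := x.2
      simp only [Finset.mem_insert, Finset.mem_singleton] at this
      rcases this with h | h | h <;> rw [h]
      exacts [one_mem _, (hE _).2 (Or.inr hs₁), (hE _).2 (Or.inr hs₂)]
    rw [Finset.card_insert_of_notMem (by simp [Ne.symm hs₁.2.1, Ne.symm hs₂.2.1]),
      Finset.card_pair hne] at this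
    omega
  have hord : orderOf g = 2 ^ n - 1 := by
    have hI : Nat.card (Cfsg.involutionsIn (H : Set G)) = Nat.card E - 1 := by
      have h : Nat.card E = Nat.card (Cfsg.involutionsIn (H : Set G)) + 1 := by
        rw [← Finite.card_option]
        refine Nat.card_congr ((Equiv.optionSubtypeNe (1 : E)).symm.trans (Equiv.optionCongr ?_))
        exact
          { toFun := fun x => ⟨(x : E), hEinv _ (x : E).2 fun e => x.2 (Subtype.ext e)⟩
            invFun := fun x => ⟨⟨x, (hE x).2 (Or.inr x.2)⟩, fun e => x.2.2.1 (congrArg Subtype.val e)⟩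
            left_inv := fun x => rfl
            right_inv := fun x => rfl }
      omega
    rw [← hn, ← hI, ← card_K hS, ← Nat.card_zpowers]
    exact Nat.card_congr (Equiv.setCongr hgz)
  refine ⟨E, g, n,
    { mem_E := hE
      E_le := hEQ
      E_comm := fun e he q hq => ?_
      E_conj := fun d hd' e he => ?_
      card_E := hn
      two_le := hn2
      zpowers_eq := hgz
      orderOf_g := hord
      move := fun e he he1 e' he' he1' => ?_
      regular := fun k hk e he he1 hfix => ?_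
      fpf := fun k hk hk1 x hx hxk => ?_
      twoPow := fun d hd' => ?_
      card_D := ?_ }⟩
  · rcases (hE e).1 he with rfl | h
    · exact Commute.one_left q
    · exact involution_central hS h2 h hq
  · rcases (hE e).1 he with rfl | h
    · simp
    · exact (hE _).2 (Or.inr (conj_mem_involutions hS h hd'.1))
  · obtain ⟨k, hk, h⟩ := exists_K hS (hEinv e he he1) (hEinv e' he' he1')
    exact ⟨k, (Set.ext_iff.1 hgz k).2 hk, h⟩
  · refine K_conj_injective hS (hEinv e he he1) ((Set.ext_iff.1 hgz k).1 hk) (one_mem_K hS) ?_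
    rw [hfix]; group
  · refine Subgroup.mem_bot.1 (cent_Q_eq_one hS ((Set.ext_iff.1 hgz k).1 hk) hk1 ▸ ?_)
    exact Subgroup.mem_inf.2 ⟨hx, Subgroup.mem_centralizer_singleton_iff.2 hxk⟩
  · -- the field of the endomorphisms commuting with `g`
    haveI : IsMulCommutative E := ⟨⟨fun x y => Subtype.ext (hd.comm x x.2 y y.2)⟩⟩
    haveI : Finite (Additive E) := inferInstanceAs (Finite E)
    set g' : ↥D := ⟨g, hgK.1⟩
    set d' : ↥D := ⟨d, hd'⟩
    have hs : (Additive.ofMul (⟨s, hd.sE⟩ : E)) ≠ 0 := fun e =>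
      hd.s_ne (congrArg (fun v : Additive E => ((v.toMul : E) : G)) e)
    have hinj : Function.Injective (hd.rho g') := fun v w e => by
      have e1 := congrArg (fun v : Additive E => ((v.toMul : E) : G)) e
      simp only [InvertedCyclic.Data.rho_apply] at e1
      exact Additive.toMul.injective (Subtype.ext (mul_left_cancel (mul_right_cancel e1)))
    have hmove : ∀ x : Additive E, x ≠ 0 →
        ∃ i : ℕ, (hd.rho g' ^ i) (Additive.ofMul (⟨s, hd.sE⟩ : E)) = x := by
      intro x hx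
      obtain ⟨k, hk, hks⟩ := hd.exists_k _ (x.toMul : E).2
        (fun e => hx (Additive.toMul.injective (Subtype.ext e)))
      rw [← hgz] at hk
      obtain ⟨i, hi⟩ := Submonoid.mem_powers_iff _ _ |>.mp (mem_powers_iff_mem_zpowers.mpr hk)
      refine ⟨i, Additive.toMul.injective (Subtype.ext ?_)⟩
      rw [← map_pow, InvertedCyclic.Data.rho_apply, SubgroupClass.coe_pow, hi]
      exact hks
    have hA : ∀ x : Additive E, x + x = 0 := fun x =>
      Additive.toMul.injective (Subtype.ext (hd.sq _ (x.toMul : E).2))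
    obtain ⟨i, hi⟩ := Submonoid.mem_powers_iff _ _ |>.mp (mem_powers_iff_mem_zpowers.mpr (hgn d hd'))
    obtain ⟨j, hj⟩ := CyclicModulo.exists_two_pow hA (hd.rho g') hs hinj hmove
      (ρ := hd.rho d') (ρ' := hd.rho d'⁻¹) (i := i)
      (by rw [← map_mul, mul_inv_cancel, map_one]) (by rw [← map_mul, inv_mul_cancel, map_one])
      (by rw [← map_mul, ← map_mul, ← map_pow]; exact congrArg _ (Subtype.ext (by push_cast; exact hi.symm)))
    refine ⟨j, ?_⟩
    rw [← map_mul, ← map_mul, ← map_pow] at hj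
    have hjs := congrArg (fun φ : AddMonoid.End (Additive E) =>
      (((φ (Additive.ofMul (⟨s, hd.sE⟩ : E))).toMul : E) : G)) hj
    simp only [InvertedCyclic.Data.rho_apply] at hjs
    push_cast at hjs
    exact hd.inj _ ((Set.ext_iff.1 hgz _).1 (hgn d hd'))
      _ ((Set.ext_iff.1 hgz _).1 (pow_mem (Subgroup.mem_zpowers g) _)) hjs
  · rw [InvertedSet.card_eq hS.odd_card hS.mul_self (fun x hx => t_conj_mem_D hS hx), mul_comm, ← hord,
      ← Nat.card_zpowers]
    exact congrArg (· * _) (Nat.card_congr (Equiv.setCongr hgz.symm))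

end

namespace Frame

variable (F : Frame a t Q E g n)
include F

theorem g_mem_D : g ∈ D := ((Set.ext_iff.1 F.zpowers_eq g).1 (Subgroup.mem_zpowers g)).1

theorem zpowers_le_D : Subgroup.zpowers g ≤ D := Subgroup.zpowers_le.2 F.g_mem_D

theorem three_le_q : 4 ≤ 2 ^ n := le_trans (by norm_num) (Nat.pow_le_pow_right (by norm_num) F.two_le)

theorem g_ne_one : g ≠ 1 := fun e => by
  have := F.three_le_q
  have h := F.orderOf_g
  rw [e, orderOf_one] at h
  omega

theorem conj_pow_g {d : G} {i : ℕ} (hi : d * g * d⁻¹ = g ^ (2 ^ i)) :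
    ∀ j : ℕ, d ^ j * g * (d ^ j)⁻¹ = g ^ (2 ^ (i * j)) := by
  intro j
  induction j with
  | zero => simp
  | succ j ih =>
    rw [pow_succ', show d * d ^ j * g * (d * d ^ j)⁻¹ = d * (d ^ j * g * (d ^ j)⁻¹) * d⁻¹ by group, ih,
      ← conj_pow, hi, ← pow_mul, ← pow_add]
    congr 2; ring

/-- A prime order element with a unique non-identity fixed element in `E`. -/
theorem prime_eq {d : G} (hd : d ∈ D) (hp : (orderOf d).Prime) (hodd : Odd (Nat.card ↥D))
    (hE : Nat.card ↥(E ⊓ Subgroup.centralizer ({d} : Set G)) = 2) :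
    (∀ k ∈ Subgroup.zpowers g, Commute d k → k = 1) ∧ orderOf d = n ∧ Odd n ∧ 3 ≤ n := by
  obtain ⟨⟨e, he⟩, ⟨e₂, he₂⟩, hne, huniv⟩ := Nat.card_eq_two_iff.1 hE
  have huniq : ∃ e ∈ E, e ≠ 1 ∧ Commute e d ∧ ∀ e' ∈ E, Commute e' d → e' = 1 ∨ e' = e := by
    have hcase : ∀ e' ∈ E, Commute e' d → e' = e ∨ e' = e₂ := fun e' he' hc => by
      have : (⟨e', Subgroup.mem_inf.2 ⟨he', Subgroup.mem_centralizer_singleton_iff.2 hc⟩⟩ :
        ↥(E ⊓ Subgroup.centralizer ({d} : Set G))) ∈ ({⟨e, he⟩, ⟨e₂, he₂⟩} : Set _) := huniv ▸ trivial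
      rcases this with h | h
      · exact Or.inl (congrArg Subtype.val h)
      · exact Or.inr (congrArg Subtype.val h)
    have hne' : e ≠ e₂ := fun h => hne (Subtype.ext h)
    rcases hcase 1 (one_mem _) (Commute.one_left d) with h | h
    · exact ⟨e₂, he₂.1, h ▸ hne'.symm, Subgroup.mem_centralizer_singleton_iff.1 he₂.2,
        fun e' h1 h2 => (hcase e' h1 h2).imp (fun k => k.trans h.symm) id⟩
    · exact ⟨e, he.1, h ▸ hne', Subgroup.mem_centralizer_singleton_iff.1 he.2,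
        fun e' h1 h2 => (hcase e' h1 h2).symm.imp (fun k => k.trans h.symm) id⟩
  obtain ⟨e, he, he1, hed, hu⟩ := huniq
  have hcK : ∀ k ∈ Subgroup.zpowers g, Commute d k → k = 1 := fun k hk hdk => by
    refine F.regular k hk e he he1 ((hu _ (F.E_conj k (F.zpowers_le_D hk) e he) ?_).resolve_left fun h => he1 ?_)
    · exact ((hdk.symm.mul_left hed).mul_left hdk.symm.inv_left)
    · exact conj_eq_one_iff.1 h
  obtain ⟨i, hi⟩ := F.twoPow d hd
  set m := 2 ^ n - 1 with hm
  have hm0 : 0 < m := by have := F.three_le_q; omega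
  have hgcd : Nat.gcd i n = 1 := by
    set c := Nat.gcd (2 ^ i - 1) m with hc
    have hcm : c ∣ m := Nat.gcd_dvd_right _ _
    have hk : g ^ (m / c) = 1 := by
      refine hcK _ (pow_mem (Subgroup.mem_zpowers g) _) (mul_inv_eq_iff_eq_mul.1 ?_)
      rw [← conj_pow, hi, ← pow_mul, pow_eq_pow_iff_modEq, F.orderOf_g, ← hm]
      refine (Nat.modEq_iff_dvd' (Nat.le_mul_of_pos_left _ (by positivity))).2 ?_ |>.symm
      rw [← Nat.sub_one_mul]
      obtain ⟨b, hb⟩ := Nat.gcd_dvd_left (2 ^ i - 1) m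
      rw [hb, ← hc, show c * b * (m / c) = c * (m / c) * b by ring, Nat.mul_div_cancel' hcm]
      exact dvd_mul_right _ _
    have hdiv := orderOf_dvd_of_pow_eq_one hk
    rw [F.orderOf_g, ← hm] at hdiv
    have hpos : 0 < m / c := Nat.div_pos (Nat.le_of_dvd hm0 hcm) (Nat.gcd_pos_of_pos_right _ hm0)
    have hc1 : c = 1 := by
      have h1 : m / c = m := le_antisymm (Nat.div_le_self _ _) (Nat.le_of_dvd hpos hdiv)
      have h2 := Nat.mul_div_cancel' hcm
      rw [h1] at h2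
      exact Nat.eq_of_mul_eq_mul_right hm0 (h2.trans (one_mul m).symm)
    rw [hc, hm, Nat.pow_sub_one_gcd_pow_sub_one] at hc1
    have : 2 ^ Nat.gcd i n = 2 ^ 1 := by
      have := Nat.one_le_two_pow (n := Nat.gcd i n)
      omega
    exact Nat.pow_right_injective le_rfl this
  have hpd : orderOf d ∣ Nat.card ↥D := by
    have := orderOf_dvd_natCard (⟨d, hd⟩ : ↥D)
    rwa [Subgroup.orderOf_mk] at this
  have hnd : n ∣ orderOf d := by
    have h := F.conj_pow_g hi (orderOf d)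
    rw [pow_orderOf_eq_one, one_mul, inv_one, mul_one] at h
    have h' : g ^ 1 = g ^ (2 ^ (i * orderOf d)) := by rwa [pow_one]
    rw [pow_eq_pow_iff_modEq, F.orderOf_g, Nat.modEq_iff_dvd' (Nat.one_le_two_pow)] at h'
    have hg : Nat.gcd (2 ^ n - 1) (2 ^ (i * orderOf d) - 1) = 2 ^ n - 1 := Nat.gcd_eq_left h'
    rw [Nat.pow_sub_one_gcd_pow_sub_one] at hg
    have : 2 ^ Nat.gcd n (i * orderOf d) = 2 ^ n := by
      have := Nat.one_le_two_pow (n := Nat.gcd n (i * orderOf d))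
      have := F.three_le_q
      omega
    have hdv : n ∣ i * orderOf d := (Nat.pow_right_injective le_rfl this) ▸ Nat.gcd_dvd_right _ _
    exact (Nat.Coprime.dvd_mul_left (Nat.coprime_comm.1 hgcd)).1 hdv
  have hn : orderOf d = n := by
    rcases (Nat.dvd_prime hp).1 hnd with h | h
    · have := F.two_le; omega
    · exact h.symm
  have hon : Odd n := hn ▸ hodd.of_dvd_nat hpd
  refine ⟨hcK, hn, hon, ?_⟩
  have := F.two_le
  obtain ⟨j, hj⟩ := hon
  omega

/-- A subgroup acting faithfully on `⟨g⟩` has order dividing `n`. -/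
theorem card_dvd {X : Subgroup G} (hX : X ≤ D) (hXK : ∀ x ∈ X, Commute x g → x = 1) : Nat.card X ∣ n := by
  classical
  set m := 2 ^ n - 1 with hm
  have hm0 : 1 < m := by have := F.three_le_q; omega
  haveI : NeZero m := ⟨by omega⟩
  have h2n : (2 : ZMod m) ^ n = 1 := by
    have h : ((2 ^ n : ℕ) : ZMod m) = ((1 + m : ℕ) : ZMod m) := congrArg _ (by omega)
    simpa using h
  let w : (ZMod m)ˣ := Units.ofPowEqOne (2 : ZMod m) n h2n (by have := F.two_le; omega)
  have hwval : ∀ i : ℕ, ((w ^ i : (ZMod m)ˣ) : ZMod m) = ((2 ^ i : ℕ) : ZMod m) := fun i => by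
    push_cast [Units.val_pow_eq_pow_val]
    rfl
  have hpow : ∀ i j : ℕ, g ^ (2 ^ i) = g ^ (2 ^ j) ↔ w ^ i = w ^ j := fun i j => by
    rw [pow_eq_pow_iff_modEq, F.orderOf_g, ← hm, Units.ext_iff, hwval, hwval, ZMod.natCast_eq_natCast_iff]
  choose e he using fun x : X => F.twoPow x (hX x.2)
  let f : X →* (ZMod m)ˣ :=
    { toFun := fun x => w ^ e x
      map_one' := by
        rw [← pow_zero w, ← hpow, ← he 1]
        simp
      map_mul' := fun x y => by
        rw [← pow_add, ← hpow, ← he (x * y)]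
        push_cast
        rw [show (x : G) * y * g * ((x : G) * y)⁻¹ = x * ((y : G) * g * (y : G)⁻¹) * (x : G)⁻¹ by group,
          he y, ← conj_pow, he x, ← pow_mul, pow_add] }
  have hinj : Function.Injective f := by
    refine (injective_iff_map_eq_one f).2 fun x hx => Subtype.ext (hXK x x.2 ?_)
    have h : g ^ (2 ^ e x) = g ^ (2 ^ 0) := (hpow _ _).2 (by rw [pow_zero]; exact hx)
    rw [← he x, pow_zero, pow_one] at h
    exact mul_inv_eq_iff_eq_mul.1 h
  have hle : f.range ≤ Subgroup.zpowers w := by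
    rintro _ ⟨x, rfl⟩
    exact pow_mem (Subgroup.mem_zpowers w) _
  have hwn : w ^ n = 1 := Units.pow_ofPowEqOne _ _
  calc Nat.card X = Nat.card f.range := Nat.card_congr (MonoidHom.ofInjective hinj).toEquiv
    _ ∣ Nat.card (Subgroup.zpowers w) := Subgroup.card_dvd_of_le hle
    _ ∣ n := by rw [Nat.card_zpowers]; exact orderOf_dvd_of_pow_eq_one hwn

theorem conj_mem_of_g {X : Subgroup G} (hXg : ∀ x ∈ X, g * x * g⁻¹ ∈ X) {k : G}
    (hk : k ∈ Subgroup.zpowers g) : ∀ x ∈ X, k * x * k⁻¹ ∈ X := by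
  obtain ⟨i, rfl⟩ := Submonoid.mem_powers_iff _ _ |>.mp (mem_powers_iff_mem_zpowers.mpr hk)
  induction i with
  | zero => intro x hx; simpa using hx
  | succ i ih =>
    intro x hx
    rw [show g ^ (i + 1) * x * (g ^ (i + 1))⁻¹ = g ^ i * (g * x * g⁻¹) * (g ^ i)⁻¹ by group]
    exact ih (pow_mem (Subgroup.mem_zpowers g) i) _ (hXg x hx)

/-- A non-identity element of `⟨g⟩` fixes only the trivial homomorphism. -/
theorem hom_eq_one {X : Subgroup G} (hXQ : X ≤ Q) (hXg : ∀ x ∈ X, g * x * g⁻¹ ∈ X) {k : G}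
    (hk : k ∈ Subgroup.zpowers g) (hk1 : k ≠ 1) {M : Type*} [Group M] (f : X →* M)
    (hf : FixedBy X k f) : f = 1 := by
  set c := conjHom X k (F.conj_mem_of_g hXg hk)
  have hinj : Function.Injective (fun x : X => x⁻¹ * c x) := fun x y e => by
    have e' : (x : G)⁻¹ * (k * x * k⁻¹) = (y : G)⁻¹ * (k * y * k⁻¹) := congrArg Subtype.val e
    have hc : Commute ((y : G) * (x : G)⁻¹) k := by
      refine (mul_inv_eq_iff_eq_mul.1 ?_ : Commute k ((y : G) * (x : G)⁻¹)).symm
      calc k * ((y : G) * (x : G)⁻¹) * k⁻¹ = y * ((y : G)⁻¹ * (k * y * k⁻¹)) * (k * x * k⁻¹)⁻¹ := by group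
        _ = y * ((x : G)⁻¹ * (k * x * k⁻¹)) * (k * x * k⁻¹)⁻¹ := by rw [e']
        _ = y * (x : G)⁻¹ := by group
    have := F.fpf k hk hk1 _ (hXQ (X.mul_mem y.2 (X.inv_mem x.2))) hc
    exact Subtype.ext (mul_inv_eq_one.1 this).symm
  refine MonoidHom.ext fun z => ?_
  obtain ⟨x, rfl⟩ := Finite.injective_iff_surjective.1 hinj z
  rw [map_mul, map_inv, hf x (c x) rfl, inv_mul_cancel, MonoidHom.one_apply]

theorem comm_E : IsMulCommutative E :=
  ⟨⟨fun x y => Subtype.ext (F.E_comm x x.2 y (F.E_le y.2))⟩⟩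

theorem card_hom_E : Nat.card (E →* ℂˣ) = Nat.card E := by
  haveI := F.comm_E
  haveI : NeZero (Monoid.exponent E) := ⟨Monoid.exponent_ne_zero_of_finite⟩
  exact CommGroup.card_monoidHom_of_hasEnoughRootsOfUnity E ℂ

/-- `⟨g⟩` is regular on the non-trivial homomorphisms of `E`. -/
theorem hom_regular (ω ω' : E →* ℂˣ) (hω : ω ≠ 1) (hω' : ω' ≠ 1) :
    ∃! k, k ∈ Subgroup.zpowers g ∧ ∀ x y : E, (y : G) = k * x * k⁻¹ → ω' y = ω x := by
  classical
  have hEg : ∀ k ∈ Subgroup.zpowers g, ∀ x ∈ E, k * x * k⁻¹ ∈ E :=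
    fun k hk => F.E_conj k (F.zpowers_le_D hk)
  let act : Subgroup.zpowers g → {φ : E →* ℂˣ // φ ≠ 1} := fun k =>
    ⟨ω.comp (conjHom E (k : G)⁻¹ (hEg _ (inv_mem k.2))), fun h => hω (MonoidHom.ext fun x => by
      have := DFunLike.congr_fun h ⟨_, hEg _ k.2 x x.2⟩
      simpa [conjHom, mul_assoc] using this)⟩
  have hinj : Function.Injective act := by
    intro k k' e
    by_contra hne
    refine hω (F.hom_eq_one F.E_le (fun x hx => F.E_conj g F.g_mem_D x hx)
      (mul_mem (inv_mem k.2) k'.2) (fun h => hne (Subtype.ext (inv_mul_eq_one.1 h))) ω ?_)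
    intro x y hy
    have := DFunLike.congr_fun (congrArg Subtype.val e) ⟨_, hEg _ k'.2 x x.2⟩
    simp only [act, conjHom, MonoidHom.coe_comp, Function.comp_apply, MonoidHom.coe_mk, OneHom.coe_mk] at this
    convert this using 2
    · exact Subtype.ext (by rw [hy]; simp [mul_assoc])
    · exact Subtype.ext (by simp [mul_assoc])
  have hcard : Nat.card {φ : E →* ℂˣ // φ ≠ 1} = Nat.card (Subgroup.zpowers g) := by
    haveI := finite_hom E
    have h : Nat.card {φ : E →* ℂˣ // φ ≠ 1} + 1 = Nat.card (E →* ℂˣ) := by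
      rw [← Finite.card_option]
      exact Nat.card_congr (Equiv.optionSubtypeNe 1)
    rw [F.card_hom_E, F.card_E] at h
    rw [Nat.card_zpowers, F.orderOf_g]
    omega
  haveI := finite_hom E
  obtain ⟨k, hk⟩ := ((Nat.bijective_iff_injective_and_card act).2 ⟨hinj, hcard.symm⟩).2 ⟨ω', hω'⟩
  refine ⟨k, ⟨k.2, fun x y hy => ?_⟩, fun k' hk' => ?_⟩
  · show ((⟨ω', hω'⟩ : {φ : E →* ℂˣ // φ ≠ 1}) : E →* ℂˣ) y = ω x
    rw [← hk]
    exact congrArg ω (Subtype.ext (by show (k : G)⁻¹ * y * (k : G)⁻¹⁻¹ = x; rw [hy]; group))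
  · have : act ⟨k', hk'.1⟩ = act k := by
      rw [hk]
      refine Subtype.ext (MonoidHom.ext fun y => ?_)
      exact (hk'.2 _ y (by show (y : G) = k' * (k'⁻¹ * y * k'⁻¹⁻¹) * k'⁻¹; group)).symm
    exact congrArg Subtype.val (hinj this)

/-- An element fixing one involution fixes two homomorphisms of `E`. -/
theorem card_fixed_E {d : G} (hd : d ∈ D)
    (hE : Nat.card ↥(E ⊓ Subgroup.centralizer ({d} : Set G)) = 2) :
    Nat.card {ω : E →* ℂˣ // FixedBy E d ω} = 2 := by
  haveI := F.comm_E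
  set c := conjHom E d (F.E_conj d hd)
  let δ : E →* E :=
    { toFun := fun e => e⁻¹ * c e
      map_one' := by simp
      map_mul' := fun x y => by
        rw [map_mul, mul_inv_rev, mul_comm y⁻¹ x⁻¹, mul_mul_mul_comm] }
  have hker : Nat.card δ.ker = 2 := by
    rw [← hE]
    refine Nat.card_congr
      { toFun := fun x => ⟨((x : E) : G), ?_⟩
        invFun := fun x => ⟨⟨x, (Subgroup.mem_inf.1 x.2).1⟩, ?_⟩
        left_inv := fun x => rfl
        right_inv := fun x => rfl }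
    · refine Subgroup.mem_inf.2 ⟨(x : E).2, Subgroup.mem_centralizer_singleton_iff.2 ?_⟩
      have h : (c (x : E)) = (x : E) := (inv_mul_eq_one.1 (x.2 : (x : E)⁻¹ * c (x : E) = 1)).symm
      have hc' : Commute d ((x : E) : G) := mul_inv_eq_iff_eq_mul.1 (congrArg Subtype.val h)
      exact hc'.symm.eq
    · refine MonoidHom.mem_ker.2 (inv_mul_eq_one.2 (Subtype.ext ?_))
      show (x : G) = d * x * d⁻¹
      have hx : Commute (x : G) d := Subgroup.mem_centralizer_singleton_iff.1 (Subgroup.mem_inf.1 x.2).2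
      rw [← hx.eq, mul_inv_cancel_right]
  have hidx : δ.range.index = 2 := by
    have h1 := δ.ker.card_mul_index
    rw [Subgroup.index_ker, hker] at h1
    have h2 := δ.range.card_mul_index
    rw [← h1, mul_comm 2] at h2
    exact Nat.eq_of_mul_eq_mul_left Nat.card_pos h2
  have hfix : ∀ ω : E →* ℂˣ, FixedBy E d ω ↔ δ.range ≤ ω.ker := fun ω => by
    constructor
    · rintro h _ ⟨x, rfl⟩
      show ω (x⁻¹ * c x) = 1
      rw [map_mul, map_inv, h x (c x) rfl, inv_mul_cancel]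
    · intro h x y hy
      have h1 : ω (x⁻¹ * c x) = 1 := h ⟨x, rfl⟩
      rw [map_mul, map_inv, inv_mul_eq_one, show c x = y from Subtype.ext hy.symm] at h1
      exact h1.symm
  calc Nat.card {ω : E →* ℂˣ // FixedBy E d ω} = Nat.card (E ⧸ δ.range →* ℂˣ) := Nat.card_congr
        { toFun := fun ω => QuotientGroup.lift δ.range ω ((hfix ω).1 ω.2)
          invFun := fun φ => ⟨φ.comp (QuotientGroup.mk' δ.range), (hfix _).2 fun x hx => by
            simp [MonoidHom.mem_ker, (QuotientGroup.eq_one_iff x).2 hx]⟩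
          left_inv := fun ω => Subtype.ext (MonoidHom.ext fun x => rfl)
          right_inv := fun φ => MonoidHom.ext fun x => QuotientGroup.induction_on x fun y => rfl }
    _ = Nat.card (E ⧸ δ.range) := by
        haveI : NeZero (Monoid.exponent (E ⧸ δ.range)) := ⟨Monoid.exponent_ne_zero_of_finite⟩
        exact CommGroup.card_monoidHom_of_hasEnoughRootsOfUnity _ ℂ
    _ = 2 := hidx

/-- The homomorphisms fixed by a prime order element form at most a square root. -/
theorem card_fixed_sq {X : Subgroup G} (hXQ : X ≤ Q) (hXD : ∀ d ∈ D, ∀ x ∈ X, d * x * d⁻¹ ∈ X) {d : G}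
    (hd : d ∈ D) (hdg : ¬ Commute d g) :
    (Nat.card {f : X →* ℂˣ // FixedBy X d f}) ^ 2 ≤ Nat.card (X →* ℂˣ) := by
  haveI := finite_hom X
  set c := conjHom X g (hXD g F.g_mem_D)
  rw [pow_two, ← Nat.card_prod]
  refine Nat.card_le_card_of_injective
    (fun p : {f : X →* ℂˣ // FixedBy X d f} × {f : X →* ℂˣ // FixedBy X d f} => p.1.1 * p.2.1.comp c) ?_
  rintro ⟨⟨f₁, hf₁⟩, ⟨f₂, hf₂⟩⟩ ⟨⟨f₁', hf₁'⟩, ⟨f₂', hf₂'⟩⟩ e
  have e' : ∀ x, f₁ x * f₂ (c x) = f₁' x * f₂' (c x) := fun x => DFunLike.congr_fun e x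
  set φ : X →* ℂˣ := f₂ * f₂'⁻¹ with hφ
  have hφd : FixedBy X d φ := fun x y hy => by
    simp only [hφ, MonoidHom.mul_apply, MonoidHom.inv_apply, hf₂ x y hy, hf₂' x y hy]
  have hφc : ∀ x, φ (c x) = f₁' x * (f₁ x)⁻¹ := fun x => by
    rw [hφ, MonoidHom.mul_apply, MonoidHom.inv_apply, ← div_eq_mul_inv, ← div_eq_mul_inv,
      div_eq_div_iff_mul_eq_mul, mul_comm, e' x]
  set k := d⁻¹ * g * d * g⁻¹ with hk
  obtain ⟨i, hi⟩ := F.twoPow d⁻¹ (inv_mem hd)
  rw [inv_inv] at hi
  have hkK : k ∈ Subgroup.zpowers g := by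
    rw [hk, hi]
    exact mul_mem (pow_mem (Subgroup.mem_zpowers g) _) (inv_mem (Subgroup.mem_zpowers g))
  have hk1 : k ≠ 1 := fun h => hdg (by
    rw [hk, mul_inv_eq_one, mul_assoc, inv_mul_eq_iff_eq_mul] at h
    exact h.symm)
  have hφk : FixedBy X k φ := fun x y hy => by
    -- `x = c x₀`; move by `d`, then by `d⁻¹`
    obtain ⟨x₀, hx₀⟩ : ∃ x₀ : X, c x₀ = x :=
      ⟨⟨_, hXD g⁻¹ (inv_mem F.g_mem_D) x x.2⟩, Subtype.ext (by simp [c, conjHom, mul_assoc])⟩
    let x₁ : X := ⟨_, hXD d hd x₀ x₀.2⟩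
    have h1 : φ (c x₁) = φ (c x₀) := by rw [hφc, hφc, hf₁' x₀ x₁ rfl, hf₁ x₀ x₁ rfl]
    rw [← hx₀, ← h1]
    refine (hφd y (c x₁) ?_).symm
    subst hx₀
    show g * (d * x₀ * d⁻¹) * g⁻¹ = d * (y : G) * d⁻¹
    rw [hy, hk]
    simp [c, conjHom, mul_assoc]
  have h1 : φ = 1 := F.hom_eq_one hXQ (fun x hx => hXD g F.g_mem_D x hx) hkK hk1 φ hφk
  have h22 : f₂ = f₂' := MonoidHom.ext fun x => by
    have := DFunLike.congr_fun h1 x
    simpa [hφ, mul_inv_eq_one] using this
  subst h22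
  have h11 : f₁ = f₁' := MonoidHom.ext fun x => mul_right_cancel (e' x)
  subst h11
  rfl

end Frame

section

variable (hS : Cfsg.IsRankOneSetup G Ω a t Q)
include hS

/-- An element of `D` centralising a non-identity element of `Q` has three fixed points. -/
theorem three_fixed {d : G} (hd : d ∈ D) (hq : ∃ x ∈ Q, x ≠ 1 ∧ Commute x d) :
    ∃ b c e : Ω, b ≠ c ∧ b ≠ e ∧ c ≠ e ∧ ∀ y ∈ ({d} : Set G), y • b = b ∧ y • c = c ∧ y • e = e := by
  obtain ⟨x, hx, hx1, hxd⟩ := hq
  have hxb : x • (t • a) ≠ t • a := fun e => b_ne hS (eq_a_of_fixed hS hx hx1 e)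
  refine ⟨a, t • a, x • (t • a), (b_ne hS).symm, (smul_a_ne hS (hS.le hx) (b_ne hS)).symm, hxb.symm, ?_⟩
  rintro y (rfl : y = d)
  exact ⟨hd.1, hd.2, by rw [smul_smul, ← hxd.eq, mul_smul, show y • (t • a) = t • a from hd.2]⟩

/-- An element of `D` centralising a non-identity element of `Q` is conjugate under `D` into `C(t)`. -/
theorem exists_conj_commute {d : G} (hd : d ∈ D) (hq : ∃ x ∈ Q, x ≠ 1 ∧ Commute x d) :
    ∃ k ∈ D, Commute t (k * d * k⁻¹) := by
  obtain ⟨w, hw, -, hw2, hwa, -⟩ := exists_swap hS (X := {d}) (Set.singleton_subset_iff.2 hd)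
    (three_fixed hS hd hq)
  obtain ⟨k, hk, rfl⟩ := exists_conj_t hS hw2 hwa
  refine ⟨k, hk, ?_⟩
  have h := (show Commute (k⁻¹ * t * k) d from Subgroup.mem_centralizer_singleton_iff.1 hw).map
    (MulAut.conj k).toMonoidHom
  simpa [mul_assoc] using h

end

/-- The centraliser of an element of `D` fixing more than two points gives a smaller set-up. -/
theorem reduce [FaithfulSMul G Ω] (hS : Cfsg.IsRankOneSetup G Ω a t Q) {d : G} (hd : d ∈ D) (hd1 : d ≠ 1)
    (hq : ∃ x ∈ Q, x ≠ 1 ∧ Commute x d) :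
    ∃ (G' : Type u) (_ : Group G') (_ : Finite G') (O' : Type v) (_ : MulAction G' O')
      (_ : FaithfulSMul G' O') (a' : O') (t' : G') (Q' : Subgroup G'),
      Cfsg.IsRankOneSetup G' O' a' t' Q' ∧ Nat.card G' < Nat.card G ∧
      Nonempty (↥(Subgroup.centralizer ({d} : Set G) ⊓ Q) ≃* ↥Q') ∧
      ((∃ x y : G, x ≠ 1 ∧ y ≠ 1 ∧ x ≠ y ∧ x * x = 1 ∧ y * y = 1 ∧ x * y = y * x ∧ x ∈ Q ∧ y ∈ Q ∧
          Commute x d ∧ Commute y d) →
        ∃ x y : G', x ≠ 1 ∧ y ≠ 1 ∧ x ≠ y ∧ x * x = 1 ∧ y * y = 1 ∧ x * y = y * x) := by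
  classical
  obtain ⟨k, hk, htd⟩ := exists_conj_commute hS hd hq
  set d' := k * d * k⁻¹ with hd'
  have hd'D : d' ∈ D := mul_mem (mul_mem hk hd) (inv_mem hk)
  have hd'1 : d' ≠ 1 := fun e => hd1 (conj_eq_one_iff.1 e)
  have hkQ : ∀ x ∈ Q, k * x * k⁻¹ ∈ Q := fun x hx => hS.conj_mem k hk.1 x hx
  have hkQ' : ∀ x ∈ Q, k⁻¹ * x * k ∈ Q := fun x hx => by
    simpa using hS.conj_mem k⁻¹ (inv_mem hk.1) x hx
  have hq' : ∃ x ∈ Q, x ≠ 1 ∧ Commute x d' := by
    obtain ⟨x, hx, hx1, hxd⟩ := hq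
    exact ⟨_, hkQ x hx, fun e => hx1 (conj_eq_one_iff.1 e), hxd.map (MulAut.conj k).toMonoidHom⟩
  have hX : ({d'} : Set G) ⊆ (D : Set G) := Set.singleton_subset_iff.2 hd'D
  have h3 := three_fixed hS hd'D hq'
  set M := Subgroup.centralizer ({d'} : Set G) with hM
  let O' := {c : Ω // d' • c = c}
  letI actM : MulAction M O' :=
    { smul := fun m c => ⟨(m : G) • c.1, by
        rw [smul_smul, ← Subgroup.mem_centralizer_singleton_iff.1 m.2, mul_smul, c.2]⟩
      one_smul := fun c => Subtype.ext (one_smul G c.1)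
      mul_smul := fun m m' c => Subtype.ext (mul_smul (m : G) (m' : G) c.1) }
  set φ := MulAction.toPermHom M O' with hφ
  let π := QuotientGroup.mk' φ.ker
  letI actQ : MulAction (M ⧸ φ.ker) O' := MulAction.compHom O' (QuotientGroup.kerLift φ)
  have hsm : ∀ (m : M) (c : O'), (π m • c : O') = m • c := fun m c => rfl
  haveI : FaithfulSMul (M ⧸ φ.ker) O' :=
    ⟨fun {x y} h => QuotientGroup.kerLift_injective φ (Equiv.ext fun c => h c)⟩
  let a' : O' := ⟨a, hd'D.1⟩
  let tM : M := ⟨t, Subgroup.mem_centralizer_singleton_iff.2 htd⟩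
  let Q' : Subgroup (M ⧸ φ.ker) := (Q.subgroupOf M).map π
  have hb : ∀ c : O', c = π tM • a' ↔ (c : Ω) = t • a := fun c => by
    rw [hsm, Subtype.ext_iff]; rfl
  have hinjQ : ∀ x : M, (x : G) ∈ Q → π x = 1 → x = 1 := fun x hx h => by
    refine Subtype.ext (inf_D hS hx ⟨hS.le hx, ?_⟩)
    have := congrArg (fun z : M ⧸ φ.ker => (z • (π tM • a') : O')) h
    simp only [one_smul, hsm] at this
    exact congrArg Subtype.val this
  let eQ : ↥(M ⊓ Q) ≃* ↥Q' := MulEquiv.ofBijective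
    ({ toFun := fun x => ⟨π ⟨x, (Subgroup.mem_inf.1 x.2).1⟩, ⟨_, (Subgroup.mem_inf.1 x.2).2, rfl⟩⟩
       map_one' := Subtype.ext (map_one π)
       map_mul' := fun x y => Subtype.ext (map_mul π (⟨(x : G), (Subgroup.mem_inf.1 x.2).1⟩ : M)
         ⟨(y : G), (Subgroup.mem_inf.1 y.2).1⟩) } : ↥(M ⊓ Q) →* ↥Q')
    ⟨(injective_iff_map_eq_one _).2 fun x hx => Subtype.ext (congrArg (fun z : M => (z : G))
        (hinjQ ⟨x, (Subgroup.mem_inf.1 x.2).1⟩ (Subgroup.mem_inf.1 x.2).2 (congrArg Subtype.val hx))),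
      by
        rintro ⟨_, x, hx, rfl⟩
        exact ⟨⟨(x : G), Subgroup.mem_inf.2 ⟨x.2, hx⟩⟩, rfl⟩⟩
  have e0 : ↥(Subgroup.centralizer ({d} : Set G) ⊓ Q) ≃* ↥(M ⊓ Q) :=
    { toFun := fun x => ⟨k * x * k⁻¹, Subgroup.mem_inf.2 ⟨Subgroup.mem_centralizer_singleton_iff.2 (by
          have h : Commute (x : G) d := Subgroup.mem_centralizer_singleton_iff.1 (Subgroup.mem_inf.1 x.2).1
          exact (h.map (MulAut.conj k).toMonoidHom).eq),
        hkQ _ (Subgroup.mem_inf.1 x.2).2⟩⟩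
      invFun := fun x => ⟨k⁻¹ * x * k, Subgroup.mem_inf.2 ⟨Subgroup.mem_centralizer_singleton_iff.2 (by
          have h : Commute (x : G) d' := Subgroup.mem_centralizer_singleton_iff.1 (Subgroup.mem_inf.1 x.2).1
          simpa [hd', mul_assoc] using (h.map (MulAut.conj k⁻¹).toMonoidHom).eq),
        hkQ' _ (Subgroup.mem_inf.1 x.2).2⟩⟩
      left_inv := fun x => Subtype.ext (by simp [mul_assoc])
      right_inv := fun x => Subtype.ext (by simp [mul_assoc])
      map_mul' := fun x y => Subtype.ext (by simp [mul_assoc]) }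
  have hstab : ∀ z : M ⧸ φ.ker, z • a' = a' → ∃ m : M, (m : G) ∈ H ∧ π m = z := by
    intro z hz
    obtain ⟨m, rfl⟩ := QuotientGroup.mk_surjective z
    exact ⟨m, congrArg Subtype.val hz, rfl⟩
  refine ⟨M ⧸ φ.ker, inferInstance, inferInstance, O', actQ, inferInstance, a', π tM, Q', ?_, ?_,
    ⟨e0.trans eQ⟩, ?_⟩
  · refine
      { two_transitive := MulAction.is_two_pretransitive_iff.2 fun {b₁ b₂ c₁ c₂} hb hc => ?_
        mul_self := by rw [← map_mul, show tM * tM = 1 from Subtype.ext hS.mul_self, map_one]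
        ne_one := fun h => b_ne hS ?_
        not_mem := fun h => hS.not_mem (congrArg Subtype.val h)
        le := ?_
        conj_mem := ?_
        inf_eq_bot := ?_
        sup_eq := ?_
        even_card := ?_
        odd_card := ?_ }
    · obtain ⟨g, hg, h1, h2⟩ := cent_two_transitive hS h3 (b₁ := (b₁ : Ω)) (b₂ := b₂) (c₁ := c₁) (c₂ := c₂)
        (by rintro x rfl; exact b₁.2) (by rintro x rfl; exact b₂.2) (by rintro x rfl; exact c₁.2)
        (by rintro x rfl; exact c₂.2) (fun e => hb (Subtype.ext e)) (fun e => hc (Subtype.ext e))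
      exact ⟨π ⟨g, hg⟩, Subtype.ext h1, Subtype.ext h2⟩
    · have := congrArg (fun z : M ⧸ φ.ker => (z • a' : O').1) h
      simp only [hsm, one_smul] at this
      exact this
    · rintro _ ⟨x, hx, rfl⟩
      exact Subtype.ext (hS.le hx)
    · intro z hz x hx
      obtain ⟨m, hm, rfl⟩ := hstab z hz
      obtain ⟨x, hx, rfl⟩ := hx
      exact ⟨m * x * m⁻¹, hS.conj_mem m hm x hx, by simp⟩
    · rw [Subgroup.eq_bot_iff_forall]
      rintro _ ⟨⟨x, hx, rfl⟩, hfix⟩
      have hxb : (x : G) • (t • a) = t • a := congrArg Subtype.val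
        (show π x • (π tM • a') = π tM • a' from hfix)
      rw [show x = 1 from Subtype.ext (inf_D hS hx ⟨hS.le hx, hxb⟩), map_one]
    · refine le_antisymm (sup_le ?_ inf_le_left) fun z hz => ?_
      · rintro _ ⟨x, hx, rfl⟩
        exact Subtype.ext (hS.le hx)
      obtain ⟨m, hm, rfl⟩ := hstab z hz
      have hmem : (m : G) ∈ Subgroup.centralizer ({d'} : Set G) ⊓ H := ⟨m.2, hm⟩
      have hnorm : Subgroup.centralizer ({d'} : Set G) ⊓ D ≤
          Subgroup.normalizer ((Subgroup.centralizer ({d'} : Set G) ⊓ Q : Subgroup G) : Set G) :=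
        Subgroup.le_normalizer_iff.2 fun y hy x hx => Subgroup.mem_inf.2
          ⟨mul_mem (mul_mem hy.1 hx.1) (inv_mem hy.1), hS.conj_mem y hy.2.1 x hx.2⟩
      rw [← cent_decomp hS hX, ← SetLike.mem_coe,
        Subgroup.coe_mul_of_right_le_normalizer_left _ _ hnorm] at hmem
      obtain ⟨x, hx, y, hy, hxy⟩ := hmem
      rw [show m = (⟨x, hx.1⟩ : M) * ⟨y, hy.1⟩ from Subtype.ext hxy.symm, map_mul]
      exact Subgroup.mul_mem_sup ⟨⟨x, hx.1⟩, hx.2, rfl⟩
        ⟨Subtype.ext hy.2.1, show π ⟨y, hy.1⟩ • (π tM • a') = π tM • a' from Subtype.ext hy.2.2⟩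
    · rw [← Nat.card_congr eQ.toEquiv]
      exact even_cent hS hX h3
    · let f : ↥(M ⊓ D) → ↥(MulAction.stabilizer (M ⧸ φ.ker) a' ⊓
          MulAction.stabilizer (M ⧸ φ.ker) (π tM • a')) := fun y =>
        ⟨π ⟨y, (Subgroup.mem_inf.1 y.2).1⟩, ⟨Subtype.ext (Subgroup.mem_inf.1 y.2).2.1,
          show π ⟨y, (Subgroup.mem_inf.1 y.2).1⟩ • (π tM • a') = π tM • a' from
            Subtype.ext (Subgroup.mem_inf.1 y.2).2.2⟩⟩
      have hsurj : Function.Surjective f := by
        rintro ⟨z, hz⟩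
        obtain ⟨m, hm, rfl⟩ := hstab z hz.1
        exact ⟨⟨m, Subgroup.mem_inf.2 ⟨m.2, hm, congrArg Subtype.val hz.2⟩⟩, rfl⟩
      let ψ : ↥(M ⊓ D) →* ↥(MulAction.stabilizer (M ⧸ φ.ker) a' ⊓ MulAction.stabilizer (M ⧸ φ.ker) (π tM • a')) :=
        { toFun := f
          map_one' := Subtype.ext (map_one π)
          map_mul' := fun x y => Subtype.ext (map_mul π (⟨(x : G), (Subgroup.mem_inf.1 x.2).1⟩ : M)
            ⟨(y : G), (Subgroup.mem_inf.1 y.2).1⟩) }
      exact hS.odd_card.of_dvd_nat ((Subgroup.card_dvd_of_surjective ψ hsurj).trans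
        (Subgroup.card_dvd_of_le inf_le_right))
  · have hker : (⟨d', Subgroup.mem_centralizer_singleton_iff.2 rfl⟩ : M) ∈ φ.ker :=
      MonoidHom.mem_ker.2 (Equiv.ext fun c => Subtype.ext c.2)
    have h1 : 1 < Nat.card φ.ker := by
      rw [Finite.one_lt_card_iff_nontrivial]
      exact ⟨⟨_, hker⟩, 1, fun e => hd'1 (congrArg (fun z : φ.ker => ((z : M) : G)) e)⟩
    calc Nat.card (M ⧸ φ.ker) < Nat.card (M ⧸ φ.ker) * Nat.card φ.ker := lt_mul_of_one_lt_right Nat.card_pos h1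
      _ = Nat.card M := (Subgroup.card_eq_card_quotient_mul_card_subgroup φ.ker).symm
      _ ≤ Nat.card G := Subgroup.card_le_card_group M
  · rintro ⟨x, y, hx1, hy1, hne, hx2, hy2, hxy, hxQ, hyQ, hxd, hyd⟩
    let ι : ↥(Subgroup.centralizer ({d} : Set G) ⊓ Q) →* M ⧸ φ.ker :=
      Q'.subtype.comp (e0.trans eQ).toMonoidHom
    have hι : Function.Injective ι := Q'.subtype_injective.comp (e0.trans eQ).injective
    let x' : ↥(Subgroup.centralizer ({d} : Set G) ⊓ Q) :=
      ⟨x, Subgroup.mem_inf.2 ⟨Subgroup.mem_centralizer_singleton_iff.2 hxd, hxQ⟩⟩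
    let y' : ↥(Subgroup.centralizer ({d} : Set G) ⊓ Q) :=
      ⟨y, Subgroup.mem_inf.2 ⟨Subgroup.mem_centralizer_singleton_iff.2 hyd, hyQ⟩⟩
    refine ⟨ι x', ι y', fun h => hx1 ?_, fun h => hy1 ?_, fun h => hne ?_, ?_, ?_, ?_⟩
    · exact congrArg Subtype.val (hι (h.trans (map_one ι).symm))
    · exact congrArg Subtype.val (hι (h.trans (map_one ι).symm))
    · exact congrArg Subtype.val (hι h)
    · rw [← map_mul, show x' * x' = 1 from Subtype.ext hx2, map_one]
    · rw [← map_mul, show y' * y' = 1 from Subtype.ext hy2, map_one]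
    · rw [← map_mul, ← map_mul]
      exact congrArg ι (Subtype.ext hxy)

end Cfsg.Agent.Involutions.RankOne.Char
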