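import Cfsg.Agent.Lib.Involutions.RankOne.Char.Isometry
import Cfsg.Agent.Lib.Involutions.RankOne.Char.Local
import Cfsg.Agent.Lib.CharTheory.Clifford
import Cfsg.Agent.Lib.Characters.Normal

/-!
# Characters of `G_a` induced from `Q`
-/

set_option autoImplicit false
set_option linter.unusedSectionVars false

namespace Cfsg.Agent.Involutions.RankOne.Char

open MulAction Involutions.Basic
open Cfsg.Agent.Characters
open scoped ComplexConjugate

universe u v

variable {G : Type u} {Ω : Type v} [Group G] [MulAction G Ω] {a : Ω} {t : G} {Q E : Subgroup G}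

local notation "H" => MulAction.stabilizer G a
local notation "D" => (MulAction.stabilizer G a ⊓ MulAction.stabilizer G (t • a))

/-- A function on `Q` is fixed by `d`. -/
def FunFixed (Q : Subgroup G) (d : G) (φ : Q → ℂ) : Prop :=
  ∀ x y : Q, (y : G) = d * x * d⁻¹ → φ y = φ x

/-- `φ'` is the conjugate of `φ` by `d`. -/
def FunConj (Q : Subgroup G) (d : G) (φ φ' : Q → ℂ) : Prop :=
  ∀ x y : Q, (y : G) = d * x * d⁻¹ → φ' x = φ y

variable [Fintype G]

/-- The function of `G_a` induced from a function on `Q`. -/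
noncomputable def indQ (a : Ω) (Q : Subgroup G) [Fintype (MulAction.stabilizer G a)] (φ : Q → ℂ) :
    MulAction.stabilizer G a → ℂ :=
  Cfsg.indFun (Q.subgroupOf (MulAction.stabilizer G a))
    fun x => φ ⟨((x : MulAction.stabilizer G a) : G), Subgroup.mem_subgroupOf.1 x.2⟩

variable [Fintype (MulAction.stabilizer G a)] (hS : Cfsg.IsRankOneSetup G Ω a t Q)

include hS

theorem normal_subgroupOf : (Q.subgroupOf H).Normal :=
  ⟨fun x hx h => Subgroup.mem_subgroupOf.2 (by
    simpa using hS.conj_mem h h.2 x (Subgroup.mem_subgroupOf.1 hx))⟩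

theorem card_subgroupOf : Nat.card (Q.subgroupOf H) = Nat.card Q :=
  Nat.card_congr (Subgroup.subgroupOfEquivOfLe hS.le).toEquiv

theorem index_subgroupOf : (Q.subgroupOf H).index = Nat.card ↥D := by
  have h := (Q.subgroupOf H).card_mul_index
  rw [card_subgroupOf hS, card_stabilizer hS] at h
  exact Nat.eq_of_mul_eq_mul_left Nat.card_pos h

theorem isIrr_comp {φ : Q → ℂ} (hφ : Cfsg.IsIrrCharacter Q φ) :
    Cfsg.IsIrrCharacter (Q.subgroupOf H) fun x => φ ⟨((x : H) : G), Subgroup.mem_subgroupOf.1 x.2⟩ :=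
  CharTheory.Basics.isIrrCharacter_comp_equiv (Subgroup.subgroupOfEquivOfLe hS.le) hφ

theorem indQ_eq_zero (φ : Q → ℂ) {h : H} (hh : (h : G) ∉ Q) : indQ a Q φ h = 0 := by
  haveI := normal_subgroupOf hS
  exact CharTheory.Clifford.indFun_of_notMem _ _ fun hm => hh (Subgroup.mem_subgroupOf.1 hm)

theorem indQ_one (φ : Q → ℂ) : indQ a Q φ 1 = (Nat.card ↥D : ℂ) * φ 1 := by
  rw [indQ, indFun_one, index_subgroupOf hS]
  rfl

/-- Differences of induced functions of equal degree are supported on the elements fixing only `a`. -/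
theorem supp_indQ (φ φ' : Q → ℂ) (c : ℂ) (h1 : φ 1 = c * φ' 1) :
    Supp a (indQ a Q φ - c • indQ a Q φ') := by
  refine ⟨fun x y => by
    simp [indQ, indFun_isClassFunction (Q.subgroupOf H) _ x y], fun h ⟨d, hd, hfix⟩ => ?_⟩
  by_cases hh : (h : G) ∈ Q
  · have : (h : G) = 1 := by
      by_contra hne
      exact hd (eq_a_of_fixed hS hh hne hfix)
    rw [show h = 1 from Subtype.ext this]
    simp only [Pi.sub_apply, Pi.smul_apply, smul_eq_mul, indQ_one hS, h1]
    ring
  · simp [indQ_eq_zero hS _ hh]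

theorem supp_indQ' (φ φ' : Q → ℂ) (h1 : φ 1 = φ' 1) : Supp a (indQ a Q φ - indQ a Q φ') := by
  simpa using supp_indQ hS φ φ' 1 (by rw [one_mul]; exact h1)

omit [Fintype G] [Fintype H] in
theorem fixed_decomp [Finite G] {φ φ' : Q → ℂ} (hφ : Cfsg.IsClassFunction Q φ) {h : G} (hh : h ∈ H)
    (hconj : FunConj Q h φ φ') : ∃ d ∈ D, ∃ q ∈ Q, h = q * d ∧ FunConj Q d φ φ' := by
  obtain ⟨q, hq, d, hd, rfl⟩ := exists_decomp hS hh
  refine ⟨d, hd, q, hq, rfl, fun x y hy => ?_⟩
  have h1 := hconj x ⟨q * y * q⁻¹, Q.mul_mem (Q.mul_mem hq y.2) (Q.inv_mem hq)⟩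
    (by show q * (y : G) * q⁻¹ = _; rw [hy]; group)
  rw [h1]
  exact hφ y ⟨q, hq⟩

theorem card_mul_inner_indQ {φ φ' : Q → ℂ} (hφ : Cfsg.IsIrrCharacter Q φ)
    (hφ' : Cfsg.IsIrrCharacter Q φ') :
    (Nat.card Q : ℂ) * Cfsg.classInner (indQ a Q φ) (indQ a Q φ') =
      (Nat.card {h : H // FunConj Q (h : G) φ' φ} : ℂ) := by
  classical
  haveI := normal_subgroupOf hS
  haveI := Fintype.ofFinite (Q.subgroupOf H)
  have hi := isIrr_comp hS hφ
  have hi' := isIrr_comp hS hφ'
  simp only [indQ]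
  rw [← card_subgroupOf hS, frobenius_reciprocity _ _ (indFun_isClassFunction _ _),
    indFun_restrict_normal, classInner_smul_right, map_inv₀, Complex.conj_natCast, ← mul_assoc,
    mul_inv_cancel₀ (Nat.cast_ne_zero.2 Nat.card_pos.ne'), one_mul, classInner_sum_right]
  set θ := fun x : Q.subgroupOf H => φ ⟨((x : H) : G), Subgroup.mem_subgroupOf.1 x.2⟩
  set θ' := fun x : Q.subgroupOf H => φ' ⟨((x : H) : G), Subgroup.mem_subgroupOf.1 x.2⟩
  have hval : ∀ x : H, Cfsg.classInner θ (Characters.conjFun (Q.subgroupOf H) θ' x⁻¹) =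
      if Characters.conjFun (Q.subgroupOf H) θ' x⁻¹ = θ then 1 else 0 := fun x => by
    split_ifs with h
    · rw [h]; exact classInner_isIrr_self hi
    · exact classInner_isIrr_ne hi (Characters.isIrrCharacter_conjFun _ hi' _) (Ne.symm h)
  simp only [hval]
  rw [Finset.sum_boole, Nat.card_eq_fintype_card, Fintype.card_subtype]
  congr 1
  refine Finset.card_equiv (Equiv.inv H) fun x => ?_
  simp only [Finset.mem_filter, Finset.mem_univ, true_and]
  constructor
  · intro h u w hw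
    have h1 := congrFun h ⟨⟨(u : G), hS.le u.2⟩, Subgroup.mem_subgroupOf.2 u.2⟩
    rw [show w = ⟨((x : G)⁻¹) * u * ((x : G)⁻¹)⁻¹, hw ▸ w.2⟩ from Subtype.ext hw]
    exact h1.symm
  · intro h
    funext m
    exact (h ⟨((m : H) : G), Subgroup.mem_subgroupOf.1 m.2⟩ _ rfl).symm

/-- Characters moved by every non-identity element of `D` induce to irreducible characters. -/
theorem isIrr_indQ {φ : Q → ℂ} (hφ : Cfsg.IsIrrCharacter Q φ)
    (hreg : ∀ d ∈ D, FunFixed Q d φ → d = 1) : Cfsg.IsIrrCharacter H (indQ a Q φ) := by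
  have hn := card_mul_inner_indQ hS hφ hφ
  have hset : Nat.card {h : H // FunConj Q (h : G) φ φ} = Nat.card Q := by
    refine Nat.card_congr
      { toFun := fun h => ⟨((h : H) : G), ?_⟩
        invFun := fun q => ⟨⟨(q : G), hS.le q.2⟩, fun x y hy => ?_⟩
        left_inv := fun h => rfl
        right_inv := fun q => rfl }
    · obtain ⟨d, hd, q, hq, he, hc⟩ :=
        fixed_decomp hS (char_isClassFunction (isCharacter_of_isIrr hφ)) (h : H).2 h.2
      rw [he, hreg d hd fun x y hy => (hc x y hy).symm, mul_one]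
      exact hq
    · rw [show y = q * x * q⁻¹ from Subtype.ext (by push_cast; exact hy)]
      exact (char_isClassFunction (isCharacter_of_isIrr hφ) x q).symm
  rw [hset] at hn
  exact isIrr_of_isCharacter_of_norm_one
    (isCharacter_indFun _ (isCharacter_of_isIrr (isIrr_comp hS hφ)))
    (mul_left_cancel₀ (Nat.cast_ne_zero.2 Nat.card_pos.ne') (hn.trans (mul_one _).symm))

/-- Equal induced characters come from conjugate characters. -/
theorem exists_of_indQ_eq {φ φ' : Q → ℂ} (hφ : Cfsg.IsIrrCharacter Q φ)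
    (hφ' : Cfsg.IsIrrCharacter Q φ') (h : indQ a Q φ = indQ a Q φ') :
    ∃ d ∈ D, FunConj Q d φ φ' := by
  have h1 := card_mul_inner_indQ hS hφ' hφ
  rw [h] at h1
  have hne : Cfsg.classInner (indQ a Q φ') (indQ a Q φ') ≠ 0 := by
    rw [Ne, classInner_self_eq_zero]
    intro h0
    have := congrFun h0 1
    rw [indQ_one hS, Pi.zero_apply, mul_eq_zero] at this
    exact this.elim (Nat.cast_ne_zero.2 Nat.card_pos.ne') (irr_one_ne_zero hφ')
  have hpos : Nat.card {x : H // FunConj Q (x : G) φ φ'} ≠ 0 := by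
    intro h0
    rw [h0, Nat.cast_zero] at h1
    exact (mul_ne_zero (Nat.cast_ne_zero.2 Nat.card_pos.ne') hne) h1
  obtain ⟨⟨⟨x, hx⟩, hc⟩⟩ := (Nat.card_ne_zero.1 hpos).1
  obtain ⟨d, hd, -, -, -, hd'⟩ :=
    fixed_decomp hS (char_isClassFunction (isCharacter_of_isIrr hφ)) hx hc
  exact ⟨d, hd, hd'⟩

variable {g : G} {n : ℕ}

open Classical in
/-- The value at an involution, for a central character `w` on `E`. -/
theorem indQ_at (F : Frame a t Q E g n) {φ : Q → ℂ} {w : E →* ℂˣ}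
    (hw : ∀ (e : E) (hq : (e : G) ∈ Q), φ ⟨e, hq⟩ = φ 1 * (w e : ℂ)) {s : G}
    (hs : s ∈ Cfsg.involutionsIn (MulAction.stabilizer G a : Set G)) :
    (((2 : ℕ) ^ n - 1 : ℕ) : ℂ) * indQ a Q φ ⟨s, hs.1⟩ =
      (Nat.card ↥D : ℂ) * φ 1 * (if w = 1 then (((2 : ℕ) ^ n - 1 : ℕ) : ℂ) else -1) := by
  classical
  haveI := normal_subgroupOf hS
  haveI := F.comm_E
  haveI := Fintype.ofFinite E
  have hsE : s ∈ E := (F.mem_E s).2 (Or.inr hs)
  have hconjE : ∀ x : H, (x : G) * s * (x : G)⁻¹ ∈ E := fun x =>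
    (F.mem_E _).2 (Or.inr (conj_mem_involutions hS hs x.2))
  have h1 := CharTheory.Clifford.card_mul_indFun_coe (Q.subgroupOf H)
    (fun x : Q.subgroupOf H => φ ⟨((x : H) : G), Subgroup.mem_subgroupOf.1 x.2⟩)
    ⟨⟨s, hs.1⟩, Subgroup.mem_subgroupOf.2 (F.E_le hsE)⟩
  rw [card_subgroupOf hS] at h1
  have hterm : ∀ x : H, CharTheory.Clifford.conjBy (Q.subgroupOf H)
      x (fun x : Q.subgroupOf H => φ ⟨((x : H) : G), Subgroup.mem_subgroupOf.1 x.2⟩)
      ⟨⟨s, hs.1⟩, Subgroup.mem_subgroupOf.2 (F.E_le hsE)⟩ =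
        φ 1 * (w ⟨(x : G) * s * (x : G)⁻¹, hconjE x⟩ : ℂ) := fun x =>
    hw ⟨(x : G) * s * (x : G)⁻¹, hconjE x⟩ _
  simp only [hterm, ← Finset.mul_sum] at h1
  set c : H → E := fun x => ⟨(x : G) * s * (x : G)⁻¹, hconjE x⟩ with hc
  have hK : ∀ e : E, e ≠ 1 → ∃ k : H, c k = e := by
    intro e he
    obtain ⟨k, hk, hks⟩ := F.move s hsE hs.2.1 e e.2 fun h => he (Subtype.ext h)
    exact ⟨⟨k, (F.zpowers_le_D hk).1⟩, Subtype.ext hks⟩
  have hfib : ∀ e : E, e ≠ 1 → (Finset.univ.filter fun x : H => c x = e).card =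
      (Finset.univ.filter fun x : H => c x = ⟨s, hsE⟩).card := by
    intro e he
    obtain ⟨k, rfl⟩ := hK e he
    refine (Finset.card_equiv (Equiv.mulLeft k) fun x => ?_).symm
    simp only [Finset.mem_filter, Finset.mem_univ, true_and, Equiv.coe_mulLeft, hc, Subtype.ext_iff,
      Subgroup.coe_mul, mul_inv_rev]
    constructor
    · intro hx
      rw [show (k : G) * x * s * ((x : G)⁻¹ * (k : G)⁻¹) = k * ((x : G) * s * (x : G)⁻¹) * (k : G)⁻¹ by
        group, hx]
    · intro hx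
      refine mul_right_cancel (b := (k : G)⁻¹) ?_
      simpa [mul_assoc] using hx
  have hne1 : ∀ x, c x ≠ 1 := fun x h => hs.2.1 (conj_eq_one_iff.1 (congrArg Subtype.val h))
  set m := (Finset.univ.filter fun x : H => c x = ⟨s, hsE⟩).card with hm
  have hsum : ∑ x : H, (w (c x) : ℂ) = (m : ℂ) * ∑ e ∈ Finset.univ.erase (1 : E), (w e : ℂ) := by
    rw [← Finset.sum_fiberwise_of_maps_to
      (fun x _ => Finset.mem_erase.2 ⟨hne1 x, Finset.mem_univ (c x)⟩) (fun x => (w (c x) : ℂ)),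
      Finset.mul_sum]
    refine Finset.sum_congr rfl fun e he => ?_
    rw [Finset.sum_congr rfl (g := fun _ => (w e : ℂ)) fun x hx => by rw [(Finset.mem_filter.1 hx).2],
      Finset.sum_const, nsmul_eq_mul, hfib e (Finset.ne_of_mem_erase he), hm]
  have hcount : Nat.card H = m * ((2 : ℕ) ^ n - 1) := by
    rw [Nat.card_eq_fintype_card, ← Finset.card_univ,
      Finset.card_eq_sum_card_fiberwise (t := Finset.univ.erase (1 : E))
        (fun x _ => Finset.mem_coe.2 (Finset.mem_erase.2 ⟨hne1 x, Finset.mem_univ (c x)⟩)),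
      Finset.sum_congr rfl fun e he => hfib e (Finset.ne_of_mem_erase he), Finset.sum_const,
      Finset.card_erase_of_mem (Finset.mem_univ _), Finset.card_univ, ← Nat.card_eq_fintype_card,
      F.card_E, smul_eq_mul, mul_comm]
  have hall : ∑ e ∈ Finset.univ.erase (1 : E), (w e : ℂ) =
      if w = 1 then (((2 : ℕ) ^ n - 1 : ℕ) : ℂ) else -1 := by
    split_ifs with h
    · subst h
      simp [Finset.card_erase_of_mem, ← Nat.card_eq_fintype_card, F.card_E]
    · have h0 : ∑ e : E, (w e : ℂ) = 0 := by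
        obtain ⟨e₁, he₁⟩ : ∃ e₁, w e₁ ≠ 1 := by
          by_contra hh
          push Not at hh
          exact h (MonoidHom.ext hh)
        have hshift : ∑ e : E, (w (e₁ * e) : ℂ) = ∑ e : E, (w e : ℂ) :=
          Fintype.sum_equiv (Equiv.mulLeft e₁) _ _ fun _ => rfl
        simp only [map_mul, Units.val_mul, ← Finset.mul_sum] at hshift
        by_contra hne
        exact he₁ (Units.ext ((mul_eq_right₀ hne).1 hshift))
      rw [← Finset.add_sum_erase _ _ (Finset.mem_univ (1 : E)), map_one, Units.val_one] at h0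
      linear_combination h0
  simp only [hc] at hsum
  rw [hsum, hall] at h1
  have hH := card_stabilizer hS
  rw [hcount] at hH
  have hQ : (Nat.card Q : ℂ) ≠ 0 := Nat.cast_ne_zero.2 Nat.card_pos.ne'
  apply mul_left_cancel₀ hQ
  have hH' : (m : ℂ) * (((2 : ℕ) ^ n - 1 : ℕ) : ℂ) = (Nat.card Q : ℂ) * Nat.card ↥D := by
    exact_mod_cast hH
  rw [indQ, mul_left_comm, h1]
  split_ifs
  · linear_combination φ 1 * (((2 : ℕ) ^ n - 1 : ℕ) : ℂ) * hH'
  · linear_combination φ 1 * (-1 : ℂ) * hH'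

end Cfsg.Agent.Involutions.RankOne.Char
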