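import Cfsg.Agent.Lib.Involutions.RankOne.Char.AbelianLocal
import Cfsg.Agent.Lib.Involutions.RankOne.Char.Families
import Cfsg.Agent.Lib.Involutions.RankOne.Char.Psi

/-!
# Counting the regular linear characters of an abelian `Q`
-/

set_option autoImplicit false
set_option linter.unusedSectionVars false

namespace Cfsg.Agent.Involutions.RankOne.Char.AbelianCase

open MulAction Involutions.Basic
open Cfsg.Agent.Characters

universe u v

variable {G : Type u} {Ω : Type v} [Group G] [MulAction G Ω] {a : Ω} {t : G}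
  {Q E : Subgroup G} {g : G} {n : ℕ} {s : G}

local notation "H" => MulAction.stabilizer G a
local notation "D" => (MulAction.stabilizer G a ⊓ MulAction.stabilizer G (t • a))

/-- A non-trivial homomorphism moved by every non-identity element of the two-point stabiliser. -/
def Reg (a : Ω) (t : G) (Q : Subgroup G) (φ : Q →* ℂˣ) : Prop :=
  φ ≠ 1 ∧ ∀ d ∈ MulAction.stabilizer G a ⊓ MulAction.stabilizer G (t • a), FixedBy Q d φ → d = 1

theorem funFixed_iff {φ : Q →* ℂˣ} {d : G} :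
    FunFixed Q d (fun x => (φ x : ℂ)) ↔ FixedBy Q d φ :=
  ⟨fun h x y e => Units.val_injective (h x y e), fun h x y e => congrArg Units.val (h x y e)⟩

variable [Fintype G] [Fintype (MulAction.stabilizer G a)] (hS : Cfsg.IsRankOneSetup G Ω a t Q)
  (F : Frame a t Q E g n)
include hS F

theorem isIrr_psi {φ : Q →* ℂˣ} (hφ : Reg a t Q φ) :
    Cfsg.IsIrrCharacter H (indQ a Q fun x => (φ x : ℂ)) :=
  isIrr_indQ hS (isIrrCharacter_linear φ) fun d hd h => hφ.2 d hd (funFixed_iff.1 h)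

theorem psi_at (hs : s ∈ Cfsg.involutionsIn (MulAction.stabilizer G a : Set G)) (φ : Q →* ℂˣ)
    [Decidable (φ.comp (Subgroup.inclusion F.E_le) = 1)] :
    indQ a Q (fun x => (φ x : ℂ)) ⟨s, hs.1⟩ =
      (Nat.card ↥(MulAction.stabilizer G a ⊓ MulAction.stabilizer G (t • a) ⊓
          Subgroup.centralizer ({s} : Set G)) : ℂ) *
        if φ.comp (Subgroup.inclusion F.E_le) = 1 then (((2 : ℕ) ^ n - 1 : ℕ) : ℂ) else -1 := by
  classical
  have hsE : s ∈ E := (F.mem_E s).2 (Or.inr hs)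
  have h := indQ_at hS F (φ := fun x => (φ x : ℂ)) (w := φ.comp (Subgroup.inclusion F.E_le))
    (fun e hq => by rw [map_one, Units.val_one, one_mul]; rfl) hs
  rw [map_one, Units.val_one, mul_one, card_D_eq hS F hsE hs.2.1, Nat.cast_mul, mul_assoc] at h
  refine (mul_left_cancel₀ (Nat.cast_ne_zero.2 ?_) h).trans ?_
  · have := F.three_le_q; omega
  · congr 1; split_ifs <;> rfl

/-- The fibres of `φ ↦ Ind φ`. -/
theorem card_fibre_le {ι : Type*} (f : ι → Q →* ℂˣ) (hf : Function.Injective f) (P : ι → Prop)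
    (hP : ∀ j k, P j → P k →
      indQ a Q (fun x => (f j x : ℂ)) = indQ a Q (fun x => (f k x : ℂ))) :
    Nat.card {j // P j} ≤ Nat.card ↥D := by
  classical
  rcases isEmpty_or_nonempty {j // P j} with he | ⟨⟨j₀, hj₀⟩⟩
  · simp
  choose d hd hconj using fun j : {j // P j} => exists_of_indQ_eq hS
    (isIrrCharacter_linear (f j₀)) (isIrrCharacter_linear (f j)) (hP j₀ j hj₀ j.2)
  refine Nat.card_le_card_of_injective (fun j => (⟨d j, hd j⟩ : ↥D)) fun j k e => ?_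
  have e' : d j = d k := congrArg Subtype.val e
  refine Subtype.ext (hf (MonoidHom.ext fun x => Units.val_injective ?_))
  let y : Q := ⟨d j * x * (d j)⁻¹, hS.conj_mem (d j) (hd j).1 x x.2⟩
  exact (hconj j x y rfl).trans (hconj k x y (by rw [← e'])).symm

variable [Fintype (Cfsg.IrrCharacter G)]
  (h2 : ∃ x y : G, x ≠ 1 ∧ y ≠ 1 ∧ x ≠ y ∧ x * x = 1 ∧ y * y = 1 ∧ x * y = y * x)
include h2

set_option maxHeartbeats 1600000 in
/-- The counting inequality for the regular characters. -/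
theorem bound (hs : s ∈ Cfsg.involutionsIn (MulAction.stabilizer G a : Set G))
    (hgood : Nat.card ↥D < Nat.card {φ : Q →* ℂˣ // Reg a t Q φ})
    (hmix : ∀ (B : Finset (Cfsg.IrrCharacter H)) (e : ℤ)
      (μ : Cfsg.IrrCharacter H → Cfsg.IrrCharacter G), Coh a B e μ →
      (∀ x ∈ B, ∃ φ, Reg a t Q φ ∧ (x : H → ℂ) = indQ a Q fun y => (φ y : ℂ)) →
      (∀ φ, Reg a t Q φ → ∃ x ∈ B, (x : H → ℂ) = indQ a Q fun y => (φ y : ℂ)) →
      (∀ x ∈ B, ∀ y ∈ B, (x : H → ℂ) ⟨s, hs.1⟩ = (y : H → ℂ) ⟨s, hs.1⟩) →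
      ∀ x ∈ B, Pval a s (μ x : G → ℂ) ^ 2 =
        ((Nat.card ↥(D ⊓ Subgroup.centralizer ({s} : Set G)) * 2 ^ n : ℕ) : ℂ) ^ 2) :
    (2 ^ n) ^ 2 * Nat.card {φ : Q →* ℂˣ // Reg a t Q φ} ≤
      4 * Nat.card Q * (2 ^ n - 1) + (2 ^ n - 2) ^ 2 := by
  classical
  haveI := finite_hom Q
  haveI := Fintype.ofFinite (Q →* ℂˣ)
  have hsE : s ∈ E := (F.mem_E s).2 (Or.inr hs)
  let ψ : {φ : Q →* ℂˣ // Reg a t Q φ} → Cfsg.IrrCharacter H :=
    fun φ => ⟨_, isIrr_psi hS F φ.2⟩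
  set B := Finset.univ.image ψ with hBdef
  have hfib : ∀ (P : {φ : Q →* ℂˣ // Reg a t Q φ} → Prop),
      (∀ j k, P j → P k → ψ j = ψ k) → Nat.card {j // P j} ≤ Nat.card ↥D := fun P hP =>
    card_fibre_le hS F (fun j => j.1) Subtype.val_injective P
      fun j k hj hk => congrArg Subtype.val (hP j k hj hk)
  have hB2 : 2 ≤ B.card := by
    by_contra hlt
    have h := Finset.card_le_mul_card_image (f := ψ)
      (Finset.univ : Finset {φ : Q →* ℂˣ // Reg a t Q φ}) (Nat.card ↥D) fun b _ => by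
        rw [← Fintype.card_subtype, ← Nat.card_eq_fintype_card]
        exact hfib _ fun j k hj hk => hj.trans hk.symm
    rw [Finset.card_univ, ← Nat.card_eq_fintype_card, ← hBdef] at h
    have : Nat.card ↥D * B.card ≤ Nat.card ↥D * 1 := Nat.mul_le_mul_left _ (by omega)
    omega
  have hsrc : ∀ x ∈ B, ∃ φ, Reg a t Q φ ∧ (x : H → ℂ) = indQ a Q fun y => (φ y : ℂ) := by
    intro x hx
    obtain ⟨φ, -, rfl⟩ := Finset.mem_image.1 hx
    exact ⟨φ.1, φ.2, rfl⟩
  obtain ⟨e, μ, hB⟩ := exists_coh hS B hB2 fun x hx y hy => by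
    obtain ⟨φ, -, hφ⟩ := hsrc x hx
    obtain ⟨φ', -, hφ'⟩ := hsrc y hy
    rw [hφ, hφ']
    exact supp_indQ' hS _ _ (by rw [map_one, map_one])
  set v := Nat.card ↥(D ⊓ Subgroup.centralizer ({s} : Set G)) with hv
  have hP : ∀ x ∈ B, Pval a s (μ x : G → ℂ) ^ 2 = ((v * 2 ^ n : ℕ) : ℂ) ^ 2 := by
    by_cases hc : ∀ x ∈ B, ∀ y ∈ B, (x : H → ℂ) ⟨s, hs.1⟩ = (y : H → ℂ) ⟨s, hs.1⟩
    · exact hmix B e μ hB hsrc
        (fun φ hφ => ⟨ψ ⟨φ, hφ⟩, Finset.mem_image_of_mem _ (Finset.mem_univ _), rfl⟩) hc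
    push Not at hc
    obtain ⟨x, hx, y, hy, hne⟩ := hc
    intro b hb
    rw [hB.P_sq hS hs h2 hx hy hb hne]
    obtain ⟨φ, -, hφ⟩ := hsrc x hx
    obtain ⟨φ', -, hφ'⟩ := hsrc y hy
    rw [hφ, hφ'] at hne ⊢
    rw [psi_at hS F hs, psi_at hS F hs, ← hv] at hne ⊢
    rw [Nat.cast_sub Nat.one_le_two_pow] at hne ⊢
    push_cast
    split_ifs at hne ⊢ <;> first | exact absurd rfl hne | ring
  have hm := master hS hs (fun j => μ (ψ j)) ((v * 2 ^ n : ℕ) : ℝ) (fun _ => 1)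
    (d := Nat.card ↥D) (fun x => hfib _ fun j k hj hk =>
      hB.inj (Finset.mem_image_of_mem _ (Finset.mem_univ j))
        (Finset.mem_image_of_mem _ (Finset.mem_univ k)) (hj.trans hk.symm))
    fun j => by
      rw [hP _ (Finset.mem_image_of_mem _ (Finset.mem_univ j))]
      push_cast
      ring
  obtain ⟨r, hr⟩ : ∃ r, 2 ^ n = r + 2 := ⟨2 ^ n - 2, by have := F.three_le_q; omega⟩
  rw [show 2 ^ n - 1 = r + 1 by omega, show 2 ^ n - 2 = r by omega]
  rw [Finset.sum_const, Finset.card_univ, ← Nat.card_eq_fintype_card, card_cent_eq hS F hsE hs.2.1,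
    card_stabilizer hS, card_group hS, card_D_eq hS F hsE hs.2.1, ← hv,
    show 2 ^ n - 1 = r + 1 by omega, hr] at hm
  rw [hr]
  have hv0 : (0 : ℝ) < v := Nat.cast_pos.2 Nat.card_pos
  have hN : (0 : ℝ) < Nat.card Q := Nat.cast_pos.2 Nat.card_pos
  push_cast at hm
  set N : ℝ := (Nat.card Q : ℝ) with hNdef
  set R : ℝ := (r : ℝ) with hRdef
  set M : ℝ := ((Nat.card {φ : Q →* ℂˣ // Reg a t Q φ} : ℕ) : ℝ) with hMdef
  have hR : (0 : ℝ) ≤ R := Nat.cast_nonneg r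
  have hrat : ((R + 1) * v : ℝ) *
      (((N * ((R + 1) * v) - N * v) / (N * ((R + 1) * v) * (N + 1))) ^ 2 *
        (N * ((R + 1) * v) * (N + 1))) ≤ (v : ℝ) ^ 2 * R ^ 2 := by
    have h0 : (0 : ℝ) < N + 1 := by linarith
    have heq : ((R + 1) * v : ℝ) *
        (((N * ((R + 1) * v) - N * v) / (N * ((R + 1) * v) * (N + 1))) ^ 2 *
          (N * ((R + 1) * v) * (N + 1))) = (v : ℝ) ^ 2 * R ^ 2 * (N / (N + 1)) := by
      field_simp
      ring
    rw [heq]
    exact mul_le_of_le_one_right (by positivity) (by rw [div_le_one h0]; linarith)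
  have hkey : (v : ℝ) ^ 2 * ((R + 2) ^ 2 * M) ≤ (v : ℝ) ^ 2 * (4 * N * (R + 1) + R ^ 2) := by
    linear_combination hm + hrat
  have := le_of_mul_le_mul_left hkey (by positivity)
  rw [← @Nat.cast_le ℝ]
  push_cast
  exact this

end Cfsg.Agent.Involutions.RankOne.Char.AbelianCase
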