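import Cfsg.Agent.Lib.Involutions.RankOne.Char.Local

/-!
# The two-point stabiliser when `Q` is an abelian 2-group

Orbit means over an automorphism, power maps of abelian 2-groups, and the orders of `D` and `C(s)`.
-/

set_option autoImplicit false
set_option linter.unusedSectionVars false

namespace Cfsg.Agent.Involutions.RankOne.Char.AbelianCase

open MulAction Involutions.Basic

universe u v

section Comm

variable {A : Type*} [CommGroup A]

/-- The product over the first `p` iterates of `c`. -/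
noncomputable def avg (c : A →* A) (p : ℕ) : A →* A where
  toFun x := ∏ i ∈ Finset.range p, (c^[i]) x
  map_one' := Finset.prod_eq_one fun i _ => Function.iterate_fixed (map_one c) i
  map_mul' x y := by simp only [iterate_map_mul, Finset.prod_mul_distrib]

theorem avg_apply (c : A →* A) (p : ℕ) (x : A) : avg c p x = ∏ i ∈ Finset.range p, (c^[i]) x := rfl

theorem avg_fixed {c : A →* A} {p : ℕ} (hp : ∀ x, (c^[p]) x = x) (x : A) :
    c (avg c p x) = avg c p x := by
  rw [avg_apply, map_prod]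
  simp only [← Function.iterate_succ_apply' c]
  apply mul_right_cancel (b := x)
  conv_rhs => rw [show (∏ i ∈ Finset.range p, (c^[i]) x) * x =
    ∏ i ∈ Finset.range (p + 1), (c^[i]) x by rw [Finset.prod_range_succ, hp]]
  rw [Finset.prod_range_succ']
  rfl

theorem avg_comp {c : A →* A} {p : ℕ} (hp : ∀ x, (c^[p]) x = x) (x : A) :
    avg c p (c x) = avg c p x := by
  rw [← avg_fixed hp x, avg_apply, avg_apply, map_prod]
  exact Finset.prod_congr rfl fun i _ => by
    rw [← Function.iterate_succ_apply, Function.iterate_succ_apply']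

theorem avg_of_fixed {c : A →* A} {p : ℕ} {x : A} (h : c x = x) : avg c p x = x ^ p := by
  rw [avg_apply, Finset.prod_congr rfl fun i _ => Function.iterate_fixed h i]
  simp

/-- The elements killed by `2 ^ i`. -/
def powKer (A : Type*) [CommGroup A] (i : ℕ) : Subgroup A := (powMonoidHom (2 ^ i)).ker

theorem mem_powKer {i : ℕ} {x : A} : x ∈ powKer A i ↔ x ^ (2 ^ i) = 1 := Iff.rfl

variable [Finite A]

theorem card_powKer_succ (i : ℕ) :
    ∃ R : Subgroup A, R ≤ powKer A 1 ∧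
      Nat.card (powKer A (i + 1)) = Nat.card (powKer A i) * Nat.card R ∧
      ∀ y : A, y ^ (2 ^ (i + 1)) = 1 → y ^ (2 ^ i) ∈ R := by
  let f : powKer A (i + 1) →* A := (powMonoidHom (2 ^ i)).comp (powKer A (i + 1)).subtype
  refine ⟨f.range, ?_, ?_, fun y hy => ⟨⟨y, hy⟩, rfl⟩⟩
  · rintro _ ⟨x, rfl⟩
    rw [mem_powKer]
    show ((x : A) ^ (2 ^ i)) ^ (2 ^ 1) = 1
    rw [← pow_mul, ← pow_add]
    exact x.2
  · have hle : powKer A i ≤ powKer A (i + 1) := fun x hx => by
      rw [mem_powKer] at hx ⊢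
      rw [pow_succ, pow_mul, hx, one_pow]
    rw [← Subgroup.card_mul_index f.ker, Subgroup.index_ker f]
    congr 1
    exact Nat.card_congr
      { toFun := fun x => ⟨(x : powKer A (i + 1)), x.2⟩
        invFun := fun x => ⟨⟨x, hle x.2⟩, x.2⟩
        left_inv := fun x => rfl
        right_inv := fun x => rfl }

theorem card_powKer_le (j : ℕ) : Nat.card (powKer A j) ≤ Nat.card (powKer A 1) ^ j := by
  induction j with
  | zero =>
    rw [pow_zero, show powKer A 0 = ⊥ from (Subgroup.eq_bot_iff_forall _).2 fun x hx => by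
      simpa [mem_powKer] using hx, Subgroup.card_bot]
  | succ j ih =>
    obtain ⟨R, hR, hc, -⟩ := card_powKer_succ (A := A) j
    rw [hc, pow_succ]
    exact Nat.mul_le_mul ih (Nat.le_of_dvd Nat.card_pos (Subgroup.card_dvd_of_le hR))

theorem pow_le_card_powKer {j : ℕ}
    (hroot : ∀ e : A, e * e = 1 → ∀ i < j, ∃ y : A, y ^ (2 ^ i) = e) :
    Nat.card (powKer A 1) ^ j ≤ Nat.card (powKer A j) := by
  induction j with
  | zero => exact Nat.one_le_iff_ne_zero.2 Nat.card_pos.ne'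
  | succ j ih =>
    obtain ⟨R, hR, hc, hmem⟩ := card_powKer_succ (A := A) j
    have hR1 : powKer A 1 ≤ R := fun e he => by
      rw [mem_powKer, pow_one, pow_two] at he
      obtain ⟨y, hy⟩ := hroot e he j (Nat.lt_succ_self j)
      rw [← hy]
      exact hmem y (by rw [pow_succ, pow_mul, hy, pow_two, he])
    rw [hc, pow_succ]
    exact Nat.mul_le_mul (ih fun e he i hi => hroot e he i (Nat.lt_succ_of_lt hi))
      (le_of_eq (by rw [le_antisymm hR hR1]))

end Comm

variable {G : Type u} {Ω : Type v} [Group G] [Finite G] [MulAction G Ω] {a : Ω} {t : G}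
  {Q E : Subgroup G} {g : G} {n : ℕ} {s : G}

local notation "H" => MulAction.stabilizer G a
local notation "D" => (MulAction.stabilizer G a ⊓ MulAction.stabilizer G (t • a))

variable (hS : Cfsg.IsRankOneSetup G Ω a t Q) (F : Frame a t Q E g n)
include hS F

theorem mem_E_of_sq {x : G} (hx : x ∈ Q) (h : x * x = 1) : x ∈ E := by
  refine (F.mem_E x).2 ?_
  by_cases h1 : x = 1
  · exact Or.inl h1
  · exact Or.inr ⟨hS.le hx, h1, h⟩

theorem sq_of_mem_E {x : G} (hx : x ∈ E) : x * x = 1 := by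
  rcases (F.mem_E x).1 hx with rfl | h
  · exact one_mul 1
  · exact h.2.2

/-- An element of `D` centralising `E` is trivial. -/
theorem cent_E_eq_one [FaithfulSMul G Ω] (hQ2 : IsPGroup 2 Q)
    (hcomm : ∀ x ∈ Q, ∀ y ∈ Q, x * y = y * x) {d : G} (hd : d ∈ D)
    (hE : ∀ e ∈ E, Commute e d) : d = 1 := by
  have key : ∀ k : ℕ, ∀ x ∈ Q, x ^ (2 ^ k) = 1 → Commute x d := by
    intro k
    induction k with
    | zero =>
      intro x _ h
      rw [pow_zero, pow_one] at h
      rw [h]; exact Commute.one_left d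
    | succ k ih =>
      intro x hx h
      have hsq : Commute (x * x) d := ih _ (mul_mem hx hx) (by
        rw [← pow_two, ← pow_mul, ← pow_succ']; exact h)
      set e := d * x * d⁻¹ * x⁻¹ with he
      have hy : d * x * d⁻¹ ∈ Q := hS.conj_mem d hd.1 x hx
      have hee : e * e = 1 := by
        have h1 : d * (x * x) * d⁻¹ = x * x := by rw [← hsq.eq, mul_inv_cancel_right]
        calc e * e = d * x * d⁻¹ * (x⁻¹ * (d * x * d⁻¹)) * x⁻¹ := by rw [he]; group
          _ = d * x * d⁻¹ * ((d * x * d⁻¹) * x⁻¹) * x⁻¹ := by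
              rw [hcomm x⁻¹ (inv_mem hx) _ hy]
          _ = d * (x * x) * d⁻¹ * (x * x)⁻¹ := by group
          _ = 1 := by rw [h1, mul_inv_cancel]
      have heE : e ∈ E := mem_E_of_sq hS F (mul_mem hy (inv_mem hx)) hee
      have hce : d * e * d⁻¹ = e := by rw [← (hE e heE).eq, mul_inv_cancel_right]
      have hiter : ∀ i : ℕ, d ^ i * x * (d ^ i)⁻¹ = e ^ i * x := by
        intro i
        induction i with
        | zero => simp
        | succ i ih =>
          calc d ^ (i + 1) * x * (d ^ (i + 1))⁻¹ = d * (d ^ i * x * (d ^ i)⁻¹) * d⁻¹ := by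
                rw [pow_succ']; group
            _ = (d * e * d⁻¹) ^ i * (d * x * d⁻¹) := by
                rw [ih, conj_pow]; group
            _ = e ^ i * (e * x) := by rw [hce, he, inv_mul_cancel_right]
            _ = _ := by rw [pow_succ]; exact (mul_assoc _ _ _).symm
      have ho : Odd (orderOf d) := hS.odd_card.of_dvd_nat (by
        rw [← Subgroup.orderOf_mk d hd]; exact orderOf_dvd_natCard _)
      have h1 := hiter (orderOf d)
      rw [pow_orderOf_eq_one, one_mul, inv_one, mul_one, right_eq_mul] at h1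
      obtain ⟨m, hm⟩ := ho
      rw [hm, pow_succ, pow_mul, pow_two, hee, one_pow, one_mul] at h1
      have h3 : d * x * d⁻¹ = x := by
        rw [← mul_inv_eq_one]; exact h1
      exact ((mul_inv_eq_iff_eq_mul.1 h3).symm : x * d = d * x)
  refine eq_of_smul_eq_smul fun c : Ω => ?_
  rw [one_smul]
  by_cases hc : c = a
  · rw [hc]; exact hd.1
  obtain ⟨x, hx, rfl⟩ := exists_q hS hc
  obtain ⟨k, hk⟩ := hQ2 ⟨x, hx⟩
  have hxd := key k x hx (congrArg Subtype.val hk)
  rw [smul_smul, ← hxd.eq, mul_smul, hd.2]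

/-- An element of `D` fixing an involution and commuting with `g` is trivial. -/
theorem eq_one_of_commute [FaithfulSMul G Ω] (hQ2 : IsPGroup 2 Q)
    (hcomm : ∀ x ∈ Q, ∀ y ∈ Q, x * y = y * x) {d e : G} (hd : d ∈ D) (he : e ∈ E) (he1 : e ≠ 1)
    (hed : Commute e d) (hdg : Commute d g) : d = 1 := by
  refine cent_E_eq_one hS F hQ2 hcomm hd fun e' he' => ?_
  by_cases h1 : e' = 1
  · rw [h1]; exact Commute.one_left d
  obtain ⟨k, hk, rfl⟩ := F.move e he he1 e' he' h1
  obtain ⟨i, rfl⟩ := Subgroup.mem_zpowers_iff.1 hk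
  have hki : Commute (g ^ i) d := (hdg.zpow_right i).symm
  exact (hki.mul_left hed).mul_left hki.inv_left

theorem exists_kv (hs : s ∈ E) (hs1 : s ≠ 1) {d : G} (hd : d ∈ D) :
    ∃ k ∈ Subgroup.zpowers g, ∃ v ∈ D ⊓ Subgroup.centralizer ({s} : Set G), d = k * v := by
  obtain ⟨k, hk, he⟩ := F.move s hs hs1 (d * s * d⁻¹) (F.E_conj d hd s hs)
    fun h => hs1 (conj_eq_one_iff.1 h)
  refine ⟨k, hk, k⁻¹ * d, Subgroup.mem_inf.2 ⟨mul_mem (inv_mem (F.zpowers_le_D hk)) hd,
    Subgroup.mem_centralizer_singleton_iff.2 ?_⟩, (mul_inv_cancel_left k d).symm⟩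
  calc k⁻¹ * d * s = k⁻¹ * (d * s * d⁻¹) * d := by group
    _ = k⁻¹ * (k * s * k⁻¹) * d := by rw [he]
    _ = s * (k⁻¹ * d) := by group

theorem kv_unique (hs : s ∈ E) (hs1 : s ≠ 1) {k k' v v' : G} (hk : k ∈ Subgroup.zpowers g)
    (hk' : k' ∈ Subgroup.zpowers g) (hv : v ∈ Subgroup.centralizer ({s} : Set G))
    (hv' : v' ∈ Subgroup.centralizer ({s} : Set G)) (h : k * v = k' * v') : k = k' ∧ v = v' := by
  have h1 : k'⁻¹ * k = v' * v⁻¹ := by
    rw [eq_mul_inv_iff_mul_eq, mul_assoc, h, inv_mul_cancel_left]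
  have h2 : k'⁻¹ * k = 1 := by
    refine F.regular _ (mul_mem (inv_mem hk') hk) s hs hs1 ?_
    have : k'⁻¹ * k ∈ Subgroup.centralizer ({s} : Set G) := h1 ▸ mul_mem hv' (inv_mem hv)
    rw [Subgroup.mem_centralizer_singleton_iff.1 this, mul_inv_cancel_right]
  refine ⟨(inv_mul_eq_one.1 h2).symm, ?_⟩
  rw [h1, mul_inv_eq_one] at h2
  exact h2.symm

theorem card_D_eq (hs : s ∈ E) (hs1 : s ≠ 1) :
    Nat.card ↥D = (2 ^ n - 1) * Nat.card ↥(D ⊓ Subgroup.centralizer ({s} : Set G)) := by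
  rw [← F.orderOf_g, ← Nat.card_zpowers, ← Nat.card_prod]
  refine (Nat.card_eq_of_bijective (fun p : ↥(Subgroup.zpowers g) ×
    ↥(D ⊓ Subgroup.centralizer ({s} : Set G)) => (⟨(p.1 : G) * p.2,
      mul_mem (F.zpowers_le_D p.1.2) (Subgroup.mem_inf.1 p.2.2).1⟩ : ↥D)) ⟨?_, ?_⟩).symm
  · rintro ⟨k, v⟩ ⟨k', v'⟩ e
    obtain ⟨e1, e2⟩ := kv_unique hS F hs hs1 k.2 k'.2 (Subgroup.mem_inf.1 v.2).2
      (Subgroup.mem_inf.1 v'.2).2 (congrArg Subtype.val e)
    exact Prod.ext (Subtype.ext e1) (Subtype.ext e2)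
  · rintro ⟨d, hd⟩
    obtain ⟨k, hk, v, hv, rfl⟩ := exists_kv hS F hs hs1 hd
    exact ⟨(⟨k, hk⟩, ⟨v, hv⟩), rfl⟩

theorem card_cent_eq (hs : s ∈ E) (hs1 : s ≠ 1) :
    Nat.card ↥(Subgroup.centralizer ({s} : Set G)) =
      Nat.card Q * Nat.card ↥(D ⊓ Subgroup.centralizer ({s} : Set G)) := by
  have hQC : ∀ x ∈ Q, x ∈ Subgroup.centralizer ({s} : Set G) := fun x hx =>
    Subgroup.mem_centralizer_singleton_iff.2 (F.E_comm s hs x hx).symm.eq
  rw [← Nat.card_prod]
  refine (Nat.card_eq_of_bijective (fun p : ↥Q × ↥(D ⊓ Subgroup.centralizer ({s} : Set G)) =>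
    (⟨(p.1 : G) * p.2, mul_mem (hQC _ p.1.2) (Subgroup.mem_inf.1 p.2.2).2⟩ :
      ↥(Subgroup.centralizer ({s} : Set G)))) ⟨?_, ?_⟩).symm
  · rintro ⟨x, d⟩ ⟨x', d'⟩ e
    obtain ⟨e1, e2⟩ := eq_of_decomp hS x.2 x'.2 (Subgroup.mem_inf.1 d.2).1
      (Subgroup.mem_inf.1 d'.2).1 (congrArg Subtype.val e)
    exact Prod.ext (Subtype.ext e1) (Subtype.ext e2)
  · rintro ⟨h, hh⟩
    have hsa : s • a = a := hS.le (F.E_le hs)
    have hfix : s • (h • a) = h • a := by
      rw [smul_smul, ← Subgroup.mem_centralizer_singleton_iff.1 hh, mul_smul, hsa]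
    have hha : h • a = a := eq_a_of_fixed hS (F.E_le hs) hs1 hfix
    obtain ⟨x, hx, d, hd, rfl⟩ := exists_decomp hS (show h ∈ H from hha)
    refine ⟨(⟨x, hx⟩, ⟨d, Subgroup.mem_inf.2 ⟨hd, ?_⟩⟩), rfl⟩
    simpa using mul_mem (inv_mem (hQC x hx)) hh

/-- If some element of `Q` has order `2 ^ j` then `q ^ j ≤ |Q|`. -/
theorem pow_le_card (hcomm : ∀ x ∈ Q, ∀ y ∈ Q, x * y = y * x) {x : G} (hx : x ∈ Q) {j : ℕ}
    (hj : orderOf x = 2 ^ j) : (2 ^ n) ^ j ≤ Nat.card Q := by
  let _ : CommGroup Q := { (inferInstance : Group Q) with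
    mul_comm := fun u w => Subtype.ext (hcomm u u.2 w w.2) }
  have hE : Nat.card (powKer Q 1) = 2 ^ n := by
    rw [← F.card_E]
    exact Nat.card_congr
      { toFun := fun y => ⟨((y : Q) : G), mem_E_of_sq hS F (y : Q).2 (by
          have h := congrArg Subtype.val (mem_powKer.1 y.2)
          rw [SubgroupClass.coe_pow, pow_one, pow_two] at h
          exact h)⟩
        invFun := fun y => ⟨⟨y, F.E_le y.2⟩, mem_powKer.2 (Subtype.ext (by
          rw [SubgroupClass.coe_pow, pow_one, pow_two]; exact sq_of_mem_E hS F y.2))⟩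
        left_inv := fun y => rfl
        right_inv := fun y => rfl }
  rw [← hE]
  refine (pow_le_card_powKer (A := Q) fun e he i hi => ?_).trans
    (Nat.le_of_dvd Nat.card_pos (Subgroup.card_subgroup_dvd_card _))
  by_cases he1 : (e : G) = 1
  · exact ⟨1, by rw [one_pow]; exact (Subtype.ext he1).symm⟩
  set z := x ^ (2 ^ (j - 1)) with hz
  have hz2 : z * z = 1 := by
    rw [← pow_two, hz, ← pow_mul, ← pow_succ, show j - 1 + 1 = j by omega, ← hj,
      pow_orderOf_eq_one]
  have hz1 : z ≠ 1 := fun h => by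
    have := orderOf_dvd_of_pow_eq_one h
    rw [hj] at this
    have := (Nat.pow_dvd_pow_iff_le_right (by norm_num : 1 < 2)).1 this
    omega
  obtain ⟨k, hk, hke⟩ := F.move z (mem_E_of_sq hS F (pow_mem hx _) hz2) hz1 e
    (mem_E_of_sq hS F e.2 (congrArg Subtype.val he)) he1
  refine ⟨⟨k * x ^ (2 ^ (j - 1 - i)) * k⁻¹, hS.conj_mem k (F.zpowers_le_D hk).1 _ (pow_mem hx _)⟩,
    Subtype.ext ?_⟩
  rw [SubgroupClass.coe_pow]
  show (k * x ^ (2 ^ (j - 1 - i)) * k⁻¹) ^ (2 ^ i) = (e : G)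
  rw [conj_pow, ← pow_mul, ← pow_add, show j - 1 - i + i = j - 1 by omega]
  exact hke

end Cfsg.Agent.Involutions.RankOne.Char.AbelianCase
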