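import Cfsg.Agent.Lib.Involutions.RankOne.Char.AbelianCount
import Cfsg.Agent.Lib.Involutions.RankOne.Char.Induced
import Cfsg.Agent.Lib.Involutions.RankOne.Char.Mixed

/-!
# Pairs of monomial characters when `C_D(s)` is not trivial
-/

set_option autoImplicit false
set_option linter.unusedSectionVars false
set_option linter.style.haveILetI false

namespace Cfsg.Agent.Involutions.RankOne.Char.AbelianCase

open MulAction Involutions.Basic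
open scoped IsMulCommutative
open Cfsg.Agent.Characters

universe u v

variable {G : Type u} {Ω : Type v} [Group G] [MulAction G Ω] {a : Ω} {t : G}
  {Q E : Subgroup G} {g : G} {n : ℕ} {s w : G}

local notation "H" => MulAction.stabilizer G a
local notation "D" => (MulAction.stabilizer G a ⊓ MulAction.stabilizer G (t • a))

/-- `f` is the product of `φ` and `ν` on `Q V`. -/
def TSpec (a : Ω) (Q V : Subgroup G) (φ : Q →* ℂˣ) (ν : V →* ℂˣ)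
    (f : ((Q ⊔ V).subgroupOf (MulAction.stabilizer G a)) →* ℂˣ) : Prop :=
  ∀ (h : (Q ⊔ V).subgroupOf (MulAction.stabilizer G a)) (x : Q) (v : V),
    ((h : MulAction.stabilizer G a) : G) = (x : G) * v → f h = φ x * ν v

variable [Fintype G] [Fintype (MulAction.stabilizer G a)] (hS : Cfsg.IsRankOneSetup G Ω a t Q)
  {V : Subgroup G} (hV : V ≤ MulAction.stabilizer G a ⊓ MulAction.stabilizer G (t • a))
include hS hV

theorem mem_T {h : H} : h ∈ (Q ⊔ V).subgroupOf H ↔ ∃ x : Q, ∃ v : V, (h : G) = (x : G) * v := by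
  have hn : V ≤ Subgroup.normalizer (Q : Set G) := Subgroup.le_normalizer_iff.2 fun v hv x hx =>
    hS.conj_mem v (hV hv).1 x hx
  rw [Subgroup.mem_subgroupOf, ← SetLike.mem_coe,
    Subgroup.coe_mul_of_right_le_normalizer_left _ _ hn]
  exact ⟨fun ⟨x, hx, v, hv, e⟩ => ⟨⟨x, hx⟩, ⟨v, hv⟩, e.symm⟩,
    fun ⟨x, v, e⟩ => ⟨x, x.2, v, v.2, e.symm⟩⟩

theorem subgroupOf_le_T : Q.subgroupOf H ≤ (Q ⊔ V).subgroupOf H :=
  fun _ hx => Subgroup.mem_subgroupOf.2 (le_sup_left (α := Subgroup G) (Subgroup.mem_subgroupOf.1 hx))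

theorem card_T : Nat.card ((Q ⊔ V).subgroupOf H) = Nat.card Q * Nat.card V := by
  rw [← Nat.card_prod]
  refine (Nat.card_eq_of_bijective (fun p : ↥Q × ↥V =>
    (⟨⟨(p.1 : G) * p.2, mul_mem (hS.le p.1.2) (hV p.2.2).1⟩,
      (mem_T hS hV).2 ⟨p.1, p.2, rfl⟩⟩ : ↥((Q ⊔ V).subgroupOf H))) ⟨?_, ?_⟩).symm
  · rintro ⟨x, v⟩ ⟨x', v'⟩ e
    obtain ⟨e1, e2⟩ := eq_of_decomp hS x.2 x'.2 (hV v.2) (hV v'.2)
      (congrArg (fun h : ↥((Q ⊔ V).subgroupOf H) => ((h : H) : G)) e)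
    exact Prod.ext (Subtype.ext e1) (Subtype.ext e2)
  · rintro ⟨h, hh⟩
    obtain ⟨x, v, e⟩ := (mem_T hS hV).1 hh
    exact ⟨(x, v), Subtype.ext (Subtype.ext e.symm)⟩

theorem index_T : ((Q ⊔ V).subgroupOf H).index * Nat.card V = Nat.card ↥D := by
  have h := ((Q ⊔ V).subgroupOf H).card_mul_index
  rw [card_T hS hV, card_stabilizer hS, mul_assoc, mul_comm (Nat.card V)] at h
  exact Nat.eq_of_mul_eq_mul_left Nat.card_pos h

theorem exists_tHom {φ : Q →* ℂˣ} (hfix : ∀ v ∈ V, FixedBy Q v φ) (ν : V →* ℂˣ) :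
    ∃ f, TSpec a Q V φ ν f := by
  classical
  choose x v e using fun h : (Q ⊔ V).subgroupOf H => (mem_T hS hV).1 h.2
  have huniq : ∀ (h : (Q ⊔ V).subgroupOf H) (y : Q) (u : V),
      ((h : H) : G) = (y : G) * u → x h = y ∧ v h = u := fun h y u he => by
    obtain ⟨e1, e2⟩ := eq_of_decomp hS (x h).2 y.2 (hV (v h).2) (hV u.2) ((e h).symm.trans he)
    exact ⟨Subtype.ext e1, Subtype.ext e2⟩
  refine ⟨MonoidHom.mk' (fun h => φ (x h) * ν (v h)) fun h h' => ?_, fun h y u he => by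
    obtain ⟨e1, e2⟩ := huniq h y u he
    show φ (x h) * ν (v h) = _
    rw [e1, e2]⟩
  let z : Q := ⟨(v h : G) * x h' * (v h : G)⁻¹, hS.conj_mem _ (hV (v h).2).1 _ (x h').2⟩
  obtain ⟨e1, e2⟩ := huniq (h * h') (x h * z) (v h * v h') (by
    show ((h : H) : G) * ((h' : H) : G) = _
    rw [e h, e h']
    simp only [Subgroup.coe_mul, z]
    group)
  rw [e1, e2, map_mul, map_mul, hfix _ (v h).2 (x h') z rfl, mul_mul_mul_comm]

variable {φ : Q →* ℂˣ} {ν : V →* ℂˣ}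
  {f : ((Q ⊔ V).subgroupOf (MulAction.stabilizer G a)) →* ℂˣ} (hf : TSpec a Q V φ ν f)
include hf

theorem apply_Q (h : (Q ⊔ V).subgroupOf H) (x : Q) (e : ((h : H) : G) = x) : f h = φ x := by
  rw [hf h x 1 (by rw [e, Subgroup.coe_one, mul_one]), map_one, mul_one]

theorem isIrr_T (F : Frame a t Q E g n) (hs : s ∈ Cfsg.involutionsIn (MulAction.stabilizer G a : Set G))
    (hVs : D ⊓ Subgroup.centralizer ({s} : Set G) ≤ V) (hfix : ∀ v ∈ V, FixedBy Q v φ)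
    (hcomm : ∀ x ∈ Q, ∀ y ∈ Q, x * y = y * x) (hφ : φ ≠ 1) :
    Cfsg.IsIrrCharacter H (Cfsg.indFun ((Q ⊔ V).subgroupOf H) fun h => (f h : ℂ)) := by
  haveI := normal_subgroupOf hS
  refine isIrr_indFun (subgroupOf_le_T hS hV) f fun h hh => ?_
  obtain ⟨y, hy, d, hd, hyd⟩ := exists_decomp hS h.2
  obtain ⟨k, hk, v, hv, rfl⟩ := exists_kv hS F ((F.mem_E s).2 (Or.inr hs)) hs.2.1 hd
  have hkfix : FixedBy Q k φ := by
    intro x x' hx'
    let x₁ : Q := ⟨v⁻¹ * x * v, by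
      simpa using hS.conj_mem v⁻¹ (inv_mem (Subgroup.mem_inf.1 hv).1.1) x x.2⟩
    have h1 : φ x₁ = φ x := (hfix v (hVs hv) x₁ x (by simp [x₁, mul_assoc])).symm
    let m : Q.subgroupOf H := ⟨⟨x₁, hS.le x₁.2⟩, Subgroup.mem_subgroupOf.2 x₁.2⟩
    let m' : Q.subgroupOf H := ⟨⟨x', hS.le x'.2⟩, Subgroup.mem_subgroupOf.2 x'.2⟩
    have h2 := hh m m' (by
      refine Subtype.ext ?_
      show (x' : G) = (h : G) * (x₁ : G) * (h : G)⁻¹
      rw [hyd, hx']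
      have hc := hcomm y hy (k * x * k⁻¹) (hS.conj_mem k (F.zpowers_le_D hk).1 x x.2)
      calc k * x * k⁻¹ = y * (k * x * k⁻¹) * y⁻¹ := by rw [hc, mul_inv_cancel_right]
        _ = _ := by simp only [x₁]; group)
    rw [← h1, ← apply_Q hS hV hf (Subgroup.inclusion (subgroupOf_le_T hS hV) m') x' rfl,
      ← apply_Q hS hV hf (Subgroup.inclusion (subgroupOf_le_T hS hV) m) x₁ rfl]
    exact h2
  have hk1 : k = 1 := by
    by_contra hne
    exact hφ (F.hom_eq_one le_rfl (fun x hx => hS.conj_mem g F.g_mem_D.1 x hx) hk hne φ hkfix)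
  exact (mem_T hS hV).2 ⟨⟨y, hy⟩, ⟨v, hVs hv⟩, by rw [hyd, hk1, one_mul]⟩

theorem T_at_one : Cfsg.indFun ((Q ⊔ V).subgroupOf H) (fun h => (f h : ℂ)) 1 =
    (((Q ⊔ V).subgroupOf H).index : ℂ) := indFun_one_eq f

theorem T_at_Q {s' : H} (hs' : (s' : G) ∈ Q) :
    (Nat.card V : ℂ) * Cfsg.indFun ((Q ⊔ V).subgroupOf H) (fun h => (f h : ℂ)) s' =
      indQ a Q (fun x => (φ x : ℂ)) s' := by
  classical
  apply mul_left_cancel₀ (Nat.cast_ne_zero.2 (Nat.card_pos (α := Q)).ne' : (Nat.card Q : ℂ) ≠ 0)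
  rw [← mul_assoc, ← Nat.cast_mul, ← card_T hS hV, CharTheory.IndBasic.card_mul_indFun, indQ,
    ← card_subgroupOf hS, CharTheory.IndBasic.card_mul_indFun]
  refine Finset.sum_congr rfl fun x _ => ?_
  have hm : x⁻¹ * s' * x ∈ Q.subgroupOf H := (normal_subgroupOf hS).conj_mem' s' hs' x
  rw [CharTheory.IndBasic.extendByZero_of_mem _ _ (subgroupOf_le_T hS hV hm),
    CharTheory.IndBasic.extendByZero_of_mem _ _ hm,
    apply_Q hS hV hf _ ⟨((x⁻¹ * s' * x : H) : G), Subgroup.mem_subgroupOf.1 hm⟩ rfl]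

/-- The value at an element of `V` normalised only by `V` in `⟨g⟩ V`. -/
theorem T_at_V (F : Frame a t Q E g n) (hs : s ∈ Cfsg.involutionsIn (MulAction.stabilizer G a : Set G))
    (hVs : V = D ⊓ Subgroup.centralizer ({s} : Set G)) (hw : w ∈ V)
    (hwK : ∀ k ∈ Subgroup.zpowers g, Commute w k → k = 1) (hwH : w ∈ H) :
    Cfsg.indFun ((Q ⊔ V).subgroupOf H) (fun h => (f h : ℂ)) ⟨w, hwH⟩ = (ν ⟨w, hw⟩ : ℂ) := by
  classical
  have hwT : (⟨w, hwH⟩ : H) ∈ (Q ⊔ V).subgroupOf H :=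
    (mem_T hS hV).2 ⟨1, ⟨w, hw⟩, (one_mul w).symm⟩
  apply mul_left_cancel₀ (natCard_ne_zero (G := ((Q ⊔ V).subgroupOf H)))
  rw [CharTheory.IndBasic.card_mul_indFun]
  have hval : ∀ x : H, Cfsg.extendByZero ((Q ⊔ V).subgroupOf H) (fun h => (f h : ℂ))
      (x⁻¹ * ⟨w, hwH⟩ * x) = if x ∈ (Q ⊔ V).subgroupOf H then (ν ⟨w, hw⟩ : ℂ) else 0 := by
    intro x
    by_cases hx : x ∈ (Q ⊔ V).subgroupOf H
    · rw [if_pos hx, CharTheory.IndBasic.extendByZero_of_mem _ _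
        (mul_mem (mul_mem (inv_mem hx) hwT) hx)]
      congr 1
      rw [show (⟨x⁻¹ * ⟨w, hwH⟩ * x, mul_mem (mul_mem (inv_mem hx) hwT) hx⟩ :
          (Q ⊔ V).subgroupOf H) = ⟨x, hx⟩⁻¹ * ⟨_, hwT⟩ * ⟨x, hx⟩ from rfl, map_mul, map_mul,
        map_inv, mul_comm (f ⟨x, hx⟩)⁻¹, inv_mul_cancel_right,
        hf _ 1 ⟨w, hw⟩ (one_mul w).symm, map_one, one_mul]
    rw [if_neg hx, CharTheory.IndBasic.extendByZero_of_notMem]
    intro hm
    apply hx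
    obtain ⟨y, hy, d, hd, hyd⟩ := exists_decomp hS x.2
    have hsE : s ∈ E := (F.mem_E s).2 (Or.inr hs)
    obtain ⟨k, hk, v, hv, rfl⟩ := exists_kv hS F hsE hs.2.1 hd
    obtain ⟨y', v', he⟩ := (mem_T hS hV).1 hm
    have hkH : k ∈ H := (F.zpowers_le_D hk).1
    have hd' : v⁻¹ * (k⁻¹ * w * k) * v ∈ D := mul_mem (mul_mem (inv_mem (Subgroup.mem_inf.1 hv).1)
      (mul_mem (mul_mem (inv_mem (F.zpowers_le_D hk)) (hV hw)) (F.zpowers_le_D hk)))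
      (Subgroup.mem_inf.1 hv).1
    have hq : (k * v)⁻¹ * (y⁻¹ * (w * y * w⁻¹)) * (k * v) ∈ Q := by
      simpa using hS.conj_mem (k * v)⁻¹ (inv_mem hd.1) _
        (mul_mem (inv_mem hy) (hS.conj_mem w hwH y hy))
    obtain ⟨-, e2⟩ := eq_of_decomp hS hq y'.2 hd' (hV v'.2) (by
      rw [← he]
      show _ = (x : G)⁻¹ * w * (x : G)
      rw [hyd]; group)
    have hmemV : v⁻¹ * (k⁻¹ * w * k) * v ∈ D ⊓ Subgroup.centralizer ({s} : Set G) := by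
      rw [← hVs, e2]; exact v'.2
    have hkw : k⁻¹ * w * k * w⁻¹ ∈ Subgroup.centralizer ({s} : Set G) := by
      have h1 := mul_mem (mul_mem (mul_mem hv hmemV) (inv_mem hv)) (inv_mem (hVs ▸ hw))
      simpa [mul_assoc] using (Subgroup.mem_inf.1 h1).2
    obtain ⟨i, hi⟩ := F.twoPow w (hV hw)
    have hkK : k⁻¹ * w * k * w⁻¹ ∈ Subgroup.zpowers g := by
      obtain ⟨j, rfl⟩ := Subgroup.mem_zpowers_iff.1 hk
      rw [mul_assoc (g ^ j)⁻¹ w, mul_assoc (g ^ j)⁻¹ (w * g ^ j), ← conj_zpow, hi]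
      exact mul_mem (inv_mem (Subgroup.zpow_mem_zpowers g j))
        (zpow_mem (pow_mem (Subgroup.mem_zpowers g) _) j)
    have h1 : k⁻¹ * w * k * w⁻¹ = 1 := F.regular _ hkK s hsE hs.2.1 (by
      rw [Subgroup.mem_centralizer_singleton_iff.1 hkw, mul_inv_cancel_right])
    have hk1 : k = 1 := hwK k hk (by
      rw [mul_inv_eq_one, mul_assoc, inv_mul_eq_iff_eq_mul] at h1
      exact h1)
    exact (mem_T hS hV).2 ⟨⟨y, hy⟩, ⟨v, hVs ▸ hv⟩, by rw [hyd, hk1, one_mul]⟩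
  simp only [hval]
  rw [← Finset.sum_filter, Finset.sum_const, nsmul_eq_mul, Nat.card_eq_fintype_card,
    Fintype.card_subtype]

omit hf in
/-- Two monomial characters agreeing on `V` differ by a function supported off `D`. -/
theorem supp_pair {φ' : Q →* ℂˣ}
    {f' : ((Q ⊔ V).subgroupOf (MulAction.stabilizer G a)) →* ℂˣ} (hf : TSpec a Q V φ ν f)
    (hf' : TSpec a Q V φ' ν f') (hfix : ∀ v ∈ V, FixedBy Q v φ) (hfix' : ∀ v ∈ V, FixedBy Q v φ')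
    (hcomm : ∀ x ∈ Q, ∀ y ∈ Q, x * y = y * x) :
    Supp a (Cfsg.indFun ((Q ⊔ V).subgroupOf H) (fun h => (f h : ℂ)) -
      Cfsg.indFun ((Q ⊔ V).subgroupOf H) fun h => (f' h : ℂ)) := by
  rw [← indFun_sub]
  refine supp_indFun _ _ fun h ⟨c, hc, hfixc⟩ => ?_
  obtain ⟨x, v, e⟩ := (mem_T hS hV).1 h.2
  obtain ⟨y, hy, rfl⟩ := exists_q hS hc
  have hvy : (v : G) * y * (v : G)⁻¹ ∈ Q := hS.conj_mem v (hV v.2).1 y hy
  have hq : y⁻¹ * x * ((v : G) * y * (v : G)⁻¹) ∈ Q := mul_mem (mul_mem (inv_mem hy) x.2) hvy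
  have hD : y⁻¹ * x * ((v : G) * y * (v : G)⁻¹) * v ∈ D := by
    rw [show y⁻¹ * x * ((v : G) * y * (v : G)⁻¹) * v = y⁻¹ * ((h : H) : G) * y by rw [e]; group]
    refine Subgroup.mem_inf.2 ⟨mul_mem (mul_mem (inv_mem (hS.le hy)) (h : H).2) (hS.le hy), ?_⟩
    show (y⁻¹ * ((h : H) : G) * y) • (t • a) = t • a
    rw [mul_smul, mul_smul, hfixc, inv_smul_smul]
  have h1 : y⁻¹ * x * ((v : G) * y * (v : G)⁻¹) = 1 := inf_D hS hq (by
    have := mul_mem hD (inv_mem (hV v.2))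
    rwa [mul_inv_cancel_right] at this)
  have hx : x = ⟨y, hy⟩ * (⟨_, hvy⟩ : Q)⁻¹ := Subtype.ext (by
    show (x : G) = y * ((v : G) * y * (v : G)⁻¹)⁻¹
    rw [eq_mul_inv_iff_mul_eq]
    rw [mul_assoc, inv_mul_eq_one] at h1
    exact h1.symm)
  have hone : ∀ ψ : Q →* ℂˣ, FixedBy Q (v : G) ψ → ψ x = 1 := fun ψ hψ => by
    rw [hx, map_mul, map_inv, hψ ⟨y, hy⟩ ⟨_, hvy⟩ rfl, mul_inv_cancel]
  simp only [Pi.sub_apply, hf h x v e, hf' h x v e, hone φ (hfix v v.2), hone φ' (hfix' v v.2),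
    sub_self]

omit hf in
/-- The sum over the second factor vanishes on `D`. -/
theorem sum_T_eq_zero [Fintype (V →* ℂˣ)] [IsMulCommutative V]
    (f : (V →* ℂˣ) → ((Q ⊔ V).subgroupOf (MulAction.stabilizer G a)) →* ℂˣ)
    (hf : ∀ ν, TSpec a Q V φ ν (f ν)) {d : H} (hd : (d : G) ∈ D) (hd1 : d ≠ 1) :
    ∑ ν, Cfsg.indFun ((Q ⊔ V).subgroupOf H) (fun h => (f ν h : ℂ)) d = 0 := by
  classical
  apply (mul_eq_zero.1 _).resolve_left (natCard_ne_zero (G := ((Q ⊔ V).subgroupOf H)))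
  simp only [Finset.mul_sum, CharTheory.IndBasic.card_mul_indFun]
  rw [Finset.sum_comm]
  refine Finset.sum_eq_zero fun x _ => ?_
  by_cases hm : x⁻¹ * d * x ∈ (Q ⊔ V).subgroupOf H
  swap
  · exact Finset.sum_eq_zero fun ν _ => CharTheory.IndBasic.extendByZero_of_notMem _ _ hm
  obtain ⟨y, v, e⟩ := (mem_T hS hV).1 hm
  have hv1 : v ≠ 1 := by
    rintro rfl
    refine hd1 (Subtype.ext (inf_D hS ?_ hd))
    rw [Subgroup.coe_one, mul_one] at e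
    have := hS.conj_mem (x : G) x.2 (y : G) y.2
    rw [← e] at this
    simpa [mul_assoc] using this
  haveI : NeZero (Monoid.exponent V) := ⟨Monoid.exponent_ne_zero_of_finite⟩
  obtain ⟨ν₀, hν₀⟩ := CommGroup.exists_apply_ne_one_of_hasEnoughRootsOfUnity V ℂ hv1
  have hsum : ∑ ν : V →* ℂˣ, (ν v : ℂ) = 0 := by
    have h1 : ∑ ν : V →* ℂˣ, ((ν₀ * ν) v : ℂ) = ∑ ν : V →* ℂˣ, (ν v : ℂ) :=
      Fintype.sum_equiv (Equiv.mulLeft ν₀) _ _ fun _ => rfl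
    simp only [MonoidHom.mul_apply, Units.val_mul, ← Finset.mul_sum] at h1
    by_contra hne
    exact hν₀ (Units.ext ((mul_eq_right₀ hne).1 h1))
  simp only [CharTheory.IndBasic.extendByZero_of_mem _ _ hm]
  rw [Finset.sum_congr rfl (g := fun ν : V →* ℂˣ => (φ y : ℂ) * (ν v : ℂ)) fun ν _ => by
    rw [hf ν ⟨_, hm⟩ y v e, Units.val_mul], ← Finset.mul_sum, hsum, mul_zero]

omit hf

variable [Fintype (Cfsg.IrrCharacter G)] (F : Frame a t Q E g n)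
  (h2 : ∃ x y : G, x ≠ 1 ∧ y ≠ 1 ∧ x ≠ y ∧ x * x = 1 ∧ y * y = 1 ∧ x * y = y * x)
include F h2

/-- Families of constant value at `s`, compared with the pairs. -/
theorem mixed_value (hs : s ∈ Cfsg.involutionsIn (MulAction.stabilizer G a : Set G))
    (hcomm : ∀ x ∈ Q, ∀ y ∈ Q, x * y = y * x)
    (hVs : V = D ⊓ Subgroup.centralizer ({s} : Set G)) [IsMulCommutative V] (hw : w ∈ V) (hw1 : w ≠ 1)
    (hgen : Subgroup.zpowers w = V) (hwK : ∀ k ∈ Subgroup.zpowers g, Commute w k → k = 1)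
    {φ₁ : Q →* ℂˣ} (hfix : ∀ v ∈ V, FixedBy Q v φ₁) (hE1 : φ₁.comp (Subgroup.inclusion F.E_le) ≠ 1)
    (hroot : ∃ y ∈ Q, y * y = s)
    (B : Finset (Cfsg.IrrCharacter H)) (e : ℤ)
    (μ : Cfsg.IrrCharacter H → Cfsg.IrrCharacter G) (hB : Coh a B e μ)
    (hsrc : ∀ x ∈ B, ∃ φ, Reg a t Q φ ∧ (x : H → ℂ) = indQ a Q fun y => (φ y : ℂ))
    (hconst : ∀ x ∈ B, ∀ y ∈ B, (x : H → ℂ) ⟨s, hs.1⟩ = (y : H → ℂ) ⟨s, hs.1⟩) :
    ∀ x ∈ B, Pval a s (μ x : G → ℂ) ^ 2 =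
      ((Nat.card ↥(D ⊓ Subgroup.centralizer ({s} : Set G)) * 2 ^ n : ℕ) : ℂ) ^ 2 := by
  classical
  haveI := finite_hom V
  haveI := Fintype.ofFinite (V →* ℂˣ)
  haveI : NeZero (Monoid.exponent V) := ⟨Monoid.exponent_ne_zero_of_finite⟩
  have hcardι : Fintype.card (V →* ℂˣ) = Nat.card V := by
    rw [← Nat.card_eq_fintype_card, CommGroup.card_monoidHom_of_hasEnoughRootsOfUnity]
  have hsE : s ∈ E := (F.mem_E s).2 (Or.inr hs)
  set m : ℂ := (((2 : ℕ) ^ n - 1 : ℕ) : ℂ) with hm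
  set φ₂ : Q →* ℂˣ := φ₁ * φ₁ with hφ₂
  have hfix₂ : ∀ v ∈ V, FixedBy Q v φ₂ := fun v hv x y hy => by
    simp only [hφ₂, MonoidHom.mul_apply, hfix v hv x y hy]
  have hE2 : φ₂.comp (Subgroup.inclusion F.E_le) = 1 := MonoidHom.ext fun z => by
    simp only [MonoidHom.comp_apply, hφ₂, MonoidHom.mul_apply, ← map_mul, MonoidHom.one_apply]
    rw [show z * z = 1 from Subtype.ext (sq_of_mem_E hS F z.2), map_one, map_one]
  have hφ1 : φ₁ ≠ 1 := fun h => hE1 (by rw [h]; rfl)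
  have hφ₂1 : φ₂ ≠ 1 := by
    intro h
    apply hE1
    obtain ⟨y, hy, hys⟩ := hroot
    refine MonoidHom.ext fun z => ?_
    by_cases hz : z = 1
    · rw [hz, map_one, map_one]
    obtain ⟨k, hk, hks⟩ := F.move s hsE hs.2.1 z z.2 fun h => hz (Subtype.ext h)
    let y' : Q := ⟨k * y * k⁻¹, hS.conj_mem k (F.zpowers_le_D hk).1 y hy⟩
    have hz' : Subgroup.inclusion F.E_le z = y' * y' := Subtype.ext (by
      show (z : G) = k * y * k⁻¹ * (k * y * k⁻¹)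
      rw [← hks, ← hys]; group)
    have := DFunLike.congr_fun h y'
    rw [hφ₂, MonoidHom.mul_apply, ← map_mul] at this
    rw [MonoidHom.comp_apply, hz']
    exact this
  choose f₁ hf₁ using fun ν => exists_tHom hS hV hfix ν
  choose f₂ hf₂ using fun ν => exists_tHom hS hV hfix₂ ν
  let ξ₁ : (V →* ℂˣ) → Cfsg.IrrCharacter H := fun ν =>
    ⟨_, isIrr_T hS hV (hf₁ ν) F hs hVs.ge hfix hcomm hφ1⟩
  let ξ₂ : (V →* ℂˣ) → Cfsg.IrrCharacter H := fun ν =>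
    ⟨_, isIrr_T hS hV (hf₂ ν) F hs hVs.ge hfix₂ hcomm hφ₂1⟩
  have hV0 : (Nat.card V : ℂ) ≠ 0 := natCard_ne_zero
  have hsQ : s ∈ Q := F.E_le hsE
  have hval : ∀ ν, (ξ₁ ν : H → ℂ) ⟨s, hs.1⟩ = -1 ∧ (ξ₂ ν : H → ℂ) ⟨s, hs.1⟩ = m := by
    intro ν
    constructor
    · refine mul_left_cancel₀ hV0 ((T_at_Q hS hV (hf₁ ν) hsQ).trans ?_)
      rw [psi_at hS F hs, if_neg hE1, ← hVs]
    · refine mul_left_cancel₀ hV0 ((T_at_Q hS hV (hf₂ ν) hsQ).trans ?_)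
      rw [psi_at hS F hs, if_pos hE2, ← hVs]
  have hm1 : m ≠ -1 := by
    intro h
    have h' : m + 1 = 0 := by rw [h]; ring
    rw [hm, ← Nat.cast_add_one] at h'
    exact Nat.cast_ne_zero.2 (Nat.succ_ne_zero _) h'
  have hidx : (((Q ⊔ V).subgroupOf H).index : ℂ) = m := by
    refine congrArg Nat.cast (Nat.eq_of_mul_eq_mul_right (Nat.card_pos (α := V)) ?_)
    rw [index_T hS hV, card_D_eq hS F hsE hs.2.1, ← hVs]
  have hat1 : ∀ ν, (ξ₁ ν : H → ℂ) 1 = m ∧ (ξ₂ ν : H → ℂ) 1 = m := fun ν =>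
    ⟨(T_at_one hS hV (hf₁ ν)).trans hidx, (T_at_one hS hV (hf₂ ν)).trans hidx⟩
  have hwH : w ∈ H := (hV hw).1
  have hinj : ∀ (φ : Q →* ℂˣ) (f : (V →* ℂˣ) → ((Q ⊔ V).subgroupOf H) →* ℂˣ),
      (∀ ν, TSpec a Q V φ ν (f ν)) → ∀ ν ν', Cfsg.indFun _ (fun h => (f ν h : ℂ)) =
        Cfsg.indFun _ (fun h => (f ν' h : ℂ)) → ν = ν' := by
    intro φ f hf ν ν' h
    have h1 := congrFun h ⟨w, hwH⟩
    rw [T_at_V hS hV (hf ν) F hs hVs hw hwK hwH, T_at_V hS hV (hf ν') F hs hVs hw hwK hwH] at h1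
    refine MonoidHom.ext fun ⟨v, hv⟩ => ?_
    obtain ⟨i, rfl⟩ := Subgroup.mem_zpowers_iff.1 (hgen ▸ hv : v ∈ Subgroup.zpowers w)
    rw [show (⟨w ^ i, hv⟩ : V) = (⟨w, hw⟩ : V) ^ i from Subtype.ext (by push_cast; rfl), map_zpow,
      map_zpow, Units.ext h1]
  obtain ⟨x₀, hx₀⟩ : B.Nonempty := Finset.card_pos.1 (by have := hB.two_le; omega)
  -- pairs in the order adapted to `x₀`
  have key : ∀ (ξ ξ' : (V →* ℂˣ) → Cfsg.IrrCharacter H) (f' : (V →* ℂˣ) → _) (φ' : Q →* ℂˣ)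
      (c c' : ℂ), (∀ ν, TSpec a Q V φ' ν (f' ν)) →
      (∀ ν, (ξ' ν : H → ℂ) = Cfsg.indFun _ (fun h => (f' ν h : ℂ))) →
      (∀ ν, (ξ ν : H → ℂ) 1 = m ∧ (ξ' ν : H → ℂ) 1 = m) →
      (∀ ν, (ξ ν : H → ℂ) ⟨s, hs.1⟩ = c ∧ (ξ' ν : H → ℂ) ⟨s, hs.1⟩ = c') → c ≠ c' →
      Function.Injective ξ → (∀ ν, Supp a ((ξ ν : H → ℂ) - (ξ' ν : H → ℂ))) →
      (x₀ : H → ℂ) ⟨s, hs.1⟩ = (Nat.card V : ℂ) * c → (c - c') ^ 2 = (m + 1) ^ 2 →
      ∀ x ∈ B, Pval a s (μ x : G → ℂ) ^ 2 =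
        ((Nat.card ↥(D ⊓ Subgroup.centralizer ({s} : Set G)) * 2 ^ n : ℕ) : ℂ) ^ 2 := by
    intro ξ ξ' f' φ' c c' hf' hξ' hdeg hvals hne hξi hsuppP hx0 hsq
    have hξ'i : Function.Injective ξ' := fun ν ν' h => hinj φ' f' hf' ν ν' (by
      rw [← hξ', ← hξ', h])
    have hout : ∀ x ∈ B, ∀ ν, x ≠ ξ ν ∧ x ≠ ξ' ν := by
      intro x hx ν
      obtain ⟨φ, -, hφ⟩ := hsrc x hx
      have h1 : (x : H → ℂ) 1 = (Nat.card ↥D : ℂ) := by rw [hφ, indQ_one hS]; simp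
      have h2 : (Nat.card ↥D : ℂ) ≠ m := by
        rw [card_D_eq hS F hsE hs.2.1, hm, ← hVs]
        intro h
        have h' := Nat.cast_injective h
        rcases Nat.eq_zero_or_pos (2 ^ n - 1) with h0 | h0
        · have := F.three_le_q; omega
        · have := (Nat.mul_eq_left h0.ne').1 h'
          exact hw1 (Subgroup.mem_bot.1 (Subgroup.card_eq_one.1 this ▸ hw))
      exact ⟨fun h => h2 (by rw [← h1, h, (hdeg ν).1]), fun h => h2 (by rw [← h1, h, (hdeg ν).2])⟩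
    have hsum : Supp a ((x₀ : H → ℂ) - ∑ ν, (ξ' ν : H → ℂ)) := by
      refine supp_of_vanish hS (fun p q => ?_) fun d hd => ?_
      · simp only [Pi.sub_apply, Finset.sum_apply, irr_isClassFunction x₀ p q]
        congr 1
        exact Finset.sum_congr rfl fun ν _ => irr_isClassFunction (ξ' ν) p q
      obtain ⟨φ, -, hφ⟩ := hsrc x₀ hx₀
      simp only [Pi.sub_apply, Finset.sum_apply]
      rcases eq_or_ne d 1 with rfl | hd1
      · rw [hφ, indQ_one hS, Finset.sum_congr rfl fun ν _ => (hdeg ν).2, Finset.sum_const,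
          Finset.card_univ, hcardι, card_D_eq hS F hsE hs.2.1, hm, ← hVs]
        simp [mul_comm]
      · rw [hφ, indQ_eq_zero hS _ (fun hQ => hd1 (Subtype.ext (inf_D hS hQ ⟨d.2, hd⟩))),
          Finset.sum_congr rfl fun ν _ => congrFun (hξ' ν) d,
          sum_T_eq_zero hS hV f' hf' ⟨d.2, hd⟩ hd1, sub_zero]
    intro x hx
    have hmix := hB.mixed_P_sq hS hs h2 hconst ξ ξ'
      (Function.Injective.sumElim hξi hξ'i fun k l h => hne (by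
        rw [← (hvals k).1, h, (hvals l).2]))
      (fun ν => ⟨fun h => (hout _ h ν).1 rfl, fun h => (hout _ h ν).2 rfl⟩) hsuppP
      (K := c - c') (sub_ne_zero.2 hne) (fun ν => by rw [(hvals ν).1, (hvals ν).2]) hx₀ hsum
      (by rw [hx0, Finset.sum_congr rfl fun ν _ => (hvals ν).2, Finset.sum_const, Finset.card_univ,
        hcardι, nsmul_eq_mul]; ring) x hx
    rw [hmix, hcardι, mul_pow, hsq, ← hVs, hm, Nat.cast_sub Nat.one_le_two_pow]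
    push_cast
    ring
  obtain ⟨φ, -, hφ⟩ := hsrc x₀ hx₀
  have hx₀s : (x₀ : H → ℂ) ⟨s, hs.1⟩ = (Nat.card V : ℂ) *
      if φ.comp (Subgroup.inclusion F.E_le) = 1 then m else -1 := by
    rw [hφ, psi_at hS F hs, ← hVs]
  by_cases hφE : φ.comp (Subgroup.inclusion F.E_le) = 1
  · rw [if_pos hφE] at hx₀s
    exact key ξ₂ ξ₁ f₁ φ₁ m (-1) hf₁ (fun _ => rfl) (fun ν => ⟨(hat1 ν).2, (hat1 ν).1⟩)
      (fun ν => ⟨(hval ν).2, (hval ν).1⟩) hm1
      (fun ν ν' h => hinj φ₂ f₂ hf₂ ν ν' (congrArg Subtype.val h))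
      (fun ν => supp_pair hS hV (hf₂ ν) (hf₁ ν) hfix₂ hfix hcomm) hx₀s (by ring)
  · rw [if_neg hφE] at hx₀s
    exact key ξ₁ ξ₂ f₂ φ₂ (-1) m hf₂ (fun _ => rfl) hat1 hval hm1.symm
      (fun ν ν' h => hinj φ₁ f₁ hf₁ ν ν' (congrArg Subtype.val h))
      (fun ν => supp_pair hS hV (hf₁ ν) (hf₂ ν) hfix hfix₂ hcomm) hx₀s (by ring)

end Cfsg.Agent.Involutions.RankOne.Char.AbelianCase
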