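import Cfsg.Agent.Lib.Involutions.RankOne.Char.Isometry
import Cfsg.Agent.Lib.Characters.Coherence

/-!
# Integer coefficients of induced functions; coherent families
-/

set_option autoImplicit false
set_option linter.unusedSectionVars false

namespace Cfsg.Agent.Involutions.RankOne.Char

open MulAction
open Cfsg.Agent.Characters
open scoped ComplexConjugate

universe u v

variable {G : Type u} {Ω : Type v} [Group G] [MulAction G Ω] {a : Ω} {t : G} {Q : Subgroup G}

local notation "H" => MulAction.stabilizer G a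

variable [Fintype G]

/-- `z` lists the coefficients of `Ind f`. -/
def IsCoef (f : H → ℂ) (z : Cfsg.IrrCharacter G → ℤ) : Prop :=
  ∀ χ : Cfsg.IrrCharacter G, Cfsg.classInner (Cfsg.indFun H f) (χ : G → ℂ) = (z χ : ℂ)

theorem exists_coef {f : H → ℂ} (hf : Cfsg.IsGeneralizedCharacter H f) :
    ∃ z, IsCoef f z := by
  choose z hz using fun χ : Cfsg.IrrCharacter G =>
    classInner_gen_int (isGen_indFun H hf) (isGen_of_isCharacter (irr_isCharacter χ))
  exact ⟨z, hz⟩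

variable [Fintype (Cfsg.IrrCharacter G)] (hS : Cfsg.IsRankOneSetup G Ω a t Q)

include hS

theorem IsCoef.inner [Fintype H] {f f' : H → ℂ} {z z' : Cfsg.IrrCharacter G → ℤ}
    (hz : IsCoef f z) (hz' : IsCoef f' z') (hf : Supp a f) (hf' : Supp a f') :
    Cfsg.classInner f f' = ((∑ χ, z χ * z' χ : ℤ) : ℂ) := by
  rw [← inner_indFun hS hf hf', classInner_eq_sum _ (indFun_isClassFunction H f)]
  push_cast
  refine Finset.sum_congr rfl fun χ _ => ?_
  rw [hz χ, classInner_conj_symm, hz' χ, map_intCast]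

variable {s : G} (hs : s ∈ Cfsg.involutionsIn (MulAction.stabilizer G a : Set G))
  (h2 : ∃ x y : G, x ≠ 1 ∧ y ≠ 1 ∧ x ≠ y ∧ x * x = 1 ∧ y * y = 1 ∧ x * y = y * x)

include hs h2

theorem IsCoef.sum_degree {f : H → ℂ} {z : Cfsg.IrrCharacter G → ℤ} (hz : IsCoef f z)
    (hf : Supp a f) : ∑ χ : Cfsg.IrrCharacter G, (z χ : ℂ) * (χ : G → ℂ) 1 = 0 := by
  rw [← RankOne.Char.sum_degree hS hs h2 hf]
  exact Finset.sum_congr rfl fun χ _ => by rw [hz χ]

theorem IsCoef.sum_P {f : H → ℂ} {z : Cfsg.IrrCharacter G → ℤ} (hz : IsCoef f z)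
    (hf : Supp a f) :
    ∑ χ : Cfsg.IrrCharacter G, (z χ : ℂ) * Pval a s (χ : G → ℂ) = 2 * f ⟨s, hs.1⟩ := by
  rw [← RankOne.Char.sum_P hS hs h2 hf]
  exact Finset.sum_congr rfl fun χ _ => by rw [hz χ]

theorem IsCoef.sum_P_sq {f : H → ℂ} {z : Cfsg.IrrCharacter G → ℤ} (hz : IsCoef f z)
    (hf : Supp a f) :
    ∑ χ : Cfsg.IrrCharacter G,
      (z χ : ℂ) * (Pval a s (χ : G → ℂ) ^ 2 / (χ : G → ℂ) 1) = 0 := by
  rw [← RankOne.Char.sum_P_sq hS hs h2 hf]
  exact Finset.sum_congr rfl fun χ _ => by rw [hz χ]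

omit hs h2

omit hS in
theorem coef_sub_irr [DecidableEq (Cfsg.IrrCharacter G)] {f : H → ℂ}
    {α β : Cfsg.IrrCharacter G} {e : ℤ}
    (h : Cfsg.indFun H f = (e : ℂ) • ((α : G → ℂ) - (β : G → ℂ))) :
    IsCoef f fun χ => e * ((if χ = α then 1 else 0) - (if χ = β then 1 else 0)) := by
  intro χ
  rw [h, classInner_smul_left, classInner_sub_left]
  rw [classInner_irr, classInner_irr]
  simp only [eq_comm (a := χ)]
  split_ifs <;> simp_all

omit hS in
/-- A set of irreducible characters of `G_a` with one coherent image. -/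
structure Coh (a : Ω) (B : Finset (Cfsg.IrrCharacter (MulAction.stabilizer G a))) (e : ℤ)
    (μ : Cfsg.IrrCharacter (MulAction.stabilizer G a) → Cfsg.IrrCharacter G) : Prop where
  two_le : 2 ≤ B.card
  supp : ∀ x ∈ B, ∀ y ∈ B, Supp a ((x : MulAction.stabilizer G a → ℂ) - (y : MulAction.stabilizer G a → ℂ))
  sign : e = 1 ∨ e = -1
  inj : Set.InjOn μ B
  eq : ∀ x ∈ B, ∀ y ∈ B, Cfsg.indFun (MulAction.stabilizer G a)
    ((x : MulAction.stabilizer G a → ℂ) - (y : MulAction.stabilizer G a → ℂ)) = (e : ℂ) • ((μ x : G → ℂ) - (μ y : G → ℂ))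

theorem exists_coh [Fintype H] (B : Finset (Cfsg.IrrCharacter H)) (hB : 2 ≤ B.card)
    (hsupp : ∀ x ∈ B, ∀ y ∈ B, Supp a ((x : H → ℂ) - (y : H → ℂ))) :
    ∃ e μ, Coh a B e μ := by
  classical
  set n := B.card
  let q : Fin n ≃ B := B.equivFin.symm
  let i₀ : Fin n := ⟨0, by omega⟩
  set τ : Fin n → (G → ℂ) := fun i =>
    Cfsg.indFun H (((q i : Cfsg.IrrCharacter H) : H → ℂ) - ((q i₀ : Cfsg.IrrCharacter H) : H → ℂ)) with hτ
  have hsi : ∀ i, Supp a (((q i : Cfsg.IrrCharacter H) : H → ℂ) - ((q i₀ : Cfsg.IrrCharacter H) : H → ℂ)) :=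
    fun i => hsupp _ (q i).2 _ (q i₀).2
  have h0 : τ i₀ = 0 := by rw [hτ]; simp [indFun_zero]
  have hgen : ∀ i, Cfsg.IsGeneralizedCharacter G (τ i) := fun i => isGen_indFun H
    (isGen_sub (isGen_of_isCharacter (irr_isCharacter _)) (isGen_of_isCharacter (irr_isCharacter _)))
  have hone : ∀ i, τ i 1 = 0 := fun i => by
    rw [hτ]; simp only; rw [indFun_one, Supp.map_one hS (hsi i), mul_zero]
  have hgram : ∀ i j, i ≠ i₀ → j ≠ i₀ →
      Cfsg.classInner (τ i) (τ j) = if i = j then 2 else 1 := by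
    intro i j hi hj
    rw [hτ]; simp only
    rw [inner_indFun hS (hsi i) (hsi j)]
    simp only [classInner_sub_left, classInner_sub_right, classInner_irr, Subtype.coe_inj,
      q.injective.eq_iff]
    rw [if_neg hi, if_neg (Ne.symm hj)]
    simp only [if_true]
    split_ifs <;> norm_num
  obtain ⟨ε, hε, m, hm, hinj, heq⟩ := exists_coherent_family i₀ τ h0 hgen hone hgram
  obtain ⟨e, he, rfl⟩ : ∃ e : ℤ, (e = 1 ∨ e = -1) ∧ ε = (e : ℂ) := by
    rcases hε with rfl | rfl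
    · exact ⟨1, Or.inl rfl, by simp⟩
    · exact ⟨-1, Or.inr rfl, by simp⟩
  let μ : Cfsg.IrrCharacter H → Cfsg.IrrCharacter G := fun x =>
    if hx : x ∈ B then ⟨m (q.symm ⟨x, hx⟩), hm _⟩ else trivIrr G
  refine ⟨e, μ, hB, hsupp, he, fun x hx y hy h => ?_, fun x hx y hy => ?_⟩
  · simp only [μ, dif_pos (Finset.mem_coe.1 hx), dif_pos (Finset.mem_coe.1 hy), Subtype.mk.injEq]
      at h
    exact congrArg Subtype.val (q.symm.injective (hinj h))
  · have hx' := heq (q.symm ⟨x, hx⟩)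
    have hy' := heq (q.symm ⟨y, hy⟩)
    simp only [hτ, Equiv.apply_symm_apply] at hx' hy'
    rw [show (x : H → ℂ) - (y : H → ℂ) = ((x : H → ℂ) - ((q i₀ : Cfsg.IrrCharacter H) : H → ℂ)) -
      ((y : H → ℂ) - ((q i₀ : Cfsg.IrrCharacter H) : H → ℂ)) from (sub_sub_sub_cancel_right _ _ _).symm,
      indFun_sub, hx', hy', ← smul_sub, sub_sub_sub_cancel_right]
    simp only [μ, dif_pos hx, dif_pos hy]

variable {B : Finset (Cfsg.IrrCharacter (MulAction.stabilizer G a))} {e : ℤ}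
  {μ : Cfsg.IrrCharacter (MulAction.stabilizer G a) → Cfsg.IrrCharacter G}

omit hS in
theorem Coh.sign_sq (hB : Coh a B e μ) : e * e = 1 := by
  rcases hB.sign with h | h <;> simp [h]

omit hS in
theorem Coh.exists_ne (hB : Coh a B e μ) (x : Cfsg.IrrCharacter H) : ∃ y ∈ B, y ≠ x :=
  Finset.exists_mem_ne hB.two_le x

omit hS in
open Classical in
theorem Coh.coef (hB : Coh a B e μ) {x y : Cfsg.IrrCharacter H} (hx : x ∈ B) (hy : y ∈ B) :
    IsCoef ((x : H → ℂ) - (y : H → ℂ))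
      fun χ => e * ((if χ = μ x then 1 else 0) - (if χ = μ y then 1 else 0)) :=
  coef_sub_irr (hB.eq x hx y hy)

/-- The coefficient of `Ind f` on a family, from the inner product with a difference. -/
theorem Coh.coef_diff [Fintype H] (hB : Coh a B e μ) {x y : Cfsg.IrrCharacter H} (hx : x ∈ B)
    (hy : y ∈ B) {f : H → ℂ} {z : Cfsg.IrrCharacter G → ℤ} (hz : IsCoef f z) (hf : Supp a f) :
    Cfsg.classInner f ((x : H → ℂ) - (y : H → ℂ)) = ((e * (z (μ x) - z (μ y)) : ℤ) : ℂ) := by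
  classical
  rw [hz.inner hS (hB.coef hx hy) hf (hB.supp x hx y hy)]
  congr 1
  simp only [mul_sub, Finset.sum_sub_distrib, mul_ite, mul_one, mul_zero, Finset.sum_ite_eq',
    Finset.mem_univ, if_true]
  ring

/-- Disjoint families have disjoint images. -/
theorem Coh.disjoint [Fintype H] {B' : Finset (Cfsg.IrrCharacter H)} {e' : ℤ}
    {μ' : Cfsg.IrrCharacter H → Cfsg.IrrCharacter G} (hB : Coh a B e μ) (hB' : Coh a B' e' μ')
    (hd : Disjoint B B') {x x' : Cfsg.IrrCharacter H} (hx : x ∈ B) (hx' : x' ∈ B') :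
    μ x ≠ μ' x' := by
  classical
  intro h
  obtain ⟨y, hy, hyx⟩ := hB.exists_ne x
  obtain ⟨y', hy', hyx'⟩ := hB'.exists_ne x'
  have hne : ∀ {u v : Cfsg.IrrCharacter H}, u ∈ B → v ∈ B' → u ≠ v := fun hu hv e =>
    Finset.disjoint_left.1 hd hu (e ▸ hv)
  have h1 := hB'.coef_diff hS hx' hy' (hB.coef hx hy) (hB.supp x hx y hy)
  have h0 : Cfsg.classInner ((x : H → ℂ) - (y : H → ℂ)) ((x' : H → ℂ) - (y' : H → ℂ)) = 0 := by
    simp only [classInner_sub_left, classInner_sub_right, classInner_irr, if_neg (hne hx hx'),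
      if_neg (hne hx hy'), if_neg (hne hy hx'), if_neg (hne hy hy'), sub_zero]
  rw [h0] at h1
  have h2' : μ x ≠ μ y := fun q => hyx (hB.inj hy hx q.symm)
  have h3 : μ' y' ≠ μ x := fun q => hyx' (hB'.inj hy' hx' (q.trans h))
  have h4 : (e' * (e * ((if μ' x' = μ x then (1 : ℤ) else 0) - (if μ' x' = μ y then 1 else 0)) -
      e * ((if μ' y' = μ x then 1 else 0) - (if μ' y' = μ y then 1 else 0)))) = 0 := by
    exact_mod_cast h1.symm
  rw [← h, if_pos rfl, if_neg h2', if_neg h3] at h4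
  rcases hB.sign with rfl | rfl <;> rcases hB'.sign with rfl | rfl <;> split_ifs at h4 <;> omega

end Cfsg.Agent.Involutions.RankOne.Char
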