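import Cfsg.Agent.Lib.Involutions.RankOne.Nilpotent
import Cfsg.Agent.Lib.Characters.Counting
import Cfsg.Agent.Lib.Characters.Induction

/-!
# Class functions supported on the elements fixing only `a`

For such a class function `f` of `G_a`, with `a χ = (Ind f, χ)` and `s` an involution of `G_a`:
`∑ aχ χ(1) = 0`, `∑ aχ χ(s) = f s`, `∑ aχ χ(s)²/χ(1) = r · f s`.
-/

set_option autoImplicit false
set_option linter.unusedSectionVars false

namespace Cfsg.Agent.Involutions.RankOne.Char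

open MulAction Involutions.Basic
open Cfsg.Agent.Characters
open scoped ComplexConjugate

universe u v

variable {G : Type u} {Ω : Type v} [Group G] [MulAction G Ω] {a : Ω} {t : G} {Q : Subgroup G}

local notation "H" => MulAction.stabilizer G a

/-- A class function of `G_a` vanishing on the elements with a second fixed point. -/
def Supp (a : Ω) (f : MulAction.stabilizer G a → ℂ) : Prop :=
  Cfsg.IsClassFunction (MulAction.stabilizer G a) f ∧
    ∀ h : MulAction.stabilizer G a, (∃ c : Ω, c ≠ a ∧ (h : G) • c = c) → f h = 0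

theorem Supp.sub {f f' : H → ℂ} (hf : Supp a f) (hf' : Supp a f') : Supp a (f - f') :=
  ⟨fun g h => by simp [hf.1 g h, hf'.1 g h], fun h hc => by simp [hf.2 h hc, hf'.2 h hc]⟩

theorem Supp.add {f f' : H → ℂ} (hf : Supp a f) (hf' : Supp a f') : Supp a (f + f') :=
  ⟨fun g h => by simp [hf.1 g h, hf'.1 g h], fun h hc => by simp [hf.2 h hc, hf'.2 h hc]⟩

theorem Supp.smul (c : ℂ) {f : H → ℂ} (hf : Supp a f) : Supp a (c • f) :=
  ⟨fun g h => by simp [hf.1 g h], fun h hc => by simp [hf.2 h hc]⟩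

variable [Fintype G] (hS : Cfsg.IsRankOneSetup G Ω a t Q)

include hS

theorem Supp.map_one {f : H → ℂ} (hf : Supp a f) : f 1 = 0 :=
  hf.2 1 ⟨t • a, b_ne hS, by simp⟩

/-- The induced function at an element fixing only `a`. -/
theorem indFun_eq {f : H → ℂ} (hf : Supp a f) {g : G} (hg : g ∈ H)
    (h1 : ∀ c : Ω, g • c = c → c = a) : Cfsg.indFun H f g = f ⟨g, hg⟩ := by
  classical
  have key : ∀ x : G, Cfsg.extendByZero H f (x⁻¹ * g * x) =
      if x ∈ H then f ⟨g, hg⟩ else 0 := by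
    intro x
    by_cases hx : x ∈ H
    · rw [if_pos hx,
        show x⁻¹ * g * x = ((⟨x, hx⟩⁻¹ * ⟨g, hg⟩ * ⟨x, hx⟩ : H) : G) from rfl,
        CharTheory.IndBasic.extendByZero_coe]
      simpa using hf.1 ⟨g, hg⟩ (⟨x, hx⟩⁻¹ : H)
    · rw [if_neg hx]
      by_cases hc : x⁻¹ * g * x ∈ H
      · rw [show x⁻¹ * g * x = ((⟨_, hc⟩ : H) : G) from rfl,
          CharTheory.IndBasic.extendByZero_coe]
        refine hf.2 _ ⟨x⁻¹ • a, fun e => hx ?_, ?_⟩
        · show x • a = a
          conv_lhs => rw [← e]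
          rw [smul_inv_smul]
        · show (x⁻¹ * g * x) • x⁻¹ • a = x⁻¹ • a
          rw [mul_smul, smul_inv_smul, mul_smul, show g • a = a from hg]
      · exact CharTheory.IndBasic.extendByZero_of_notMem H f hc
  simp only [Cfsg.indFun, key]
  rw [← Finset.sum_filter, Finset.sum_const, nsmul_eq_mul, ← mul_assoc]
  have hcard : (Finset.univ.filter fun x : G => x ∈ H).card = Nat.card H := by
    rw [Nat.card_eq_fintype_card, Fintype.card_subtype]
  rw [hcard, inv_mul_cancel₀ (Nat.cast_ne_zero.2 Nat.card_pos.ne'), one_mul]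

/-- The induced function vanishes at elements which do not fix exactly one point. -/
theorem indFun_eq_zero {f : H → ℂ} (hf : Supp a f) {g : G}
    (h : ∀ c : Ω, g • c = c → ∃ c' : Ω, c' ≠ c ∧ g • c' = c') : Cfsg.indFun H f g = 0 := by
  classical
  refine mul_eq_zero_of_right _ (Finset.sum_eq_zero fun x _ => ?_)
  by_cases hc : x⁻¹ * g * x ∈ H
  · rw [show x⁻¹ * g * x = ((⟨_, hc⟩ : H) : G) from rfl, CharTheory.IndBasic.extendByZero_coe]
    have h1 : g • x • a = x • a := by
      have h2 : (x⁻¹ * g * x) • a = a := hc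
      rwa [mul_smul, mul_smul, inv_smul_eq_iff] at h2
    obtain ⟨c', hne, hc'⟩ := h _ h1
    refine hf.2 _ ⟨x⁻¹ • c', fun e => hne ?_, ?_⟩
    · rw [← e, smul_inv_smul]
    · show (x⁻¹ * g * x) • x⁻¹ • c' = x⁻¹ • c'
      rw [mul_smul, smul_inv_smul, mul_smul, hc']
  · exact CharTheory.IndBasic.extendByZero_of_notMem H f hc

/-- Induction is an isometry on `Supp`. -/
theorem inner_indFun [Fintype H] {f f' : H → ℂ} (hf : Supp a f) (hf' : Supp a f') :
    Cfsg.classInner (Cfsg.indFun H f) (Cfsg.indFun H f') = Cfsg.classInner f f' := by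
  rw [frobenius_reciprocity H f (indFun_isClassFunction H f'), classInner_def, classInner_def]
  congr 1
  refine Finset.sum_congr rfl fun h _ => ?_
  by_cases hh : ∃ c : Ω, c ≠ a ∧ (h : G) • c = c
  · rw [hf.2 h hh, zero_mul, zero_mul]
  · push Not at hh
    simp only [indFun_eq hS hf' h.2 fun c hc => by_contra fun hne => hh c hne hc]

variable {s : G} (hs : s ∈ Cfsg.involutionsIn (MulAction.stabilizer G a : Set G))

include hs

theorem fixed_only {c : Ω} (hc : s • c = c) : c = a :=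
  eq_a_of_fixed hS (involution_mem hS hs.1 hs.2.2) hs.2.1 hc

theorem supp_const {f : H → ℂ} (hf : Supp a f) {e : G} (he : e ∈ Cfsg.involutionsIn (H : Set G)) :
    f ⟨e, he.1⟩ = f ⟨s, hs.1⟩ := by
  obtain ⟨k, hk, rfl⟩ := exists_K hS hs he
  exact hf.1 ⟨s, hs.1⟩ ⟨k, hk.1.1⟩

theorem indFun_at {f : H → ℂ} (hf : Supp a f) : Cfsg.indFun H f s = f ⟨s, hs.1⟩ :=
  indFun_eq hS hf hs.1 fun _ hc => fixed_only hS hs hc

variable (h2 : ∃ x y : G, x ≠ 1 ∧ y ≠ 1 ∧ x ≠ y ∧ x * x = 1 ∧ y * y = 1 ∧ x * y = y * x)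

/-- `r = (|G_a| - |C(s)|)/|G|`. -/
noncomputable def ratio (a : Ω) (s : G) : ℂ :=
  ((Nat.card (MulAction.stabilizer G a) : ℂ) - Nat.card (Subgroup.centralizer ({s} : Set G))) /
    Nat.card G

include h2

/-- The class sum identity. -/
theorem sum_conjugates {f : H → ℂ} (hf : Supp a f) :
    ∑ x : G, Cfsg.indFun H f (s * (x * s * x⁻¹)) =
      ((Nat.card H : ℂ) - Nat.card (Subgroup.centralizer ({s} : Set G))) * f ⟨s, hs.1⟩ := by
  classical
  have hsa : s • a = a := hs.1
  have hCH : Subgroup.centralizer ({s} : Set G) ≤ H := fun x hx => fixed_only hS hs (c := x • a) (by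
    rw [Subgroup.mem_centralizer_singleton_iff] at hx
    calc s • x • a = (s * x) • a := smul_smul s x a
      _ = (x * s) • a := by rw [hx]
      _ = x • a := by rw [mul_smul, hsa])
  have key : ∀ x : G, Cfsg.indFun H f (s * (x * s * x⁻¹)) =
      ((if x ∈ H then (1 : ℂ) else 0) -
        if x ∈ Subgroup.centralizer ({s} : Set G) then 1 else 0) * f ⟨s, hs.1⟩ := by
    intro x
    by_cases hxC : x ∈ Subgroup.centralizer ({s} : Set G)
    · have hx1 : x * s * x⁻¹ = s := by
        rw [Subgroup.mem_centralizer_singleton_iff.1 hxC, mul_inv_cancel_right]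
      have h0 : Cfsg.indFun H f (s * s) = 0 :=
        (congrArg (Cfsg.indFun H f) hs.2.2).trans
          (by rw [indFun_one, Supp.map_one hS hf, mul_zero])
      rw [hx1, h0, if_pos (hCH hxC), if_pos hxC, sub_self, zero_mul]
    rw [if_neg hxC, sub_zero]
    set u := x * s * x⁻¹ with hu
    have hu1 : u ≠ 1 := fun e => hs.2.1 (conj_eq_one_iff.1 e)
    have hu2 : u * u = 1 := by
      rw [hu, show x * s * x⁻¹ * (x * s * x⁻¹) = x * (s * s) * x⁻¹ by group, hs.2.2]; group
    have hus : u ≠ s := fun e => hxC (Subgroup.mem_centralizer_singleton_iff.2 (by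
      rw [hu] at e
      exact mul_inv_eq_iff_eq_mul.1 e))
    by_cases hxH : x ∈ H
    · rw [if_pos hxH, one_mul]
      have huI : u ∈ Cfsg.involutionsIn (H : Set G) := conj_mem_involutions hS hs hxH
      rcases involutions_closed hS h2 hs huI with h | h
      · exact absurd ((eq_inv_of_mul_eq_one_right h).trans (inv_eq_of_mul_eq_one_left hs.2.2)) hus
      · rw [indFun_at hS h hf]
        exact supp_const hS hs hf h
    · rw [if_neg hxH, zero_mul]
      refine indFun_eq_zero hS hf fun c hc => ⟨u • c, fun e => hxH ?_, ?_⟩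
      · have h1 : s • c = c := by rw [mul_smul, e] at hc; exact hc
        have hca : c = a := fixed_only hS hs h1
        subst hca
        have h3 : s • (x⁻¹ • c) = x⁻¹ • c := by
          rw [hu, mul_smul, mul_smul] at e
          exact eq_inv_smul_iff.2 e
        have h4 := fixed_only hS hs h3
        show x • c = c
        conv_lhs => rw [← h4]
        rw [smul_inv_smul]
      · have h1 : (s * u) * u = u * (s * u)⁻¹ := by
          rw [mul_inv_rev, inv_eq_of_mul_eq_one_left hu2, inv_eq_of_mul_eq_one_left hs.2.2,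
            mul_assoc, hu2, mul_one, ← mul_assoc, hu2, one_mul]
        rw [smul_smul, h1, mul_smul, inv_smul_eq_iff.2 hc.symm]
  simp only [key, ← Finset.sum_mul, Finset.sum_sub_distrib, Finset.sum_boole]
  congr 2
  · rw [Nat.card_eq_fintype_card, Fintype.card_subtype]
  · rw [Nat.card_eq_fintype_card, Fintype.card_subtype]

/-- `Pval χ = 2 χ(s) - r χ(1)`. -/
noncomputable def Pval (a : Ω) (s : G) (χ : G → ℂ) : ℂ := 2 * χ s - ratio a s * χ 1

section Equations

variable [Fintype (Cfsg.IrrCharacter G)]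

theorem sum_degree {f : H → ℂ} (hf : Supp a f) :
    ∑ χ : Cfsg.IrrCharacter G,
      Cfsg.classInner (Cfsg.indFun H f) (χ : G → ℂ) * (χ : G → ℂ) 1 = 0 := by
  have h := congrFun (classFun_eq_sum (indFun_isClassFunction H f)) 1
  simp only [Finset.sum_apply, Pi.smul_apply, smul_eq_mul] at h
  rw [← h, indFun_one, Supp.map_one hS hf, mul_zero]

theorem sum_value {f : H → ℂ} (hf : Supp a f) :
    ∑ χ : Cfsg.IrrCharacter G,
      Cfsg.classInner (Cfsg.indFun H f) (χ : G → ℂ) * (χ : G → ℂ) s = f ⟨s, hs.1⟩ := by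
  have h := congrFun (classFun_eq_sum (indFun_isClassFunction H f)) s
  simp only [Finset.sum_apply, Pi.smul_apply, smul_eq_mul] at h
  rw [← h, indFun_at hS hs hf]

theorem sum_square {f : H → ℂ} (hf : Supp a f) :
    ∑ χ : Cfsg.IrrCharacter G, Cfsg.classInner (Cfsg.indFun H f) (χ : G → ℂ) *
      ((χ : G → ℂ) s ^ 2 / (χ : G → ℂ) 1) = ratio a s * f ⟨s, hs.1⟩ := by
  have hG : (Nat.card G : ℂ) ≠ 0 := natCard_ne_zero
  have h := sum_conjugates hS hs h2 hf
  have hexp : ∀ g : G, Cfsg.indFun H f g = ∑ χ : Cfsg.IrrCharacter G,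
      Cfsg.classInner (Cfsg.indFun H f) (χ : G → ℂ) * (χ : G → ℂ) g := fun g => by
    have h := congrFun (classFun_eq_sum (indFun_isClassFunction H f)) g
    simpa only [Finset.sum_apply, Pi.smul_apply, smul_eq_mul] using h
  simp only [hexp (s * (_ * s * _⁻¹))] at h
  rw [Finset.sum_comm] at h
  simp only [← Finset.mul_sum, fun χ : Cfsg.IrrCharacter G => sum_mul_conjugates χ.2 s s] at h
  rw [ratio, div_mul_eq_mul_div, ← h, Finset.sum_div]
  refine Finset.sum_congr rfl fun χ _ => ?_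
  field_simp

/-- `∑ aχ Pχ = 2 f(s)`. -/
theorem sum_P {f : H → ℂ} (hf : Supp a f) :
    ∑ χ : Cfsg.IrrCharacter G,
      Cfsg.classInner (Cfsg.indFun H f) (χ : G → ℂ) * Pval a s χ = 2 * f ⟨s, hs.1⟩ := by
  rw [← sum_value hS hs h2 hf, Finset.mul_sum, ← sub_zero (∑ χ : Cfsg.IrrCharacter G, 2 * _),
    ← mul_zero (ratio a s), ← sum_degree hS hs h2 hf, Finset.mul_sum, ← Finset.sum_sub_distrib]
  exact Finset.sum_congr rfl fun χ _ => by rw [Pval]; ring

/-- `∑ aχ Pχ²/χ(1) = 0`. -/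
theorem sum_P_sq {f : H → ℂ} (hf : Supp a f) :
    ∑ χ : Cfsg.IrrCharacter G,
      Cfsg.classInner (Cfsg.indFun H f) (χ : G → ℂ) * (Pval a s χ ^ 2 / (χ : G → ℂ) 1) = 0 := by
  have key : ∀ χ : Cfsg.IrrCharacter G,
      Cfsg.classInner (Cfsg.indFun H f) (χ : G → ℂ) * (Pval a s χ ^ 2 / (χ : G → ℂ) 1) =
        4 * (Cfsg.classInner (Cfsg.indFun H f) (χ : G → ℂ) *
          ((χ : G → ℂ) s ^ 2 / (χ : G → ℂ) 1)) -
        4 * ratio a s * (Cfsg.classInner (Cfsg.indFun H f) (χ : G → ℂ) * (χ : G → ℂ) s) +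
        ratio a s ^ 2 * (Cfsg.classInner (Cfsg.indFun H f) (χ : G → ℂ) * (χ : G → ℂ) 1) := by
    intro χ
    have h1 := irr_one_ne_zero χ.2
    rw [Pval]
    field_simp
    ring
  simp only [key, Finset.sum_add_distrib, Finset.sum_sub_distrib, ← Finset.mul_sum,
    sum_square hS hs h2 hf, sum_value hS hs h2 hf, sum_degree hS hs h2 hf]
  ring

omit h2 in
theorem P_real (χ : Cfsg.IrrCharacter G) : conj (Pval a s (χ : G → ℂ)) = Pval a s (χ : G → ℂ) := by
  have h1 : conj ((χ : G → ℂ) s) = (χ : G → ℂ) s := by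
    rw [← char_inv (irr_isCharacter χ), inv_eq_of_mul_eq_one_left hs.2.2]
  obtain ⟨n, hn⟩ := char_one_nat (irr_isCharacter χ)
  simp [Pval, ratio, h1, hn, map_ofNat]

omit h2 in
theorem sum_all_P_sq :
    ∑ χ : Cfsg.IrrCharacter G, Pval a s (χ : G → ℂ) ^ 2 =
      4 * (Nat.card (Subgroup.centralizer ({s} : Set G)) : ℂ) +
        ratio a s ^ 2 * (Nat.card G : ℂ) := by
  classical
  have h1 := second_orthogonality s s
  rw [if_pos (IsConj.refl s)] at h1
  have h3 : ∑ χ : Cfsg.IrrCharacter G, (χ : G → ℂ) 1 * conj ((χ : G → ℂ) s) = 0 := by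
    rw [second_orthogonality, if_neg]
    intro e
    exact hs.2.1 (isConj_one_right.1 e)
  have h4 := sum_degree_sq (G := G)
  have hinv : s⁻¹ = s := inv_eq_of_mul_eq_one_left hs.2.2
  have hc : ∀ χ : Cfsg.IrrCharacter G, conj ((χ : G → ℂ) s) = (χ : G → ℂ) s := fun χ =>
    (char_inv (irr_isCharacter χ) s).symm.trans (congrArg _ hinv)
  simp only [hc] at h1 h3
  have key : ∀ χ : Cfsg.IrrCharacter G, Pval a s (χ : G → ℂ) ^ 2 =
      4 * ((χ : G → ℂ) s * (χ : G → ℂ) s) - 4 * ratio a s * ((χ : G → ℂ) 1 * (χ : G → ℂ) s) +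
        ratio a s ^ 2 * (χ : G → ℂ) 1 ^ 2 := fun χ => by rw [Pval]; ring
  simp only [key, Finset.sum_add_distrib, Finset.sum_sub_distrib, ← Finset.mul_sum, h1, h3, h4]
  ring

omit h2 in
/-- The counting inequality. -/
theorem master {ι : Type*} [Fintype ι] (χ : ι → Cfsg.IrrCharacter G) (c : ℝ) (w : ι → ℕ)
    {d : ℕ} (hfib : ∀ x, Nat.card {j // χ j = x} ≤ d)
    (hP : ∀ j, Pval a s (χ j : G → ℂ) ^ 2 = (((c * w j) ^ 2 : ℝ) : ℂ)) :
    c ^ 2 * ∑ j, (w j : ℝ) ^ 2 ≤ d *
      (4 * (Nat.card (Subgroup.centralizer ({s} : Set G)) : ℝ) +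
        (((Nat.card H : ℝ) - Nat.card (Subgroup.centralizer ({s} : Set G))) / Nat.card G) ^ 2 *
          Nat.card G) := by
  classical
  set Pr : Cfsg.IrrCharacter G → ℝ := fun x => (Pval a s (x : G → ℂ)).re with hPr
  have hcast : ∀ x : Cfsg.IrrCharacter G, ((Pr x : ℝ) : ℂ) = Pval a s (x : G → ℂ) := fun x =>
    Complex.conj_eq_iff_re.1 (P_real hS hs x)
  have hj : ∀ j, Pr (χ j) ^ 2 = (c * w j) ^ 2 := fun j => Complex.ofReal_injective (by
    rw [Complex.ofReal_pow, hcast, hP j])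
  have hall : ∑ x, Pr x ^ 2 = 4 * (Nat.card (Subgroup.centralizer ({s} : Set G)) : ℝ) +
      (((Nat.card H : ℝ) - Nat.card (Subgroup.centralizer ({s} : Set G))) / Nat.card G) ^ 2 *
        Nat.card G := Complex.ofReal_injective (by
    push_cast
    simp only [hcast]
    rw [sum_all_P_sq hS hs, ratio])
  rw [← hall, Finset.mul_sum]
  calc ∑ j, c ^ 2 * (w j : ℝ) ^ 2 = ∑ j, Pr (χ j) ^ 2 :=
        Finset.sum_congr rfl fun j _ => by rw [hj, mul_pow]
    _ = ∑ x, ∑ j ∈ Finset.univ.filter (fun j => χ j = x), Pr (χ j) ^ 2 :=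
        (Finset.sum_fiberwise _ _ _).symm
    _ ≤ ∑ x, (d : ℝ) * Pr x ^ 2 := by
        refine Finset.sum_le_sum fun x _ => ?_
        rw [Finset.sum_congr rfl (g := fun _ => Pr x ^ 2) fun j hj => by
          rw [(Finset.mem_filter.1 hj).2], Finset.sum_const, nsmul_eq_mul]
        refine mul_le_mul_of_nonneg_right (Nat.cast_le.2 ?_) (sq_nonneg _)
        have := hfib x
        rwa [Nat.card_eq_fintype_card, Fintype.card_subtype] at this
    _ = _ := (Finset.mul_sum _ _ _).symm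

end Equations

end Cfsg.Agent.Involutions.RankOne.Char
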